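import Mathlib
import Cfsg.Agent.H51.Crit
import Cfsg.Agent.H487.SchurTransfer
import Cfsg.Agent.H487.SchurPerfect

/-!
# Trivial Schur multipliers (not necessarily perfect groups)

* `hasTrivial_of_local`: `HasCyclicSchurMultiplier G 1` if for every prime `r` there is a subgroup `P` of index prime
  to `r` such that the kernel of no central extension meets the commutator subgroup of the preimage of `P`.
* `TrivLoc P`: the local condition; `TrivLoc.of_cyclic`, `TrivLoc.of_quaternion`.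
-/

set_option autoImplicit false
set_option linter.style.haveILetI false

namespace Cfsg.Agent.H68.StemLoc

open Subgroup Cfsg.Agent.H51.Crit
open scoped commutatorElement

universe u v w

/-- the kernel of every central extension of `G` meets the commutator subgroup of the preimage of `P` trivially -/
def TrivLoc {G : Type u} [Group G] (P : Subgroup G) : Prop :=
  ∀ (Γ : Type u) [Group Γ] [Finite Γ] (σ : Γ →* G), Function.Surjective σ → σ.ker ≤ center Γ →
    ∀ c ∈ ⁅P.comap σ, P.comap σ⁆, σ c = 1 → c = 1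

theorem hasTrivial_of_local {G : Type u} [Group G] [Finite G]
    (h : ∀ r : ℕ, r.Prime → ∃ P : Subgroup G, ¬ r ∣ P.index ∧ TrivLoc P) : Cfsg.HasCyclicSchurMultiplier G 1 := by
  apply Cfsg.Agent.H487.hasCyclicSchurMultiplier_one_of
  intro Γ _ _ σ ⟨hs, hz, hc⟩
  by_contra hne
  have hcard : Nat.card σ.ker ≠ 1 := fun h1 => hne (Subgroup.card_eq_one.1 h1)
  obtain ⟨r, hr, hrd⟩ := Nat.exists_prime_and_dvd hcard
  haveI : Fact r.Prime := ⟨hr⟩
  obtain ⟨⟨c, hck⟩, hord⟩ := exists_prime_orderOf_dvd_card' (G := σ.ker) r hrd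
  have hcr : c ^ r = 1 := by
    have : (⟨c, hck⟩ : σ.ker) ^ r = 1 := by rw [← hord, pow_orderOf_eq_one]
    exact congrArg Subtype.val this
  obtain ⟨P, hP, hloc⟩ := h r hr
  have h1 := Cfsg.Agent.H487.pow_index_mem_commutator (P.comap σ) (hz hck) (hc hck)
  rw [Subgroup.index_comap_of_surjective P hs] at h1
  -- `c` is a power of `c ^ P.index`
  have h2 : c ∈ ⁅P.comap σ, P.comap σ⁆ := by
    have hcop : Nat.Coprime P.index r := ((Nat.Prime.coprime_iff_not_dvd hr).2 hP).symm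
    have h3 := Nat.gcd_eq_gcd_ab P.index r
    rw [hcop.gcd_eq_one, Nat.cast_one] at h3
    have h4 : c = (c ^ P.index) ^ (Nat.gcdA P.index r) := by
      calc c = c ^ (1 : ℤ) := (zpow_one c).symm
        _ = c ^ ((P.index : ℤ) * Nat.gcdA P.index r + (r : ℤ) * Nat.gcdB P.index r) := by rw [← h3]
        _ = (c ^ P.index) ^ (Nat.gcdA P.index r) * (c ^ r) ^ (Nat.gcdB P.index r) := by
            rw [zpow_add, zpow_mul, zpow_mul, zpow_natCast, zpow_natCast]
        _ = (c ^ P.index) ^ (Nat.gcdA P.index r) := by rw [hcr, one_zpow, mul_one]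
    rw [h4]
    exact zpow_mem h1 _
  have h5 := hloc Γ σ hs hz c h2 hck
  have h6 : (⟨c, hck⟩ : σ.ker) = 1 := Subtype.ext h5
  rw [h6, orderOf_one] at hord
  exact hr.one_lt.ne hord

/-- commutative preimages -/
theorem TrivLoc.of_comm {G : Type u} [Group G] {P : Subgroup G}
    (h : ∀ (Γ : Type u) [Group Γ] [Finite Γ] (σ : Γ →* G), Function.Surjective σ → σ.ker ≤ center Γ →
      ∀ x y : Γ, σ x ∈ P → σ y ∈ P → x * y = y * x) : TrivLoc P := by
  intro Γ _ _ σ hs hz c hc _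
  have h1 : ⁅P.comap σ, P.comap σ⁆ ≤ ⊥ := by
    rw [commutator_le]
    intro a ha b hb
    rw [mem_bot, commutatorElement_eq_one_iff_mul_comm]
    exact h Γ σ hs hz a b ha hb
  exact mem_bot.1 (h1 hc)

theorem TrivLoc.of_cyclic {G : Type u} [Group G] {P : Subgroup G} (hP : IsCyclic P) : TrivLoc P := by
  apply TrivLoc.of_comm
  intro Γ _ _ σ hs hz x y hx hy
  obtain ⟨⟨g, hg⟩, hgen⟩ := hP.exists_generator
  obtain ⟨g', hg'⟩ := hs g
  have key : ∀ x : Γ, σ x ∈ P → ∃ (k : ℤ) (z : Γ), (∀ w, Commute z w) ∧ x = g' ^ k * z := by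
    intro x hx
    obtain ⟨k, hk⟩ := mem_zpowers_iff.1 (hgen ⟨σ x, hx⟩)
    have hk' : g ^ k = σ x := congrArg Subtype.val hk
    refine ⟨k, (g' ^ k)⁻¹ * x, fun w => ?_, by group⟩
    have h1 : (g' ^ k)⁻¹ * x ∈ σ.ker := by
      rw [MonoidHom.mem_ker, map_mul, map_inv, map_zpow, hg', hk', inv_mul_cancel]
    exact (mem_center_iff.1 (hz h1) w).symm
  obtain ⟨k, z, hz1, rfl⟩ := key x hx
  obtain ⟨l, w, hw1, rfl⟩ := key y hy
  have h4 : Commute (g' ^ k) (g' ^ l) := (Commute.refl g').zpow_zpow k l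
  exact ((h4.mul_right (hw1 (g' ^ k)).symm).mul_left ((hz1 (g' ^ l)).mul_right (hz1 w))).eq

/-- the commutator subgroup of the preimage of a subgroup generated by the image of `S` -/
theorem commutator_comap_le' {Γ : Type u} {G : Type v} [Group Γ] [Group G] {σ : Γ →* G} (hz : σ.ker ≤ center Γ)
    {S : Set Γ} {M : Subgroup Γ} {P : Subgroup G} (hP : P ≤ closure (σ '' S))
    (hn : ∀ s ∈ S, ∀ m ∈ M, s * m * s⁻¹ ∈ M ∧ s⁻¹ * m * s ∈ M) (hc : ∀ s ∈ S, ∀ t ∈ S, ⁅s, t⁆ ∈ M) :
    ⁅P.comap σ, P.comap σ⁆ ≤ M := by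
  have hP' : P.comap σ ≤ closure (S ∪ (σ.ker : Set Γ)) := by
    refine (Subgroup.comap_mono hP).trans ?_
    rw [← MonoidHom.map_closure, Subgroup.comap_map_eq, Subgroup.closure_union, Subgroup.closure_eq]
  refine (Subgroup.commutator_mono hP' hP').trans ?_
  have hzc : ∀ z ∈ (σ.ker : Set Γ), ∀ g : Γ, z * g = g * z := by
    intro z hz' g
    exact (mem_center_iff.1 (hz hz') g).symm
  apply commutator_closure_le
  · rintro s (hs | hs) m hm
    · exact hn s hs m hm
    · have h2 := hzc s hs m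
      constructor
      · rw [h2, mul_inv_cancel_right]; exact hm
      · rw [mul_assoc, ← h2, inv_mul_cancel_left]; exact hm
  · rintro s (hs | hs) t (ht | ht)
    · exact hc s hs t ht
    · rw [commutatorElement_eq_one_iff_mul_comm.2 (hzc t ht s).symm]; exact one_mem _
    · rw [commutatorElement_eq_one_iff_mul_comm.2 (hzc s hs t)]; exact one_mem _
    · rw [commutatorElement_eq_one_iff_mul_comm.2 (hzc s hs t)]; exact one_mem _

/-- **(Generalised) quaternion subgroups.** -/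
theorem TrivLoc.of_quaternion {G : Type u} [Group G] {P : Subgroup G} {n : ℕ} [NeZero n]
    (e : P ≃* QuaternionGroup n) : TrivLoc P := by
  intro Γ _ _ σ hs hz c hc hc1
  let a : G := e.symm (QuaternionGroup.a 1)
  let b : G := e.symm (QuaternionGroup.xa 0)
  have ha : ∀ i : ℕ, a ^ i = e.symm (QuaternionGroup.a (i : ZMod (2 * n))) := by
    intro i
    show ((e.symm (QuaternionGroup.a 1) : P) : G) ^ i = _
    rw [← Subgroup.coe_pow, ← map_pow, QuaternionGroup.a_one_pow]
  have hb2 : b * b = a ^ n := by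
    rw [ha]
    show ((e.symm (QuaternionGroup.xa 0) : P) : G) * (e.symm (QuaternionGroup.xa 0) : P) = _
    rw [← Subgroup.coe_mul, ← map_mul, QuaternionGroup.xa_mul_xa]
    simp
  have hba : b * a = a⁻¹ * b := by
    show ((e.symm (QuaternionGroup.xa 0) : P) : G) * (e.symm (QuaternionGroup.a 1) : P) =
      ((e.symm (QuaternionGroup.a 1) : P) : G)⁻¹ * (e.symm (QuaternionGroup.xa 0) : P)
    rw [← Subgroup.coe_inv, ← map_inv, ← Subgroup.coe_mul, ← Subgroup.coe_mul, ← map_mul, ← map_mul]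
    congr 2
    rw [eq_inv_mul_iff_mul_eq, QuaternionGroup.xa_mul_a, QuaternionGroup.a_mul_xa]
    simp
  have hord : ∀ j : ℤ, a ^ j = 1 → (2 * n : ℤ) ∣ j := by
    intro j hj
    have h1 : orderOf a = 2 * n := by
      show orderOf ((e.symm (QuaternionGroup.a 1) : P) : G) = 2 * n
      rw [Subgroup.orderOf_coe, MulEquiv.orderOf_eq, QuaternionGroup.orderOf_a_one]
    have h2 := orderOf_dvd_iff_zpow_eq_one.2 hj
    rw [h1] at h2
    exact_mod_cast h2
  have hgen : P ≤ closure {a, b} := by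
    intro g hg
    have hg' : g = e.symm (e ⟨g, hg⟩) := by rw [e.symm_apply_apply]
    rw [hg']
    have ham : a ∈ closure {a, b} := subset_closure (by simp)
    have hbm : b ∈ closure {a, b} := subset_closure (by simp)
    rcases e ⟨g, hg⟩ with i | i
    · have h1 : ((e.symm (QuaternionGroup.a i) : P) : G) = a ^ i.val := by
        rw [ha, ZMod.natCast_zmod_val]
      rw [h1]
      exact pow_mem ham _
    · have h1 : ((e.symm (QuaternionGroup.xa i) : P) : G) = b * a ^ i.val := by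
        rw [ha, ZMod.natCast_zmod_val]
        show _ = ((e.symm (QuaternionGroup.xa 0) : P) : G) * (e.symm (QuaternionGroup.a i) : P)
        rw [← Subgroup.coe_mul, ← map_mul, QuaternionGroup.xa_mul_a, zero_add]
      rw [h1]
      exact mul_mem hbm (pow_mem ham _)
  obtain ⟨α, hα⟩ := hs a
  obtain ⟨β, hβ⟩ := hs b
  have hzc : ∀ z, σ z = 1 → ∀ g : Γ, z * g = g * z := fun z h1 g => (mem_center_iff.1 (hz h1) g).symm
  -- `β α = α⁻¹ k β`
  obtain ⟨k, hk, hk'⟩ : ∃ k, σ k = 1 ∧ β * α * β⁻¹ = α⁻¹ * k := by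
    refine ⟨α * (β * α * β⁻¹), ?_, by group⟩
    rw [map_mul, map_mul, map_mul, map_inv, hα, hβ, hba]; group
  obtain ⟨l, hl, hl'⟩ : ∃ l, σ l = 1 ∧ β * β = α ^ n * l := by
    refine ⟨(α ^ n)⁻¹ * (β * β), ?_, by group⟩
    rw [map_mul, map_mul, map_inv, map_pow, hα, hβ, hb2]; group
  have hkc := hzc k hk
  have hlc := hzc l hl
  have hkC : ∀ g, Commute k g := hkc
  -- conjugation by `β`
  have hconj : ∀ j : ℤ, β * α ^ j * β⁻¹ = α ^ (-j) * k ^ j := by
    intro j
    rw [← conj_zpow, hk', (hkC α⁻¹).symm.mul_zpow, inv_zpow']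
  set d := ⁅β, α⁆ with hd
  have hd' : d = α ^ (-2 : ℤ) * k := by
    rw [hd, commutatorElement_def, hk']
    calc α⁻¹ * k * α⁻¹ = α⁻¹ * (k * α⁻¹) := by group
      _ = α⁻¹ * (α⁻¹ * k) := by rw [hkc]
      _ = _ := by group
  have hdz : ∀ j : ℤ, d ^ j = α ^ (-2 * j) * k ^ j := by
    intro j
    rw [hd', (hkC _).symm.mul_zpow, ← zpow_mul]
  have hβd : ∀ j : ℤ, β * d ^ j * β⁻¹ = d ^ (-j) := by
    intro j
    rw [hdz, hdz]
    calc β * (α ^ (-2 * j) * k ^ j) * β⁻¹ = (β * α ^ (-2 * j) * β⁻¹) * (β * k ^ j * β⁻¹) := by group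
      _ = (α ^ (-(-2 * j)) * k ^ (-2 * j)) * k ^ j := by
        rw [hconj, ((hkC β).zpow_left j).symm.eq, mul_inv_cancel_right]
      _ = α ^ (-2 * -j) * (k ^ (-2 * j) * k ^ j) := by rw [mul_assoc]; congr 2; ring
      _ = α ^ (-2 * -j) * k ^ (-j) := by rw [← zpow_add]; congr 2; ring
  have hαd : ∀ j : ℤ, α * d ^ j * α⁻¹ = d ^ j := by
    intro j
    have h1 : Commute α (d ^ j) := by
      rw [hdz]
      exact ((Commute.refl α).zpow_right _).mul_right ((hkC α).zpow_left j).symm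
    rw [h1.eq, mul_inv_cancel_right]
  have hle : ⁅P.comap σ, P.comap σ⁆ ≤ zpowers d := by
    refine commutator_comap_le' hz (S := {α, β}) (by rw [Set.image_pair, hα, hβ]; exact hgen) ?_ ?_
    · rintro s (rfl | rfl) m hm
      · obtain ⟨j, rfl⟩ := mem_zpowers_iff.1 hm
        rw [hαd]
        refine ⟨⟨j, rfl⟩, ⟨j, ?_⟩⟩
        show d ^ j = _
        nth_rw 2 [← hαd j]
        group
      · obtain ⟨j, rfl⟩ := mem_zpowers_iff.1 hm
        rw [hβd]
        refine ⟨⟨-j, rfl⟩, ⟨-j, ?_⟩⟩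
        show d ^ (-j) = _
        have := hβd (-j)
        rw [neg_neg] at this
        rw [← this]
        group
    · rintro s (rfl | rfl) t (rfl | rfl)
      · rw [commutatorElement_self]; exact one_mem _
      · rw [← commutatorElement_inv]; exact inv_mem (mem_zpowers _)
      · exact mem_zpowers _
      · rw [commutatorElement_self]; exact one_mem _
  -- `d ^ n = 1`
  have hdn : d ^ (n : ℤ) = 1 := by
    have h1 : β * α ^ (n : ℤ) * β⁻¹ = α ^ (n : ℤ) := by
      have h2 : α ^ n = β * β * l⁻¹ := by rw [hl']; group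
      rw [zpow_natCast, h2]
      have h3 : β * l⁻¹ = l⁻¹ * β := ((show Commute l β from hlc β).inv_left).symm.eq
      calc β * (β * β * l⁻¹) * β⁻¹ = β * β * (β * l⁻¹) * β⁻¹ := by group
        _ = β * β * (l⁻¹ * β) * β⁻¹ := by rw [h3]
        _ = β * β * l⁻¹ := by group
    rw [hconj] at h1
    have h2 : k ^ (n : ℤ) = α ^ (2 * n : ℤ) := by
      have h3 : k ^ (n : ℤ) = α ^ (n : ℤ) * (α ^ (-(n : ℤ)) * k ^ (n : ℤ)) := by group
      rw [h3, h1, ← zpow_add]; congr 1; ring
    rw [hdz, h2, ← zpow_add]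
    have : (-2 * (n : ℤ) + 2 * n) = 0 := by ring
    rw [this, zpow_zero]
  obtain ⟨j, rfl⟩ := mem_zpowers_iff.1 (hle hc)
  have h1 : a ^ (-2 * j) = 1 := by
    have h2 : σ (d ^ j) = a ^ (-2 * j) := by
      rw [hdz, map_mul, map_zpow, map_zpow, hα, hk, one_zpow, mul_one]
    rw [← h2]; exact hc1
  obtain ⟨i, hi⟩ := hord _ h1
  have h3 : j = n * (-i) := by linarith
  rw [h3, zpow_mul, hdn, one_zpow]

end Cfsg.Agent.H68.StemLoc
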