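import Mathlib
import Cfsg.Agent.H68.StemLoc
import Cfsg.Agent.S0242
import Cfsg.Agent.S0261
import Cfsg.Agent.S0262

/-!
# The Schur multiplier of `SL(2, q)` is trivial for `q ≠ 4, 9`
-/

set_option autoImplicit false
set_option linter.style.haveILetI false

namespace Cfsg.Agent.H68.SLTwoTriv

open Subgroup Cfsg.Agent.H68.StemLoc
open scoped commutatorElement

universe u

section field

variable {F : Type*} [Field F] [Fintype F]

open Polynomial in
theorem exists_t_odd (h2 : (2 : F) ≠ 0) (hq : 13 < Fintype.card F) :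
    ∃ t w : F, t ≠ 0 ∧ w ≠ 0 ∧ t ^ 2 + 1 = w ^ 2 ∧ t ^ 4 + t ^ 2 + 1 ≠ 0 := by
  let Q : F[X] := X * (X ^ 4 - 1) * ((1 - X ^ 2) ^ 4 + 4 * X ^ 2 * (1 - X ^ 2) ^ 2 + 16 * X ^ 4)
  have hQ : Q ≠ 0 := by
    refine mul_ne_zero (mul_ne_zero X_ne_zero ?_) ?_
    · intro h
      have := congrArg (eval 0) h
      simp at this
    · intro h
      have := congrArg (eval 0) h
      simp at this
  have hdeg : Q.natDegree ≤ 13 := by
    show (X * (X ^ 4 - 1) * ((1 - X ^ 2) ^ 4 + 4 * X ^ 2 * (1 - X ^ 2) ^ 2 + 16 * X ^ 4) : F[X]).natDegree ≤ 13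
    compute_degree
  obtain ⟨v, hv⟩ := Polynomial.exists_eval_ne_zero_of_natDegree_lt_card Q hQ (by
    rw [← Nat.cast_card, Nat.card_eq_fintype_card]
    exact_mod_cast lt_of_le_of_lt hdeg hq)
  simp only [Q, eval_mul, eval_X, eval_sub, eval_pow, eval_one, eval_add, eval_ofNat, mul_ne_zero_iff] at hv
  obtain ⟨⟨hv0, hv1⟩, hv2⟩ := hv
  refine ⟨(1 - v ^ 2) / (2 * v), (1 + v ^ 2) / (2 * v), ?_, ?_, ?_, ?_⟩
  · intro h
    rw [div_eq_zero_iff] at h
    rcases h with h | h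
    · apply hv1
      have : v ^ 4 - 1 = -(1 - v ^ 2) * (1 + v ^ 2) := by ring
      rw [this, h]; ring
    · exact (mul_ne_zero h2 hv0) h
  · intro h
    rw [div_eq_zero_iff] at h
    rcases h with h | h
    · apply hv1
      have : v ^ 4 - 1 = -(1 - v ^ 2) * (1 + v ^ 2) := by ring
      rw [this, h]; ring
    · exact (mul_ne_zero h2 hv0) h
  · field_simp
    ring
  · intro h
    apply hv2
    have h3 : (2 * v) ^ 4 * (((1 - v ^ 2) / (2 * v)) ^ 4 + ((1 - v ^ 2) / (2 * v)) ^ 2 + 1) =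
        (1 - v ^ 2) ^ 4 + 4 * v ^ 2 * (1 - v ^ 2) ^ 2 + 16 * v ^ 4 := by
      field_simp
      ring
    rw [← h3, h, mul_zero]

open Polynomial in
theorem exists_t_even (h2 : (2 : F) = 0) (hq : 4 < Fintype.card F) :
    ∃ t w : F, t ≠ 0 ∧ w ≠ 0 ∧ t ^ 2 + 1 = w ^ 2 ∧ t ^ 4 + t ^ 2 + 1 ≠ 0 := by
  let Q : F[X] := X * (X + 1) * (X ^ 2 + X + 1)
  have hQ : Q ≠ 0 := by
    refine mul_ne_zero (mul_ne_zero X_ne_zero ?_) ?_
    · intro h
      have := congrArg (eval 0) h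
      simp at this
    · intro h
      have := congrArg (eval 0) h
      simp at this
  have hdeg : Q.natDegree ≤ 4 := by
    show (X * (X + 1) * (X ^ 2 + X + 1) : F[X]).natDegree ≤ 4
    compute_degree
  obtain ⟨v, hv⟩ := Polynomial.exists_eval_ne_zero_of_natDegree_lt_card Q hQ (by
    rw [← Nat.cast_card, Nat.card_eq_fintype_card]
    exact_mod_cast lt_of_le_of_lt hdeg hq)
  simp only [Q, eval_mul, eval_X, eval_pow, eval_one, eval_add, mul_ne_zero_iff] at hv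
  obtain ⟨⟨hv0, hv1⟩, hv2⟩ := hv
  refine ⟨v, v + 1, hv0, hv1, ?_, ?_⟩
  · have : (v + 1) ^ 2 = v ^ 2 + 2 * v + 1 := by ring
    rw [this, h2]; ring
  · have : v ^ 4 + v ^ 2 + 1 = (v ^ 2 + v + 1) ^ 2 - 2 * (v ^ 3 + v ^ 2 + v) := by ring
    rw [this, h2, zero_mul, sub_zero]
    exact pow_ne_zero 2 hv2

theorem exists_t (hp : ¬ (Fintype.card F).Prime) (h4 : Fintype.card F ≠ 4) (h9 : Fintype.card F ≠ 9) :
    ∃ t w : F, t ≠ 0 ∧ w ≠ 0 ∧ t ^ 2 + 1 = w ^ 2 ∧ t ^ 4 + t ^ 2 + 1 ≠ 0 := by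
  obtain ⟨p, hpc⟩ := CharP.exists F
  haveI := hpc
  obtain ⟨n, hpp, hn⟩ := FiniteField.card F p
  have hn1 : (n : ℕ) ≠ 1 := fun h => hp (by rw [hn, h, pow_one]; exact hpp)
  have hn0 : (n : ℕ) ≠ 0 := n.ne_zero
  by_cases h2 : p = 2
  · subst h2
    have h20 : (2 : F) = 0 := by
      have := CharP.cast_eq_zero F 2
      exact_mod_cast this
    apply exists_t_even h20
    rw [hn] at h4 ⊢
    have hn2 : (n : ℕ) ≠ 2 := fun h => h4 (by rw [h]; norm_num)
    calc 4 < 2 ^ 3 := by norm_num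
      _ ≤ 2 ^ (n : ℕ) := Nat.pow_le_pow_right (by norm_num) (by omega)
  · have h20 : (2 : F) ≠ 0 := by
      intro h
      have h3 : ((2 : ℕ) : F) = 0 := by exact_mod_cast h
      rw [CharP.cast_eq_zero_iff F p 2] at h3
      exact h2 ((Nat.prime_dvd_prime_iff_eq hpp Nat.prime_two).1 h3)
    apply exists_t_odd h20
    rw [hn] at h9 ⊢
    by_cases h3 : p = 3
    · subst h3
      have hn2 : (n : ℕ) ≠ 2 := fun h => h9 (by rw [h]; norm_num)
      calc 13 < 3 ^ 3 := by norm_num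
        _ ≤ 3 ^ (n : ℕ) := Nat.pow_le_pow_right (by norm_num) (by omega)
    · have hp5 : 5 ≤ p := by
        have := hpp.two_le
        by_contra hlt
        have h45 : p = 4 := by omega
        rw [h45] at hpp
        exact absurd hpp (by norm_num)
      calc 13 < 5 ^ 2 := by norm_num
        _ ≤ p ^ 2 := Nat.pow_le_pow_left hp5 2
        _ ≤ p ^ (n : ℕ) := Nat.pow_le_pow_right (by omega) (by omega)

/-- biadditive maps invariant under the squares are trivial -/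
theorem biadd_trivial (hp : ¬ (Fintype.card F).Prime) (h4 : Fintype.card F ≠ 4) (h9 : Fintype.card F ≠ 9)
    {B : Type*} [CommGroup B] (β : F → F → B) (hl : ∀ x x' y, β (x + x') y = β x y * β x' y)
    (hr : ∀ x y y', β x (y + y') = β x y * β x y') (ht : ∀ t : F, t ≠ 0 → ∀ x y, β (t ^ 2 * x) (t ^ 2 * y) = β x y)
    (x y : F) : β x y = 1 := by
  obtain ⟨t, w, ht0, hw0, htw, hne⟩ := exists_t hp h4 h9
  have key : ∀ x y : F, β ((1 + t ^ 2 + (t⁻¹) ^ 2) * x) y = 1 := by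
    intro x y
    have h1 := ht w hw0 x y
    rw [← htw, add_mul, add_mul, one_mul, one_mul, hl, hr, hr, ht t ht0] at h1
    have h2 : β x (t ^ 2 * y) = β ((t⁻¹) ^ 2 * x) y := by
      rw [← ht (t⁻¹) (inv_ne_zero ht0) x (t ^ 2 * y)]
      congr 1
      rw [inv_pow, inv_mul_cancel_left₀ (pow_ne_zero 2 ht0)]
    rw [h2] at h1
    have h3 : β ((1 + t ^ 2 + (t⁻¹) ^ 2) * x) y = β x y * β (t ^ 2 * x) y * β ((t⁻¹) ^ 2 * x) y := by
      rw [add_mul, add_mul, hl, hl, one_mul]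
    rw [h3]
    have h4 : β x y * β (t ^ 2 * x) y * β ((t⁻¹) ^ 2 * x) y * β x y = 1 * β x y := by
      rw [one_mul]
      nth_rw 3 [← h1]
      rw [mul_right_comm, mul_comm (β ((t⁻¹) ^ 2 * x) y), mul_assoc, mul_assoc]
    exact mul_right_cancel h4
  have hk : (1 + t ^ 2 + (t⁻¹) ^ 2) ≠ 0 := by
    intro h
    apply hne
    have : t ^ 4 + t ^ 2 + 1 = t ^ 2 * (1 + t ^ 2 + (t⁻¹) ^ 2) := by
      field_simp
      ring
    rw [this, h, mul_zero]
  have h1 := key ((1 + t ^ 2 + (t⁻¹) ^ 2)⁻¹ * x) y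
  rwa [mul_inv_cancel_left₀ hk] at h1

end field

section defs

variable {F : Type u} [Field F]

/-- the unipotent elements -/
def uu (x : F) : Matrix.SpecialLinearGroup (Fin 2) F := ⟨!![1, x; 0, 1], by simp [Matrix.det_fin_two]⟩

/-- the torus -/
def hh (t : F) (ht : t ≠ 0) : Matrix.SpecialLinearGroup (Fin 2) F :=
  ⟨!![t, 0; 0, t⁻¹], by simp [Matrix.det_fin_two, ht]⟩

theorem uu_add (x y : F) : uu (x + y) = uu x * uu y := by
  apply Subtype.ext
  show !![1, x + y; 0, 1] = !![1, x; 0, 1] * !![1, y; 0, 1]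
  rw [Matrix.mul_fin_two]
  simp [add_comm]

theorem uu_zero : uu (0 : F) = 1 := by
  apply Subtype.ext
  show !![1, (0 : F); 0, 1] = 1
  exact Matrix.one_fin_two.symm

theorem uu_inj {x y : F} (h : uu x = uu y) : x = y := by
  have h1 := congrArg (fun A : Matrix.SpecialLinearGroup (Fin 2) F => (A : Matrix (Fin 2) (Fin 2) F) 0 1) h
  exact h1

theorem hh_uu (t : F) (ht : t ≠ 0) (x : F) : hh t ht * uu x = uu (t ^ 2 * x) * hh t ht := by
  apply Subtype.ext
  show !![t, 0; 0, t⁻¹] * !![1, x; 0, 1] = !![1, t ^ 2 * x; 0, 1] * !![t, 0; 0, t⁻¹]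
  have h1 : t * x = t ^ 2 * x * t⁻¹ := by field_simp
  rw [Matrix.mul_fin_two, Matrix.mul_fin_two]
  simp [h1]

/-- the unipotent subgroup -/
def U (F : Type u) [Field F] : Subgroup (Matrix.SpecialLinearGroup (Fin 2) F) where
  carrier := {g | ∃ x, g = uu x}
  one_mem' := ⟨0, uu_zero.symm⟩
  mul_mem' := by
    rintro _ _ ⟨x, rfl⟩ ⟨y, rfl⟩
    exact ⟨x + y, (uu_add x y).symm⟩
  inv_mem' := by
    rintro _ ⟨x, rfl⟩
    refine ⟨-x, ?_⟩
    rw [inv_eq_iff_mul_eq_one, ← uu_add, add_neg_cancel, uu_zero]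

theorem mem_U {g : Matrix.SpecialLinearGroup (Fin 2) F} : g ∈ U F ↔ ∃ x, g = uu x := Iff.rfl

theorem uu_pow (x : F) (k : ℕ) : uu x ^ k = uu (k * x) := by
  induction k with
  | zero => rw [pow_zero, Nat.cast_zero, zero_mul, uu_zero]
  | succ k ih => rw [pow_succ, ih, ← uu_add]; congr 1; push_cast; ring

end defs

section group

variable {F : Type u} [Field F] [Fintype F]

theorem card_U : Nat.card (U F) = Fintype.card F := by
  rw [← Nat.card_eq_fintype_card]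
  refine (Nat.card_congr (Equiv.ofBijective (fun x : F => (⟨uu x, mem_U.2 ⟨x, rfl⟩⟩ : U F)) ⟨?_, ?_⟩)).symm
  · intro x y h
    exact uu_inj (congrArg Subtype.val h)
  · rintro ⟨g, hg⟩
    obtain ⟨x, rfl⟩ := mem_U.1 hg
    exact ⟨x, rfl⟩

theorem index_U : (U F).index = Fintype.card F ^ 2 - 1 := by
  have h1 := (U F).card_mul_index
  rw [card_U] at h1
  have h2 := Cfsg.Agent.S0242.result (F := F) rfl 2 (by norm_num)
  rw [Fin.prod_univ_two, ← h1] at h2
  simp only [Fin.val_zero, Fin.val_one, pow_zero, pow_one] at h2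
  have hq : 1 < Fintype.card F := Fintype.one_lt_card
  obtain ⟨r, hr⟩ : ∃ r, Fintype.card F = r + 2 := ⟨Fintype.card F - 2, by omega⟩
  rw [hr] at h2 ⊢
  have e1 : r + 2 - 1 = r + 1 := by omega
  have e2 : (r + 2) ^ 2 - (r + 2) = (r + 1) * (r + 2) := by
    have : (r + 2) ^ 2 = (r + 1) * (r + 2) + (r + 2) := by ring
    omega
  rw [e1, e2] at h2
  have h3 : ((r + 1) * (r + 2)) * (U F).index = ((r + 1) * (r + 2)) * ((r + 2) ^ 2 - 1) := by
    calc ((r + 1) * (r + 2)) * (U F).index = (r + 1) * ((r + 2) * (U F).index) := by ring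
      _ = _ := h2
      _ = _ := by ring
  exact Nat.eq_of_mul_eq_mul_left (by positivity) h3

/-- **The local condition in the defining characteristic.** -/
theorem trivLoc_U (h4 : Fintype.card F ≠ 4) (h9 : Fintype.card F ≠ 9) : TrivLoc (U F) := by
  by_cases hp : (Fintype.card F).Prime
  · apply TrivLoc.of_cyclic
    haveI : Fact (Fintype.card F).Prime := ⟨hp⟩
    exact isCyclic_of_prime_card (p := Fintype.card F) card_U
  apply TrivLoc.of_comm
  intro Γ _ _ σ hs hz a b ha hb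
  let s : F → Γ := fun x => (hs (uu x)).choose
  have hsp : ∀ x, σ (s x) = uu x := fun x => (hs (uu x)).choose_spec
  have hzc : ∀ z, σ z = 1 → ∀ g : Γ, z * g = g * z := fun z h1 g => (mem_center_iff.1 (hz h1) g).symm
  -- independence of the lifts
  have hind : ∀ {x y x' y' : Γ}, σ x = σ x' → σ y = σ y' → ⁅x, y⁆ = ⁅x', y'⁆ := by
    intro x y x' y' hx hy
    have h1 : σ (x'⁻¹ * x) = 1 := by rw [map_mul, map_inv, hx, inv_mul_cancel]
    have h2 : σ (y'⁻¹ * y) = 1 := by rw [map_mul, map_inv, hy, inv_mul_cancel]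
    have e1 : x = x' * (x'⁻¹ * x) := by group
    have e2 : y = y' * (y'⁻¹ * y) := by group
    rw [e1, e2, Cfsg.Agent.H51.Crit.mul_comm_of_comm, Cfsg.Agent.H51.Crit.rel_central (hzc _ h1) (hzc _ h2),
      ← Cfsg.Agent.H51.Crit.mul_comm_of_comm]
  have hcen : ∀ x y, ⁅s x, s y⁆ ∈ center Γ := by
    intro x y
    apply hz
    rw [MonoidHom.mem_ker, map_commutatorElement, hsp, hsp, commutatorElement_eq_one_iff_mul_comm, ← uu_add,
      ← uu_add, add_comm]
  let β : F → F → center Γ := fun x y => ⟨⁅s x, s y⁆, hcen x y⟩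
  have hβ : ∀ x y, (β x y : Γ) = 1 := by
    intro x y
    letI : CommGroup (center Γ) := { (inferInstance : Group (center Γ)) with
      mul_comm := fun a b => Subtype.ext (mem_center_iff.1 b.2 a) }
    refine congrArg Subtype.val (biadd_trivial (B := center Γ) hp h4 h9 β ?_ ?_ ?_ x y)
    · intro x x' y
      apply Subtype.ext
      show ⁅s (x + x'), s y⁆ = ⁅s x, s y⁆ * ⁅s x', s y⁆
      have h1 : ⁅s (x + x'), s y⁆ = ⁅s x * s x', s y⁆ := hind (by rw [map_mul, hsp, hsp, hsp, uu_add]) rfl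
      have h2 : ⁅s x * s x', s y⁆ = s x * ⁅s x', s y⁆ * (s x)⁻¹ * ⁅s x, s y⁆ := by
        simp only [commutatorElement_def]; group
      rw [h1, h2, mem_center_iff.1 (hcen x' y) (s x), mul_inv_cancel_right,
        mem_center_iff.1 (hcen x y) ⁅s x', s y⁆]
    · intro x y y'
      apply Subtype.ext
      show ⁅s x, s (y + y')⁆ = ⁅s x, s y⁆ * ⁅s x, s y'⁆
      have h1 : ⁅s x, s (y + y')⁆ = ⁅s x, s y * s y'⁆ := hind rfl (by rw [map_mul, hsp, hsp, hsp, uu_add])
      have h2 : ⁅s x, s y * s y'⁆ = ⁅s x, s y⁆ * (s y * ⁅s x, s y'⁆ * (s y)⁻¹) := by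
        simp only [commutatorElement_def]; group
      rw [h1, h2, mem_center_iff.1 (hcen x y') (s y), mul_inv_cancel_right]
    · intro t ht x y
      apply Subtype.ext
      show ⁅s (t ^ 2 * x), s (t ^ 2 * y)⁆ = ⁅s x, s y⁆
      obtain ⟨τ, hτ⟩ := hs (hh t ht)
      have h1 : ∀ x, σ (s (t ^ 2 * x)) = σ (τ * s x * τ⁻¹) := by
        intro x
        rw [map_mul, map_mul, map_inv, hsp, hsp, hτ, hh_uu, mul_inv_cancel_right]
      rw [hind (h1 x) (h1 y)]
      have h2 : ⁅τ * s x * τ⁻¹, τ * s y * τ⁻¹⁆ = τ * ⁅s x, s y⁆ * τ⁻¹ := by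
        simp only [commutatorElement_def]; group
      rw [h2, mem_center_iff.1 (hcen x y) τ, mul_inv_cancel_right]
  obtain ⟨x, hx⟩ := mem_U.1 ha
  obtain ⟨y, hy⟩ := mem_U.1 hb
  rw [← commutatorElement_eq_one_iff_mul_comm, hind (x' := s x) (y' := s y) (by rw [hx, hsp]) (by rw [hy, hsp])]
  exact hβ x y

/-- **The Schur multiplier of `SL(2, q)` is trivial for `q ≠ 4, 9`.** -/
theorem main (h4 : Fintype.card F ≠ 4) (h9 : Fintype.card F ≠ 9) :
    Cfsg.HasCyclicSchurMultiplier (Matrix.SpecialLinearGroup (Fin 2) F) 1 := by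
  classical
  obtain ⟨p, hpc⟩ := CharP.exists F
  haveI := hpc
  obtain ⟨n, hpp, hn⟩ := FiniteField.card F p
  haveI : Fact p.Prime := ⟨hpp⟩
  apply hasTrivial_of_local
  intro r hr
  haveI : Fact r.Prime := ⟨hr⟩
  by_cases hrp : r = p
  · subst hrp
    refine ⟨U F, ?_, trivLoc_U h4 h9⟩
    rw [index_U, hn]
    intro hd
    have h1 : r ∣ (r ^ (n : ℕ)) ^ 2 := by
      rw [← pow_mul]
      exact dvd_pow_self r (by have := n.pos; omega)
    have h2 : 1 ≤ (r ^ (n : ℕ)) ^ 2 := Nat.one_le_iff_ne_zero.2 (pow_ne_zero _ (pow_ne_zero _ hpp.ne_zero))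
    have h3 := (Nat.dvd_sub_iff_right h2 h1).1 hd
    exact hr.one_lt.ne' (Nat.dvd_one.1 h3)
  · let P : Sylow r (Matrix.SpecialLinearGroup (Fin 2) F) := default
    refine ⟨P, P.not_dvd_index, ?_⟩
    by_cases h2 : r = 2
    · subst h2
      have hodd : Odd (Fintype.card F) := by
        rw [hn]
        exact (hpp.odd_of_ne_two (Ne.symm hrp)).pow
      obtain ⟨k, hk, ⟨e⟩⟩ := Cfsg.Agent.S0261.result hodd P
      exact TrivLoc.of_quaternion e
    · exact TrivLoc.of_cyclic (Cfsg.Agent.S0262.result p r h2 hrp P)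

end group

end Cfsg.Agent.H68.SLTwoTriv
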