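import Cfsg.Agent.KFacts.OddLift.Tits
import Cfsg.Agent.H51.Tools

/-!
# The Schur multiplier of the Tits group is trivial

Explicit generators of Sylow 3- and 5-subgroups as words in four letters (`KFacts.OddLift.TitMat`).
-/

set_option autoImplicit false
set_option linter.style.haveILetI false

namespace Cfsg.Agent.H68.TitsMul

open Subgroup Cfsg.Agent.KFacts.MulDef Cfsg.Agent.KFacts.OddLift.Basic Cfsg.Agent.KFacts.OddLift.TitMat
  Cfsg.Agent.KFacts.OddLift.TitGen
open Cfsg.Agent.SporadicRecognition.CosetCert Cfsg.Agent.SporadicRecognition.CosetCertHyp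
open Cfsg.Agent.ChevalleyStructure.Tits.Pack Cfsg.Agent.ChevalleyStructure.Tits.Data
  Cfsg.Agent.ChevalleyStructure.Tits.Mat Cfsg.Agent.ChevalleyStructure.Tits.Order
  Cfsg.Agent.ChevalleyStructure.Tits.Main
open Cfsg.Agent.H51.Mult Cfsg.Agent.H51.Crit Cfsg.Agent.H51.Tools

open scoped MatrixGroups commutatorElement

/-! ### words in the simple group -/

/-- the element of the simple group given by a word -/
noncomputable def E (w : List ℕ) : commutator H0 := ev (lt b 4) w

theorem E_append (u v : List ℕ) : E (u ++ v) = E u * E v := ev_append _ u v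

theorem E_nil : E [] = 1 := rfl

theorem coe_E (w : List ℕ) : (((E w : commutator H0) : H0) : GL I52 (ZMod 2)) = ev (lt β 4) w := by
  rw [E, coe_ev_b, coe_ev_bH]

/-- `n` copies of a word -/
def rep : ℕ → List ℕ → List ℕ
  | 0, _ => []
  | n + 1, w => w ++ rep n w

theorem E_rep (n : ℕ) (w : List ℕ) : E (rep n w) = E w ^ n := by
  induction n with
  | zero => rfl
  | succ n ih => rw [rep, E_append, ih, pow_succ']

/-- the letters are in range -/
def ok (w : List ℕ) : Bool := w.all fun y => Nat.blt y 8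

theorem E_eq {u v : List ℕ} (h : (ok u && ok v && Nat.beq (evP u) (evP v)) = true) : E u = E v := by
  rw [Bool.and_eq_true, Bool.and_eq_true] at h
  apply Subtype.ext
  apply Subtype.ext
  rw [coe_E, coe_E]
  apply Units.ext
  rw [coe_ev (all_lt8 h.1.1), coe_ev (all_lt8 h.1.2), Nat.eq_of_beq_eq_true h.2]

theorem E_ne {u v : List ℕ} (i j : Fin 4)
    (h : (ok u && ok v && ((evP u).testBit (52 * j.val + i.val) != (evP v).testBit (52 * j.val + i.val))) = true) :
    E u ≠ E v := by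
  intro he
  rw [Bool.and_eq_true, Bool.and_eq_true] at h
  have h1 : toMat (evP u) = toMat (evP v) := by
    rw [← coe_ev (all_lt8 h.1.1), ← coe_ev (all_lt8 h.1.2), ← coe_E, ← coe_E, he]
  have h2 := congrFun (congrFun h1 (Sum.inl i)) (Sum.inl j)
  rw [toMat_apply, toMat_apply, ix_inl, ix_inl] at h2
  have h3 := h.2
  revert h2 h3
  cases (evP u).testBit (52 * j.val + i.val) <;> cases (evP v).testBit (52 * j.val + i.val) <;> simp [bz]

/-! ### the prime 5 -/

def u5 : List ℕ := [0, 6, 1, 4, 0, 6, 1, 4]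
def g5 : List ℕ := [7, 0, 7, 4]
def y5 : List ℕ := [7, 0, 7, 4, 0, 6, 1, 4, 0, 6, 1, 4, 5, 6, 1, 6]

theorem five_a : E (rep 5 u5) = E [] := E_eq (by decide +kernel)
theorem five_b : E (y5 ++ g5) = E (g5 ++ u5) := E_eq (by decide +kernel)
theorem five_c : E (u5 ++ y5) = E (y5 ++ u5) := E_eq (by decide +kernel)
theorem five_d : E (g5 ++ y5) = E (u5 ++ (y5 ++ (y5 ++ g5))) := E_eq (by decide +kernel)
theorem five_0 : E y5 ≠ E (rep 0 u5) := E_ne 1 0 (by decide +kernel)
theorem five_1 : E y5 ≠ E (rep 1 u5) := E_ne 0 0 (by decide +kernel)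
theorem five_2 : E y5 ≠ E (rep 2 u5) := E_ne 0 0 (by decide +kernel)
theorem five_3 : E y5 ≠ E (rep 3 u5) := E_ne 1 0 (by decide +kernel)
theorem five_4 : E y5 ≠ E (rep 4 u5) := E_ne 0 0 (by decide +kernel)
theorem five_e : E u5 ≠ E [] := E_ne 0 0 (by decide +kernel)

/-! ### the prime 3 -/

def w3 : List ℕ := [0, 4, 7]
def x3 : List ℕ := [3, 4, 2, 7, 4, 2, 0, 4, 7, 0, 4, 7, 0, 4, 7, 0, 4, 7, 3, 5, 6, 3, 5, 2]
def y3 : List ℕ := [3, 6, 5, 0, 5, 2, 0, 4, 7, 0, 4, 7, 0, 4, 7, 0, 4, 7, 3, 4, 1, 4, 7, 2]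

theorem three_a : E (rep 12 w3) = E [] := E_eq (by decide +kernel)
theorem three_b : E (x3 ++ y3) = E (rep 8 w3 ++ (y3 ++ x3)) := E_eq (by decide +kernel)
theorem three_c : E (rep 8 w3 ++ x3) = E (x3 ++ rep 8 w3) := E_eq (by decide +kernel)
theorem three_d : E (rep 8 w3 ++ y3) = E (y3 ++ rep 8 w3) := E_eq (by decide +kernel)
theorem three_e : E (rep 3 x3) = E [] := E_eq (by decide +kernel)
theorem three_f : E (rep 3 y3) = E [] := E_eq (by decide +kernel)
theorem three_g : E (x3 ++ (rep 6 w3 ++ x3)) = E (rep 10 w3) := E_eq (by decide +kernel)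
theorem three_h : E (y3 ++ (rep 6 w3 ++ y3)) = E (rep 2 w3) := E_eq (by decide +kernel)
theorem three_i : E (rep 8 w3) ≠ E [] := E_ne 0 1 (by decide +kernel)

/-! ### the local results -/

theorem card_X : Nat.card (commutator H0) = 2 ^ 11 * 3 ^ 3 * 5 ^ 2 * 13 := H0_result.2.2.2

instance fin : Finite (commutator H0) := Nat.finite_of_card_ne_zero (by rw [card_X]; norm_num)

theorem noCov_five : NoCov 5 (commutator H0) := by
  have hx : E u5 ^ 5 = 1 := by rw [← E_rep, five_a, E_nil]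
  have hb : E y5 * E g5 = E g5 * E u5 := by rw [← E_append, five_b, E_append]
  have hc : E u5 * E y5 = E y5 * E u5 := by rw [← E_append, five_c, E_append]
  have hd : E g5 * E y5 = E u5 * (E y5 * (E y5 * E g5)) := by
    rw [← E_append, five_d, E_append, E_append, E_append]
  have hb' : E g5 * E u5 * (E g5)⁻¹ = E y5 := by rw [← hb, mul_inv_cancel_right]
  have hy : E y5 ^ 5 = 1 := by rw [← hb', conj_pow, hx, mul_one, mul_inv_cancel]
  refine noCov_sq Nat.prime_five (x := E u5) (y := E y5) (g := E g5) hx hc ?_ (a := 0) (b := 1) (c := 1) (d := 2)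
    ?_ ?_ (by norm_num)
  · refine not_dvd_index_sq Nat.prime_five hx hy hc ?_ ?_ ?_
    · rw [← E_nil]; exact five_e
    · intro h
      obtain ⟨j, hj⟩ := (mem_powers_iff_mem_zpowers.2 h : E y5 ∈ Submonoid.powers (E u5))
      have h1 : E u5 ^ j = E u5 ^ (j % 5) := by
        conv_lhs => rw [← Nat.mod_add_div j 5, pow_add, pow_mul, hx, one_pow, mul_one]
      have hj' : E y5 = E (rep (j % 5) u5) := by rw [E_rep, ← h1]; exact hj.symm
      have h2 : j % 5 < 5 := Nat.mod_lt _ (by norm_num)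
      rcases (by omega : j % 5 = 0 ∨ j % 5 = 1 ∨ j % 5 = 2 ∨ j % 5 = 3 ∨ j % 5 = 4) with h3 | h3 | h3 | h3 | h3 <;>
        rw [h3] at hj'
      · exact five_0 hj'
      · exact five_1 hj'
      · exact five_2 hj'
      · exact five_3 hj'
      · exact five_4 hj'
    · rw [card_X]; norm_num
  · rw [zpow_zero, one_mul, zpow_one, hb']
  · rw [hd, zpow_one, zpow_ofNat, pow_two]
    group

theorem noCov_three : NoCov 3 (commutator H0) := by
  have hw : E w3 ^ 12 = 1 := by rw [← E_rep, three_a, E_nil]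
  have hx : E x3 ^ 3 = 1 := by rw [← E_rep, three_e, E_nil]
  have hy : E y3 ^ 3 = 1 := by rw [← E_rep, three_f, E_nil]
  have hc : ⁅E x3, E y3⁆ = E w3 ^ 8 := by
    rw [mul_comm_of_comm, ← E_append, three_b, E_append, E_append, E_rep]
  have hcx : E w3 ^ 8 * E x3 = E x3 * E w3 ^ 8 := by rw [← E_rep, ← E_append, three_c, E_append]
  have hcy : E w3 ^ 8 * E y3 = E y3 * E w3 ^ 8 := by rw [← E_rep, ← E_append, three_d, E_append]
  have hc1 : E w3 ^ 8 ≠ 1 := by rw [← E_rep, ← E_nil]; exact three_i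
  have hg : E x3 * (E w3 ^ 6 * E x3) = E w3 ^ 10 := by
    rw [← E_rep, ← E_append, ← E_append, three_g, E_rep]
  have hh : E y3 * (E w3 ^ 6 * E y3) = E w3 ^ 2 := by
    rw [← E_rep, ← E_append, ← E_append, three_h, E_rep]
  refine noCov_extra Nat.prime_three (by norm_num) (x := E x3) (y := E y3) (t := E w3 ^ 6) ?_ ?_ ?_ hx ?_
    (i := 2) (j := 1) ?_ ?_
  · rw [hc]; exact hcx
  · rw [hc]; exact hcy
  · rw [hc]; exact hc1
  · refine not_dvd_index_extra Nat.prime_three hx hy ?_ ?_ ?_ ?_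
    · rw [hc]; exact hcx
    · rw [hc]; exact hcy
    · rw [hc]; exact hc1
    · rw [card_X]; norm_num
  · rw [hc]
    have h1 : E w3 ^ 6 * E x3 = (E x3)⁻¹ * E w3 ^ 10 := by rw [← hg]; group
    rw [h1]
    have h2 : (E w3 ^ 8 : commutator H0) ^ (2 : ℤ) = E w3 ^ 4 := by
      rw [zpow_ofNat, ← pow_mul, show 8 * 2 = 12 + 4 from rfl, pow_add, hw, one_mul]
    rw [h2, show (10 : ℕ) = 4 + 6 from rfl, pow_add]
    group
  · rw [hc]
    have h1 : E w3 ^ 6 * E y3 = (E y3)⁻¹ * E w3 ^ 2 := by rw [← hh]; group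
    rw [h1]
    have h2 : (E w3 ^ 8 : commutator H0) ^ (1 : ℤ) = E w3 ^ 8 := zpow_one _
    have h3 : E w3 ^ 2 = E w3 ^ 8 * E w3 ^ 6 := by
      rw [← pow_add, show 8 + 6 = 12 + 2 from rfl, pow_add, hw, one_mul]
    rw [h2, h3]
    group

theorem main_H0 : Cfsg.HasCyclicSchurMultiplier (commutator H0) 1 := by
  refine hasCyclic_one ?_ ?_
  · apply perfect_of_simple H0_result.2.1
    rw [card_X]
    norm_num
  · intro p hp hd
    rw [card_X] at hd
    have h1 : p ∣ 2 * (3 * (5 * 13)) := by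
      rw [hp.dvd_mul, hp.dvd_mul, hp.dvd_mul] at hd
      rcases hd with ((hd | hd) | hd) | hd
      · exact (hp.dvd_of_dvd_pow hd).trans (dvd_mul_right _ _)
      · exact (hp.dvd_of_dvd_pow hd).trans ⟨2 * (5 * 13), by norm_num⟩
      · exact (hp.dvd_of_dvd_pow hd).trans ⟨2 * (3 * 13), by norm_num⟩
      · exact hd.trans ⟨2 * (3 * 5), by norm_num⟩
    rw [hp.dvd_mul, hp.dvd_mul, hp.dvd_mul, Nat.prime_dvd_prime_iff_eq hp Nat.prime_two,
      Nat.prime_dvd_prime_iff_eq hp Nat.prime_three, Nat.prime_dvd_prime_iff_eq hp Nat.prime_five,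
      Nat.prime_dvd_prime_iff_eq hp (by norm_num)] at h1
    rcases h1 with rfl | rfl | rfl | rfl
    · exact noCov_two Cfsg.Agent.KFacts.OddLift.Tits.noDouble_H0
    · exact noCov_three
    · exact noCov_five
    · apply noCov_of_not_sq_dvd hp
      rw [card_X]
      norm_num

theorem main_aux (K : Subgroup (GL I52 (ZMod 2))) (hK : K = H0) : Cfsg.HasCyclicSchurMultiplier (commutator K) 1 := by
  subst hK
  exact main_H0

/-- **The Tits group has trivial Schur multiplier.** -/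
theorem main : Cfsg.HasCyclicSchurMultiplier Cfsg.Lie.TitsGroup 1 := main_aux _ T0_eq_H0

end Cfsg.Agent.H68.TitsMul
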