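import Mathlib

/-!
# Subgroups generated by two involutions

`card_closure`: if `s`, `t` are involutions and `s ∉ ⟨s t⟩`, then `|⟨s, t⟩| = 2 · o(s t)`.
-/

set_option autoImplicit false

namespace Cfsg.Agent.H68.Dih

open Subgroup

variable {X : Type*} [Group X]

/-- every element of `⟨s, t⟩` is `r ^ j` or `r ^ j s`, `r = s t` -/
theorem mem_or {s t : X} (hs : s * s = 1) (ht : t * t = 1) {g : X} (hg : g ∈ closure ({s, t} : Set X)) :
    g ∈ zpowers (s * t) ∨ g * s ∈ zpowers (s * t) := by
  have hsi : s⁻¹ = s := inv_eq_of_mul_eq_one_left hs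
  have hti : t⁻¹ = t := inv_eq_of_mul_eq_one_left ht
  have hconj : ∀ j : ℤ, s * (s * t) ^ j * s = (s * t) ^ (-j) := by
    intro j
    have h1 : s * (s * t) ^ j * s⁻¹ = (s * (s * t) * s⁻¹) ^ j := (conj_zpow).symm
    rw [hsi] at h1
    rw [h1, zpow_neg, ← inv_zpow, mul_inv_rev, hsi, hti, ← mul_assoc, hs, one_mul]
  have hcj : ∀ h ∈ zpowers (s * t), s * h * s ∈ zpowers (s * t) := by
    rintro _ ⟨j, rfl⟩
    exact ⟨-j, (hconj j).symm⟩
  have hr : s * t ∈ zpowers (s * t) := mem_zpowers _
  have hr' : t * s ∈ zpowers (s * t) := by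
    have := inv_mem hr
    rwa [mul_inv_rev, hsi, hti] at this
  induction hg using closure_induction with
  | mem x hx =>
    rcases hx with rfl | rfl
    · right; rw [hs]; exact one_mem _
    · right; exact hr'
  | one => left; exact one_mem _
  | mul x y _ _ hx hy =>
    rcases hx with hx | hx <;> rcases hy with hy | hy
    · left; exact mul_mem hx hy
    · right; rw [mul_assoc]; exact mul_mem hx hy
    · right
      have h1 := mul_mem hx (hcj y hy)
      have h2 : x * s * (s * y * s) = x * y * s := by
        calc x * s * (s * y * s) = x * (s * s) * (y * s) := by group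
          _ = x * y * s := by rw [hs]; group
      rwa [h2] at h1
    · left
      have h1 := mul_mem hx (hcj _ hy)
      have h2 : x * s * (s * (y * s) * s) = x * y := by
        calc x * s * (s * (y * s) * s) = x * (s * s) * y * (s * s) := by group
          _ = x * y := by rw [hs]; group
      rwa [h2] at h1
  | inv x _ hx =>
    rcases hx with hx | hx
    · left; exact inv_mem hx
    · right
      have h1 := hcj _ (inv_mem hx)
      have h2 : s * (x * s)⁻¹ * s = x⁻¹ * s := by
        rw [mul_inv_rev, hsi, ← mul_assoc, hs, one_mul]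
      rwa [h2] at h1

/-- **The order of a dihedral group.** -/
theorem card_closure {s t : X} (hs : s * s = 1) (ht : t * t = 1) (hst : s ∉ zpowers (s * t)) :
    Nat.card (closure ({s, t} : Set X)) = 2 * orderOf (s * t) := by
  have hsm : s ∈ closure ({s, t} : Set X) := subset_closure (by simp)
  have htm : t ∈ closure ({s, t} : Set X) := subset_closure (by simp)
  have hle : zpowers (s * t) ≤ closure ({s, t} : Set X) := by
    rw [zpowers_le]; exact mul_mem hsm htm
  have hidx : ((zpowers (s * t)).subgroupOf (closure ({s, t} : Set X))).index = 2 := by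
    rw [Subgroup.index_eq_two_iff]
    refine ⟨⟨s, hsm⟩, fun b => ?_⟩
    rw [mem_subgroupOf, mem_subgroupOf]
    show Xor ((b : X) * s ∈ _) ((b : X) ∈ _)
    rcases mem_or hs ht b.2 with h | h
    · right
      refine ⟨h, fun h' => hst ?_⟩
      have := mul_mem (inv_mem h) h'
      rwa [inv_mul_cancel_left] at this
    · left
      refine ⟨h, fun h' => hst ?_⟩
      have := mul_mem (inv_mem h') h
      rwa [inv_mul_cancel_left] at this
  have h1 := ((zpowers (s * t)).subgroupOf (closure ({s, t} : Set X))).card_mul_index
  rw [hidx, Nat.card_congr (subgroupOfEquivOfLe hle).toEquiv, Nat.card_zpowers] at h1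
  rw [← h1, mul_comm]

/-- the same if `s` and `t` do not commute -/
theorem card_closure' {s t : X} (hs : s * s = 1) (ht : t * t = 1) (hst : s * t ≠ t * s) :
    Nat.card (closure ({s, t} : Set X)) = 2 * orderOf (s * t) := by
  refine card_closure hs ht fun h => hst ?_
  obtain ⟨j, hj⟩ := mem_zpowers_iff.1 h
  have h1 : Commute s (s * t) := by
    have h2 := (Commute.refl (s * t)).zpow_left j
    rwa [hj] at h2
  have h2 : s * (s * t) = s * t * s := h1
  rw [mul_assoc] at h2
  exact mul_left_cancel h2

end Cfsg.Agent.H68.Dih
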