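import Mathlib
import Cfsg.Agent.SporadicRecognition.AltCover
import Cfsg.Agent.H68.Bounds

/-!
# The triple covers of `A₆` and `A₇`: existence

Five permutations of 63 points (21 blocks of size 3, the pairs of seven points) commuting with `z`, which satisfy
Carmichael's relations modulo `⟨z⟩`.
-/

set_option autoImplicit false
set_option linter.style.haveILetI false

namespace Cfsg.Agent.H68.TriAlt

open Subgroup Cfsg.Agent.H51.Mult Cfsg.Agent.Lib.AltCarmichael Cfsg.Agent.SporadicRecognition.AltCover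
  Cfsg.Agent.H68.Bounds
open scoped commutatorElement

/-- the tables of the five generators -/
def tab : ℕ → List ℕ
  | 0 => [27, 28, 29, 40, 41, 39, 50, 48, 49, 54, 55, 56, 60, 61, 62, 12, 13, 14, 20, 18, 19, 
      22, 23, 21, 24, 25, 26, 30, 31, 32, 0, 1, 2, 33, 34, 35, 37, 38, 36, 44, 42, 43, 
      3, 4, 5, 47, 45, 46, 52, 53, 51, 6, 7, 8, 57, 58, 59, 9, 10, 11, 15, 16, 17]
  | 1 => [12, 13, 14, 4, 5, 3, 8, 6, 7, 9, 10, 11, 15, 16, 17, 0, 1, 2, 41, 39, 40, 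
      49, 50, 48, 54, 55, 56, 60, 61, 62, 27, 28, 29, 33, 34, 35, 38, 36, 37, 43, 44, 42, 
      18, 19, 20, 46, 47, 45, 53, 51, 52, 21, 22, 23, 57, 58, 59, 24, 25, 26, 30, 31, 32]
  | 2 => [0, 1, 2, 13, 14, 12, 8, 6, 7, 10, 11, 9, 17, 15, 16, 3, 4, 5, 29, 27, 28, 
      22, 23, 21, 26, 24, 25, 31, 32, 30, 18, 19, 20, 48, 49, 50, 54, 55, 56, 60, 61, 62, 
      39, 40, 41, 45, 46, 47, 51, 52, 53, 33, 34, 35, 57, 58, 59, 36, 37, 38, 42, 43, 44]
  | 3 => [0, 1, 2, 4, 5, 3, 14, 12, 13, 11, 9, 10, 16, 17, 15, 6, 7, 8, 20, 18, 19, 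
      28, 29, 27, 25, 26, 24, 32, 30, 31, 21, 22, 23, 39, 40, 41, 36, 37, 38, 42, 43, 44, 
      33, 34, 35, 54, 55, 56, 60, 61, 62, 48, 49, 50, 57, 58, 59, 45, 46, 47, 51, 52, 53]
  | _ => [0, 1, 2, 5, 3, 4, 7, 8, 6, 12, 13, 14, 15, 16, 17, 9, 10, 11, 19, 20, 18, 
      23, 21, 22, 27, 28, 29, 30, 31, 32, 24, 25, 26, 33, 34, 35, 39, 40, 41, 42, 43, 44, 
      36, 37, 38, 48, 49, 50, 51, 52, 53, 45, 46, 47, 60, 61, 62, 54, 55, 56, 57, 58, 59]

/-- the tables of the inverses -/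
def tabi : ℕ → List ℕ
  | 0 => [30, 31, 32, 42, 43, 44, 51, 52, 53, 57, 58, 59, 15, 16, 17, 60, 61, 62, 19, 20, 18, 
      23, 21, 22, 24, 25, 26, 0, 1, 2, 27, 28, 29, 33, 34, 35, 38, 36, 37, 5, 3, 4, 
      40, 41, 39, 46, 47, 45, 7, 8, 6, 50, 48, 49, 9, 10, 11, 54, 55, 56, 12, 13, 14]
  | 1 => [15, 16, 17, 5, 3, 4, 7, 8, 6, 9, 10, 11, 0, 1, 2, 12, 13, 14, 42, 43, 44, 
      51, 52, 53, 57, 58, 59, 30, 31, 32, 60, 61, 62, 33, 34, 35, 37, 38, 36, 19, 20, 18, 
      41, 39, 40, 47, 45, 46, 23, 21, 22, 49, 50, 48, 24, 25, 26, 54, 55, 56, 27, 28, 29]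
  | 2 => [0, 1, 2, 15, 16, 17, 7, 8, 6, 11, 9, 10, 5, 3, 4, 13, 14, 12, 30, 31, 32, 
      23, 21, 22, 25, 26, 24, 19, 20, 18, 29, 27, 28, 51, 52, 53, 57, 58, 59, 42, 43, 44, 
      60, 61, 62, 45, 46, 47, 33, 34, 35, 48, 49, 50, 36, 37, 38, 54, 55, 56, 39, 40, 41]
  | 3 => [0, 1, 2, 5, 3, 4, 15, 16, 17, 10, 11, 9, 7, 8, 6, 14, 12, 13, 19, 20, 18, 
      30, 31, 32, 26, 24, 25, 23, 21, 22, 28, 29, 27, 42, 43, 44, 36, 37, 38, 33, 34, 35, 
      39, 40, 41, 57, 58, 59, 51, 52, 53, 60, 61, 62, 45, 46, 47, 54, 55, 56, 48, 49, 50]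
  | _ => [0, 1, 2, 4, 5, 3, 8, 6, 7, 15, 16, 17, 9, 10, 11, 12, 13, 14, 20, 18, 19, 
      22, 23, 21, 30, 31, 32, 24, 25, 26, 27, 28, 29, 33, 34, 35, 42, 43, 44, 36, 37, 38, 
      39, 40, 41, 51, 52, 53, 45, 46, 47, 48, 49, 50, 57, 58, 59, 60, 61, 62, 54, 55, 56]

/-- table lookup -/
def look (l : List ℕ) (p : Fin 63) : Fin 63 := Fin.ofNat 63 (l.getD p.val 0)

theorem look_tabi : ∀ i : Fin 5, ∀ p : Fin 63, look (tabi i) (look (tab i) p) = p := by decide +kernel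
theorem look_tab : ∀ i : Fin 5, ∀ p : Fin 63, look (tab i) (look (tabi i) p) = p := by decide +kernel

/-- the generators -/
def x (i : Fin 5) : Equiv.Perm (Fin 63) where
  toFun := look (tab i)
  invFun := look (tabi i)
  left_inv := look_tabi i
  right_inv := look_tab i

/-- the central element -/
def rz (p : Fin 63) : Fin 63 := Fin.ofNat 63 (3 * (p.val / 3) + (p.val + 1) % 3)

theorem rz_cube : ∀ p : Fin 63, rz (rz (rz p)) = p := by decide +kernel

def z : Equiv.Perm (Fin 63) where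
  toFun := rz
  invFun := fun p => rz (rz p)
  left_inv := fun p => rz_cube p
  right_inv := fun p => rz_cube p


theorem z_apply (p : Fin 63) : z p = rz p := rfl
theorem x_apply (i : Fin 5) (p : Fin 63) : x i p = look (tab i) p := rfl

theorem comm_aux : ∀ i : Fin 5, ∀ p : Fin 63, rz (look (tab i) p) = look (tab i) (rz p) := by decide +kernel
theorem cube_aux : ∀ i : Fin 5, ∀ p : Fin 63, look (tab i) (look (tab i) (look (tab i) p)) = p := by decide +kernel

/-- the exponents of `(x i x j) ^ 2` -/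
def ex (i j : ℕ) : ℕ :=
  match i, j with
  | 0, 2 => 1 | 2, 0 => 1 | 0, 3 => 2 | 3, 0 => 2 | 1, 2 => 2 | 2, 1 => 2 | 1, 3 => 1 | 3, 1 => 1 | _, _ => 0

theorem sq_aux : ∀ i j : Fin 5, i ≠ j → ∀ p : Fin 63,
    look (tab i) (look (tab j) (look (tab i) (look (tab j) p))) = rz^[ex i j] p := by decide +kernel

theorem z_pow (k : ℕ) (p : Fin 63) : (z ^ k) p = rz^[k] p := by
  induction k generalizing p with
  | zero => rfl
  | succ k ih => rw [pow_succ, Equiv.Perm.mul_apply, ih, Function.iterate_succ_apply, z_apply]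

theorem z_cube : z ^ 3 = 1 := by
  ext1 p
  rw [z_pow]
  exact rz_cube p

theorem z_comm (i : Fin 5) : z * x i = x i * z := by
  ext1 p; exact comm_aux i p

theorem x_cube (i : Fin 5) : x i ^ 3 = 1 := by
  ext1 p; exact cube_aux i p

theorem x_sq (i j : Fin 5) (hij : i ≠ j) : (x i * x j) ^ 2 = z ^ ex i j := by
  ext1 p
  rw [z_pow]
  exact sq_aux i j hij p

/-- `[x₀ x₁⁻¹ x₂ x₀⁻¹, x₃] = z²` -/
theorem comm_word : (x 0 * (x 1)⁻¹ * x 2 * (x 0)⁻¹) * x 3 = z ^ 2 * (x 3 * (x 0 * (x 1)⁻¹ * x 2 * (x 0)⁻¹)) := by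
  have h : ∀ p : Fin 63, look (tab 0) (look (tabi 1) (look (tab 2) (look (tabi 0) (look (tab 3) p)))) =
      rz (rz (look (tab 3) (look (tab 0) (look (tabi 1) (look (tab 2) (look (tabi 0) p)))))) := by
    decide +kernel
  ext1 p
  exact h p

/-- the group `C` -/
abbrev C : Subgroup (Equiv.Perm (Fin 63)) := centralizer {z}

/-- its elements -/
def zc : C := ⟨z, mem_centralizer_singleton_iff.2 rfl⟩

def xc (i : Fin 5) : C := ⟨x i, mem_centralizer_singleton_iff.2 (z_comm i).symm⟩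

theorem zc_center : zpowers zc ≤ center C := by
  rw [zpowers_le, mem_center_iff]
  intro g
  exact Subtype.ext (mem_centralizer_singleton_iff.1 g.2)

instance zn : (zpowers zc).Normal := normal_of_le_center zc_center

/-- the generators modulo the centre -/
def y (i : ℕ) : C ⧸ zpowers zc := if h : i < 5 then QuotientGroup.mk' _ (xc ⟨i, h⟩) else 1

theorem rel {m : ℕ} (hm : m ≤ 5) : Rel m y := by
  constructor
  · intro i hi
    rw [y, dif_pos (by omega), ← map_pow, show xc ⟨i, by omega⟩ ^ 3 = 1 from Subtype.ext (x_cube _), map_one]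
  · intro i hi j hj hij
    rw [y, y, dif_pos (by omega), dif_pos (by omega), ← map_mul, ← map_pow]
    refine (QuotientGroup.eq_one_iff _).2 ⟨ex i j, Subtype.ext ?_⟩
    show z ^ (ex i j : ℤ) = _
    rw [zpow_natCast]
    exact (x_sq ⟨i, by omega⟩ ⟨j, by omega⟩ (fun h => hij (congrArg Fin.val h))).symm

theorem orderOf_zc : orderOf zc = 3 := by
  rw [← Subgroup.orderOf_coe]
  show orderOf z = 3
  apply orderOf_eq_prime z_cube
  intro h
  have h1 : z 0 = 0 := by rw [h]; rfl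
  revert h1
  decide +kernel

/-- **The triple covers.** -/
theorem exists_tri {m : ℕ} (hm : m = 4 ∨ m = 5) : ∃ (L : Type) (_ : Group L) (_ : Finite L)
    (π : L →* alternatingGroup (Fin (m + 2))), PCE π ∧ 3 ∣ Nat.card π.ker := by
  have hm1 : m ≤ 5 := by omega
  have h0 : 0 < m := by omega
  have h1 : 1 < m := by omega
  have h2 : 2 < m := by omega
  have h3 : 3 < m := by omega
  obtain ⟨φ, hφ⟩ := exists_hom (by omega) (rel hm1)
  have hφ' : ∀ i (hi : i < m) (hi' : i < 5), φ (cy m i hi) = QuotientGroup.mk' _ (xc ⟨i, hi'⟩) := by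
    intro i hi hi'
    have := hφ i hi
    rw [y, dif_pos hi'] at this
    exact this
  haveI : IsSimpleGroup (alternatingGroup (Fin (m + 2))) :=
    alternatingGroup.isSimpleGroup (by rw [Nat.card_eq_fintype_card, Fintype.card_fin]; omega)
  have hperf : commutator (alternatingGroup (Fin (m + 2))) = ⊤ := by
    apply Cfsg.Agent.H51.Tools.perfect_of_simple inferInstance
    have hcardA : 2 * Nat.card (alternatingGroup (Fin (m + 2))) = (m + 2).factorial := by
      have : Nontrivial (Fin (m + 2)) := ⟨⟨0, 1, by simp⟩⟩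
      rw [Nat.card_eq_fintype_card, two_mul_card_alternatingGroup, Fintype.card_perm, Fintype.card_fin]
    intro hp
    rcases hm with rfl | rfl
    · have : Nat.card (alternatingGroup (Fin (4 + 2))) = 360 := by
        have : (4 + 2).factorial = 720 := by decide
        omega
      rw [this] at hp
      exact absurd hp (by norm_num)
    · have : Nat.card (alternatingGroup (Fin (5 + 2))) = 2520 := by
        have : (5 + 2).factorial = 5040 := by decide
        omega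
      rw [this] at hp
      exact absurd hp (by norm_num)
  refine exists_cover_quot hperf zc_center φ (a := cy m 0 h0 * (cy m 1 h1)⁻¹ * cy m 2 h2 * (cy m 0 h0)⁻¹)
    (b := cy m 3 h3) ?_ (α := xc 0 * (xc 1)⁻¹ * xc 2 * (xc 0)⁻¹) (β := xc 3) ?_ ?_ ?_
  · apply Subtype.ext
    show cyc m 0 * (cyc m 1)⁻¹ * cyc m 2 * (cyc m 0)⁻¹ * cyc m 3 = cyc m 3 * (cyc m 0 * (cyc m 1)⁻¹ * cyc m 2 * (cyc m 0)⁻¹)
    rcases hm with rfl | rfl
    · decide +kernel
    · decide +kernel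
  · rw [map_mul, map_mul, map_mul, map_inv, map_inv, hφ' 0 h0 (by omega), hφ' 1 h1 (by omega), hφ' 2 h2 (by omega)]
    rfl
  · exact hφ' 3 h3 (by omega)
  · have h4 : ⁅xc 0 * (xc 1)⁻¹ * xc 2 * (xc 0)⁻¹, xc 3⁆ = zc ^ 2 := by
      rw [Cfsg.Agent.H51.Crit.mul_comm_of_comm]
      exact Subtype.ext comm_word
    rw [h4, orderOf_pow, orderOf_zc]
    decide

end Cfsg.Agent.H68.TriAlt
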