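import Mathlib
import Cfsg.Agent.S0891
import Cfsg.Agent.H68.TriAlt
import Cfsg.Agent.H68.Dih

/-!
# The Schur multipliers of `A₆` and `A₇` are cyclic of order 6
-/

set_option autoImplicit false
set_option linter.style.haveILetI false

namespace Cfsg.Agent.H68.AltMul

open Subgroup Equiv Cfsg.Agent.H51.Mult Cfsg.Agent.H51.Tools Cfsg.Agent.H68.Bounds
open scoped commutatorElement

theorem card_alt {n : ℕ} (hn : n = 6 ∨ n = 7) :
    Nat.card (alternatingGroup (Fin n)) = 2 ^ 3 * 3 ^ 2 * 5 * (if n = 6 then 1 else 7) := by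
  have : Nontrivial (Fin n) := Fin.nontrivial_iff_two_le.2 (by omega)
  have h1 : 2 * Nat.card (alternatingGroup (Fin n)) = n.factorial := by
    rw [Nat.card_eq_fintype_card, two_mul_card_alternatingGroup, Fintype.card_perm, Fintype.card_fin]
  rcases hn with rfl | rfl
  · have : Nat.factorial 6 = 720 := by decide
    rw [if_pos rfl]; omega
  · have : Nat.factorial 7 = 5040 := by decide
    rw [if_neg (by omega)]; omega

theorem simple {n : ℕ} (hn : n = 6 ∨ n = 7) : IsSimpleGroup (alternatingGroup (Fin n)) :=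
  alternatingGroup.isSimpleGroup (by rw [Nat.card_eq_fintype_card, Fintype.card_fin]; omega)

theorem perfect {n : ℕ} (hn : n = 6 ∨ n = 7) : commutator (alternatingGroup (Fin n)) = ⊤ := by
  apply perfect_of_simple (simple hn)
  rw [card_alt hn]
  rcases hn with rfl | rfl
  · rw [if_pos rfl]; norm_num
  · rw [if_neg (by omega)]; norm_num

/-- the double cover -/
theorem exists_two {n : ℕ} (hn : n = 6 ∨ n = 7) : ∃ (L : Type) (_ : Group L) (_ : Finite L)
    (π : L →* alternatingGroup (Fin n)), PCE π ∧ 2 ∣ Nat.card π.ker := by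
  obtain ⟨Γ, _, _, z, hz, hz2, hzc, hn', ⟨e⟩⟩ := Cfsg.Agent.S0891.result n (by omega)
  refine exists_cover (q := e.toMonoidHom.comp (QuotientGroup.mk' (zpowers z))) ?_ ?_ (perfect hn) hzc ?_ ?_
  · exact e.surjective.comp (QuotientGroup.mk'_surjective _)
  · rw [ker_congr, QuotientGroup.ker_mk', zpowers_le]
    exact hz
  · have : QuotientGroup.mk' (zpowers z) z = 1 := (QuotientGroup.eq_one_iff z).2 (mem_zpowers z)
    show e (QuotientGroup.mk' (zpowers z) z) = 1
    rw [this, map_one]
  · rw [hz2]

/-- elements -/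
def el (n : ℕ) (g : Perm (Fin n)) (h : Perm.sign g = 1) : alternatingGroup (Fin n) := ⟨g, h⟩

theorem bd_two {n : ℕ} (hn : n = 6 ∨ n = 7) : Bd 2 1 (alternatingGroup (Fin n)) := by
  have key : ∃ s t : alternatingGroup (Fin n), s * s = 1 ∧ t * t = 1 ∧ (s * t) ^ 4 = 1 ∧ (s * t) ^ 2 ≠ 1 := by
    rcases hn with rfl | rfl
    · refine ⟨⟨swap 0 1 * swap 2 3, ?_⟩, ⟨swap 0 2 * swap 4 5, ?_⟩, ?_, ?_, ?_, ?_⟩
      · show Perm.sign _ = 1
        decide +kernel
      · show Perm.sign _ = 1
        decide +kernel
      · apply Subtype.ext; decide +kernel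
      · apply Subtype.ext; decide +kernel
      · apply Subtype.ext; decide +kernel
      · intro h; have := congrArg Subtype.val h; revert this; decide +kernel
    · refine ⟨⟨swap 0 1 * swap 2 3, ?_⟩, ⟨swap 0 2 * swap 4 5, ?_⟩, ?_, ?_, ?_, ?_⟩
      · show Perm.sign _ = 1
        decide +kernel
      · show Perm.sign _ = 1
        decide +kernel
      · apply Subtype.ext; decide +kernel
      · apply Subtype.ext; decide +kernel
      · apply Subtype.ext; decide +kernel
      · intro h; have := congrArg Subtype.val h; revert this; decide +kernel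
  obtain ⟨s, t, hs, ht, h4, h2⟩ := key
  refine bd_dih hs ht ?_
  have hst : s * t ≠ t * s := by
    intro h
    apply h2
    rw [pow_two]
    calc s * t * (s * t) = s * t * (t * s) := by rw [← h]
      _ = s * (t * t) * s := by group
      _ = 1 := by rw [ht, mul_one, hs]
  have hord : orderOf (s * t) = 4 := by
    have := orderOf_eq_prime_pow (x := s * t) (p := 2) (n := 1) (by simpa using h2) (by simpa using h4)
    simpa using this
  apply not_dvd_index_of (k := 3) Nat.prime_two
  · rw [Cfsg.Agent.H68.Dih.card_closure' hs ht hst, hord]; norm_num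
  · rw [card_alt hn]
    rcases hn with rfl | rfl
    · rw [if_pos rfl]; norm_num
    · rw [if_neg (by omega)]; norm_num

theorem bd_three {n : ℕ} (hn : n = 6 ∨ n = 7) : Bd 3 1 (alternatingGroup (Fin n)) := by
  have key : ∃ s t : alternatingGroup (Fin n), s ^ 3 = 1 ∧ t ^ 3 = 1 ∧ s * t = t * s ∧ s ≠ 1 ∧
      ∀ j < 3, s ^ j ≠ t := by
    rcases hn with rfl | rfl
    · refine ⟨⟨swap 0 1 * swap 1 2, ?_⟩, ⟨swap 3 4 * swap 4 5, ?_⟩, ?_, ?_, ?_, ?_, ?_⟩
      · show Perm.sign _ = 1
        decide +kernel
      · show Perm.sign _ = 1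
        decide +kernel
      · apply Subtype.ext; decide +kernel
      · apply Subtype.ext; decide +kernel
      · apply Subtype.ext; decide +kernel
      · intro h; have := congrArg Subtype.val h; revert this; decide +kernel
      · intro j hj h; have := congrArg Subtype.val h; revert this
        interval_cases j <;> decide +kernel
    · refine ⟨⟨swap 0 1 * swap 1 2, ?_⟩, ⟨swap 3 4 * swap 4 5, ?_⟩, ?_, ?_, ?_, ?_, ?_⟩
      · show Perm.sign _ = 1
        decide +kernel
      · show Perm.sign _ = 1
        decide +kernel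
      · apply Subtype.ext; decide +kernel
      · apply Subtype.ext; decide +kernel
      · apply Subtype.ext; decide +kernel
      · intro h; have := congrArg Subtype.val h; revert this; decide +kernel
      · intro j hj h; have := congrArg Subtype.val h; revert this
        interval_cases j <;> decide +kernel
  obtain ⟨s, t, hs, ht, hst, hs1, hne⟩ := key
  refine bd_sq Nat.prime_three hs hst (not_dvd_index_sq Nat.prime_three hs ht hst hs1 ?_ ?_)
  · intro h
    rw [mem_zpowers_iff] at h
    obtain ⟨j, hj⟩ := h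
    have h1 : s ^ j = s ^ (j % 3).toNat := by
      have h2 : s ^ j = s ^ (j % 3) := by
        conv_lhs => rw [← Int.emod_add_mul_ediv j 3, zpow_add, zpow_mul]
        have : s ^ (3 : ℤ) = 1 := by exact_mod_cast hs
        rw [this, one_zpow, mul_one]
      rw [h2, ← zpow_natCast, Int.toNat_of_nonneg (Int.emod_nonneg j (by norm_num))]
    rw [h1] at hj
    exact hne _ (by have := Int.emod_lt_of_pos j (show (0 : ℤ) < 3 by norm_num); omega) hj
  · rw [card_alt hn]
    rcases hn with rfl | rfl
    · rw [if_pos rfl]; norm_num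
    · rw [if_neg (by omega)]; norm_num

/-- **The multipliers of `A₆` and `A₇`.** -/
theorem main {n : ℕ} (hn : n = 6 ∨ n = 7) : Cfsg.HasCyclicSchurMultiplier (alternatingGroup (Fin n)) 6 := by
  refine hasCyclic (perfect hn) (by norm_num) ?_ ?_
  · intro p hp hd
    have hf : (6 : ℕ).factorization = (2 * 3 : ℕ).factorization := rfl
    have h23 : (2 * 3 : ℕ).factorization = (2 : ℕ).factorization + (3 : ℕ).factorization :=
      Nat.factorization_mul (by norm_num) (by norm_num)
    rw [hf, h23, Nat.Prime.factorization Nat.prime_two, Nat.Prime.factorization Nat.prime_three]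
    by_cases h2 : p = 2
    · subst h2
      have : (Finsupp.single 2 1 + Finsupp.single 3 1 : ℕ →₀ ℕ) 2 = 1 := by simp
      rw [this]; exact bd_two hn
    by_cases h3 : p = 3
    · subst h3
      have : (Finsupp.single 2 1 + Finsupp.single 3 1 : ℕ →₀ ℕ) 3 = 1 := by simp
      rw [this]; exact bd_three hn
    · refine ((noCov_of_not_sq_dvd hp ?_).bd hp).mono (Nat.zero_le _)
      rw [card_alt hn]
      rw [card_alt hn] at hd
      intro hsq
      have h5 : p ^ 2 ∣ 2 ^ 3 * 3 ^ 2 * (5 * 7) := by
        refine hsq.trans ?_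
        rcases hn with rfl | rfl
        · rw [if_pos rfl]; norm_num
        · rw [if_neg (by omega)]; norm_num
      have hc2 : Nat.Coprime (p ^ 2) (2 ^ 3) := Nat.Coprime.pow _ _ ((Nat.coprime_primes hp Nat.prime_two).2 h2)
      have hc3 : Nat.Coprime (p ^ 2) (3 ^ 2) := Nat.Coprime.pow _ _ ((Nat.coprime_primes hp Nat.prime_three).2 h3)
      have h6 : p ^ 2 ∣ 5 * 7 := (Nat.Coprime.mul_right hc2 hc3).dvd_of_dvd_mul_left h5
      have h7 : p ^ 2 ≤ 35 := Nat.le_of_dvd (by norm_num) h6
      have h8 : p ≤ 5 := by nlinarith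
      have h9 := hp.two_le
      interval_cases p
      · exact h2 rfl
      · exact h3 rfl
      · exact absurd hp (by norm_num)
      · exact absurd h6 (by norm_num)
  · have h3 : ∃ (L : Type) (_ : Group L) (_ : Finite L) (π : L →* alternatingGroup (Fin n)),
        PCE π ∧ 3 ∣ Nat.card π.ker := by
      rcases hn with rfl | rfl
      · exact Cfsg.Agent.H68.TriAlt.exists_tri (m := 4) (Or.inl rfl)
      · exact Cfsg.Agent.H68.TriAlt.exists_tri (m := 5) (Or.inr rfl)
    exact exists_mul (m := 2) (n := 3) (by norm_num) (exists_two hn) h3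

end Cfsg.Agent.H68.AltMul
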