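import Cfsg.Agent.H68.CoMdl
import Cfsg.Agent.H264.TC.TwoPl
import Cfsg.Agent.H785.TC.CoAbs

/-!
# The instance of the model of `Co1` (helper68)
-/

set_option autoImplicit false

namespace Cfsg.Agent.H68.CoMdl

open Cfsg Equiv Cfsg.Agent.MonsterX.LaneVec Cfsg.Agent.MonsterX.LaneLab Cfsg.Agent.H123.Cls Cfsg.Agent.H264.TC

theorem two_inv (x : Spor.Co1) (i j : Fin (2 ^ 17)) :
    (TwoPl.two (pi x i)).testBit (pi x j) = (TwoPl.two i).testBit j := by
  induction x using QuotientGroup.induction_on with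
  | H g =>
    refine two_inv_of (R := fun t => t = 16) (fun p x _ _ => ?_) _ i j
    by_cases hp : XL.testBit p = true
    · rw [TwoPl.testBit_two hp]
      exact ⟨fun h => ⟨hp, h⟩, fun h => h.2⟩
    · rw [Bool.not_eq_true] at hp
      rw [TwoPl.two_dead hp, Nat.zero_testBit, hp]
      simp

/-- **The model of `Co1`.** -/
noncomputable def S1 : Mdl Spor.Co1 := mdl TwoPl.two two_inv

theorem S1_L : S1.L = L := rfl

theorem S1_U : S1.U = XL := rfl

theorem S1_C : S1.C = NoReal39.CL := rfl

theorem S1_D : S1.D = NoReal39.DL := rfl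

theorem un_PA' : H785.TC.un 24 H785.TC.PA = CoGen.MA := by decide +kernel

theorem un_PB' : H785.TC.un 24 H785.TC.PB = CoGen.MB := by decide +kernel

/-- The first generator has the matrix `PA`. -/
theorem rp_ga : H785.TC.Rp S1 ga H785.TC.PA := fun c _ => by rw [un_PA']; exact L_ga c

/-- The second generator has the matrix `PB`. -/
theorem rp_gb : H785.TC.Rp S1 gb H785.TC.PB := fun c _ => by rw [un_PB']; exact L_gb c

end Cfsg.Agent.H68.CoMdl
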