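import Cfsg.Agent.Schreier.TwFFour
import Cfsg.Agent.Mrg.ParSys.Fam.TwoFFour
import Cfsg.Agent.S1074
import Cfsg.Agent.ChevalleyStructure.TwF4.WeylDih
import Cfsg.Agent.LieExceptional.BNPairCore
import Cfsg.Agent.H383.Cube.DC

/-!
# The cube bound for the Tits group (helper68)

`|T| < |C_T(α)| ^ 3` for every involutory automorphism `α` of the Tits group `T = ²F₄(2)'`.  The Sylow 2-subgroup
`B` of `²F₄(2)` has 16 double cosets (Bruhat decomposition), hence `B ⊓ T` has at most 32 double cosets in `T`, and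
`|{x : x α(x) = 1}| ≤ 32 * 2 ^ 11`.
-/

set_option autoImplicit false

namespace Cfsg.Agent.H68.CubeTits

open Cfsg.Agent.H383.Cube
open scoped Pointwise

/-! ### the abstract count -/

theorem dc_index_two {F : Type*} [Group F] {B D : Subgroup F} (hD : D.index = 2) {x y z : D}
    (hx : ∃ b ∈ B, ∃ c ∈ B, (x : F) = b * z * c) (hy : ∃ b ∈ B, ∃ c ∈ B, (y : F) = b * z * c)
    (h : (∃ b ∈ B.subgroupOf D, ∃ c ∈ B.subgroupOf D, x = b * z * c) ↔
      ∃ b ∈ B.subgroupOf D, ∃ c ∈ B.subgroupOf D, y = b * z * c) :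
    ∃ b ∈ B.subgroupOf D, ∃ c ∈ B.subgroupOf D, y = b * x * c := by
  have key : ∀ {b c : F} {u : D}, (u : F) = b * z * c → (b ∈ D ↔ c ∈ D) := by
    intro b c u hu
    have h1 : b * z * c ∈ D := hu ▸ u.2
    rw [Subgroup.mul_mem_iff_of_index_two hD, Subgroup.mul_mem_iff_of_index_two hD] at h1
    have h2 : (z : F) ∈ D := z.2
    tauto
  by_cases hP : ∃ b ∈ B.subgroupOf D, ∃ c ∈ B.subgroupOf D, x = b * z * c
  · obtain ⟨b, hb, c, hc, rfl⟩ := hP
    obtain ⟨b', hb', c', hc', rfl⟩ := h.1 ⟨b, hb, c, hc, rfl⟩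
    exact ⟨b' * b⁻¹, mul_mem hb' (inv_mem hb), c⁻¹ * c', mul_mem (inv_mem hc) hc', by group⟩
  · have hQ := fun hy' => hP (h.2 hy')
    obtain ⟨b, hb, c, hc, hxe⟩ := hx
    obtain ⟨b', hb', c', hc', hye⟩ := hy
    have h1 := key hxe
    have h2 := key hye
    have hbD : b ∉ D := by
      intro hbD
      exact hP ⟨⟨b, hbD⟩, hb, ⟨c, h1.1 hbD⟩, hc, Subtype.ext hxe⟩
    have hbD' : b' ∉ D := by
      intro hbD
      exact hQ ⟨⟨b', hbD⟩, hb', ⟨c', h2.1 hbD⟩, hc', Subtype.ext hye⟩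
    have hcD : c ∉ D := fun h => hbD (h1.2 h)
    have hcD' : c' ∉ D := fun h => hbD' (h2.2 h)
    have h3 : b' * b⁻¹ ∈ D := by
      rw [Subgroup.mul_mem_iff_of_index_two hD, inv_mem_iff]
      exact ⟨fun h => absurd h hbD', fun h => absurd h hbD⟩
    have h4 : c⁻¹ * c' ∈ D := by
      rw [Subgroup.mul_mem_iff_of_index_two hD, inv_mem_iff]
      exact ⟨fun h => absurd h hcD, fun h => absurd h hcD'⟩
    refine ⟨⟨b' * b⁻¹, h3⟩, mul_mem hb' (inv_mem hb), ⟨c⁻¹ * c', h4⟩, mul_mem (inv_mem hc) hc', Subtype.ext ?_⟩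
    show (y : F) = b' * b⁻¹ * x * (c⁻¹ * c')
    rw [hye, hxe]
    group

/-- `B` has at most `|ι|` double cosets in `F`, `D` has index two and `B ⊓ D` is a Sylow 2-subgroup of `D`. -/
theorem card_tw_le_of_index_two {F : Type*} [Group F] [Finite F] {B D : Subgroup F} (hD : D.index = 2)
    {ι : Type*} [Fintype ι] (w : F → ι) (hw : ∀ x y, w x = w y → ∃ b ∈ B, ∃ c ∈ B, y = b * x * c)
    (P : Sylow 2 D) (hP : (P : Subgroup D) = B.subgroupOf D) {α : MulAut D} (hα : α * α = 1) :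
    Nat.card (Tw α) ≤ Nat.card (B.subgroupOf D) * (Fintype.card ι * 2) := by
  classical
  have : Fact (Nat.Prime 2) := ⟨Nat.prime_two⟩
  -- `α(B') = t B' t⁻¹`
  obtain ⟨t, ht⟩ : ∃ t : D, ∀ c ∈ B.subgroupOf D, ∃ c' ∈ B.subgroupOf D, α c' = t * c * t⁻¹ := by
    let Q : Sylow 2 D := P.comapOfInjective α.symm.toMonoidHom α.symm.injective (by
      intro x _
      exact ⟨α x, α.symm_apply_apply x⟩)
    obtain ⟨t, ht⟩ := MulAction.exists_smul_eq D P Q
    refine ⟨t, fun c hc => ⟨α.symm (t * c * t⁻¹), ?_, α.apply_symm_apply _⟩⟩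
    have h1 : t * c * t⁻¹ ∈ (t • P : Sylow 2 D) := by
      have h2 : t * c * t⁻¹ ∈ MulAut.conj t • (P : Subgroup D) :=
        ⟨c, by rw [hP]; exact hc, rfl⟩
      exact h2
    rw [ht] at h1
    have h3 : α.symm (t * c * t⁻¹) ∈ (P : Subgroup D) := h1
    rwa [hP] at h3
  let z : ι → D := fun i => if h : ∃ d : D, w d = i then h.choose else 1
  have hz : ∀ d : D, w (z (w d)) = w d := by
    intro d
    have h : ∃ e : D, w e = w d := ⟨d, rfl⟩
    simp only [z, dif_pos h]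
    exact h.choose_spec
  let δ : D → ι × Bool := fun x => (w ((x * t : D) : F),
    decide (∃ b ∈ B.subgroupOf D, ∃ c ∈ B.subgroupOf D, x * t = b * z (w ((x * t : D) : F)) * c))
  have hmain := card_tw_le hα (B.subgroupOf D) δ Finset.univ (fun _ _ => Finset.mem_univ _) ?_
  · rwa [Finset.card_univ, Fintype.card_prod, Fintype.card_bool] at hmain
  · intro x _ y _ hxy
    have h1 : w ((x * t : D) : F) = w ((y * t : D) : F) := congrArg Prod.fst hxy
    have h2 : (∃ b ∈ B.subgroupOf D, ∃ c ∈ B.subgroupOf D, x * t = b * z (w ((x * t : D) : F)) * c) ↔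
        ∃ b ∈ B.subgroupOf D, ∃ c ∈ B.subgroupOf D, y * t = b * z (w ((y * t : D) : F)) * c :=
      decide_eq_decide.1 (congrArg Prod.snd hxy)
    rw [← h1] at h2
    obtain ⟨b, hb, c, hc, he⟩ := dc_index_two hD (hw _ _ (hz (x * t))) (hw _ _ ((hz (x * t)).trans h1)) h2
    obtain ⟨c', hc', hce⟩ := ht c hc
    refine ⟨b, hb, c', hc', ?_⟩
    rw [hce]
    calc y = (y * t) * t⁻¹ := by group
      _ = b * x * (t * c * t⁻¹) := by rw [he]; group

/-! ### the Tits group -/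

open Cfsg.Lie Cfsg.Agent.ChevalleyStructure.TwF4.BN Cfsg.Agent.Schreier.TwFFour
open Cfsg.Agent.LieExceptional.BNPairCore
open Cfsg.Agent.ChevalleyStructure.TwF4.TwistedFix
open Cfsg.Agent.ChevalleyStructure.TwF4.Groups

variable {K : Type*} [Field K] [Fintype K] {m : ℕ}

/-- `²F₄(2)`: a subgroup `B` of order `2 ^ 12` with at most 16 double cosets -/
theorem exists_B_aux (hK : Fintype.card K = 2 ^ (2 * m + 1)) (hm : m = 0) :
    ∃ (B : Subgroup ↥(twistedF4 K (2 ^ m))) (w : ↥(twistedF4 K (2 ^ m)) → DihedralGroup 8),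
      Nat.card B = 2 ^ 12 ∧ ∀ x y, w x = w y → ∃ b ∈ B, ∃ c ∈ B, y = b * x * c := by
  have : CharP K 2 := Cfsg.Agent.ChevalleyStructure.TwF4.Twisted.charP_two hK
  obtain ⟨φ, hφ⟩ := exists_rln hK
  obtain ⟨P, hPB, hPN, hPS⟩ := exists_bnPair hφ
  have hB : P.B = B0 K (2 ^ m) := hPB
  have hdec := dec hK hφ
  obtain ⟨ψ, -, hψ⟩ := Cfsg.Agent.ChevalleyStructure.TwF4.WeylDih.exists_hom hK
  have hunit : ∀ s : Kˣ, s = 1 := by
    have h1 : Nat.card Kˣ = 1 := by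
      rw [Nat.card_units, Nat.card_eq_fintype_card, hK, hm]
      norm_num
    intro s
    have := (Nat.card_eq_one_iff_unique.1 h1).1
    exact Subsingleton.elim _ _
  have hBU : B0 K (2 ^ m) = U0 K (2 ^ m) := by
    refine le_antisymm ?_ U0_le_B0
    intro b hb
    obtain ⟨s, t, u, hu, hbu⟩ := hdec.1 b hb
    have h1 := Cfsg.Agent.ParSys.Fam.TwoFFour.tt_one hdec
    have h2 : b = u * Cfsg.Agent.ParSys.Fam.TwoFFour.tt hdec s t := Subtype.ext hbu
    rw [hunit s, hunit t, h1, mul_one] at h2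
    rw [h2]
    exact hu
  have hcard : Nat.card P.B = 2 ^ 12 := by
    rw [hB, hBU]
    have h0 := Cfsg.Agent.S1090.result hK
    have h2 : (U0 K (2 ^ m)).map (twistedF4 K (2 ^ m)).subtype = chevF4.posUnipotent K ⊓ twistedF4 K (2 ^ m) := by
      rw [U0, Subgroup.subgroupOf_map_subtype, posUnipotent_eq]
    rw [← h2] at h0
    rw [Nat.card_congr ((U0 K (2 ^ m)).equivMapOfInjective _ (Subgroup.subtype_injective _)).toEquiv, h0, hm]
    norm_num
  choose n hnN hnC using fun g : ↥(twistedF4 K (2 ^ m)) => bruhat (P := P) g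
  have hnN' : ∀ g, ((n g : ↥(twistedF4 K (2 ^ m))) : GL chevF4.Idx K) ∈
      chevF4.monomialSubgroup K ⊓ twistedF4 K (2 ^ m) := by
    intro g
    have h1 := hnN g
    rw [hPN, Subgroup.mem_subgroupOf] at h1
    exact ⟨h1, (n g).2⟩
  refine ⟨P.B, fun g => ψ ⟨_, hnN' g⟩, hcard, ?_⟩
  intro x y hxy
  have h1 : (⟨_, hnN' x⟩ : ↥(chevF4.monomialSubgroup K ⊓ twistedF4 K (2 ^ m)))⁻¹ * ⟨_, hnN' y⟩ ∈ ψ.ker := by
    rw [MonoidHom.mem_ker, map_mul, map_inv]
    exact inv_mul_eq_one.2 hxy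
  rw [hψ, Subgroup.mem_subgroupOf] at h1
  have h2 : (n x)⁻¹ * n y ∈ P.B := by
    rw [hPB, Subgroup.mem_subgroupOf]
    exact Cfsg.Agent.ChevalleyStructure.TwF4.RankOne.H_le_borel h1.1
  obtain ⟨b, hb, c, hc, hx⟩ := mem_C.1 (hnC x)
  obtain ⟨b', hb', c', hc', hy⟩ := mem_C.1 (hnC y)
  refine ⟨b' * b⁻¹, mul_mem hb' (inv_mem hb), c⁻¹ * ((n x)⁻¹ * n y) * c', mul_mem (mul_mem (inv_mem hc) h2) hc', ?_⟩
  calc y = b' * n y * c' := hy
    _ = b' * b⁻¹ * (b * n x * c) * (c⁻¹ * ((n x)⁻¹ * n y) * c') := by group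
    _ = b' * b⁻¹ * x * (c⁻¹ * ((n x)⁻¹ * n y) * c') := by rw [← hx]

theorem exists_B : ∃ (B : Subgroup ↥(twistedF4 (ZMod 2) 1)) (w : ↥(twistedF4 (ZMod 2) 1) → DihedralGroup 8),
    Nat.card B = 2 ^ 12 ∧ ∀ x y, w x = w y → ∃ b ∈ B, ∃ c ∈ B, y = b * x * c :=
  exists_B_aux (K := ZMod 2) (m := 0) (by simp) rfl

theorem cube_abs {F : Type*} [Group F] [Finite F] (D : Subgroup F) [D.Normal] (hidx : D.index = 2)
    (hcard : Nat.card D = 2 ^ 11 * 3 ^ 3 * 5 ^ 2 * 13) (B : Subgroup F) (w : F → DihedralGroup 8)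
    (hB : Nat.card B = 2 ^ 12) (hw : ∀ x y, w x = w y → ∃ b ∈ B, ∃ c ∈ B, y = b * x * c) : CubeBound D := by
  have : Fact (Nat.Prime 2) := ⟨Nat.prime_two⟩
  have hno : ¬ 2 ^ 12 ∣ 2 ^ 11 * 3 ^ 3 * 5 ^ 2 * 13 := by norm_num
  -- `|B ⊓ D| = 2 ^ 11`
  have hcong : Nat.card (B.subgroupOf D) = Nat.card (D.subgroupOf B) :=
    Nat.card_congr
      { toFun := fun x => ⟨⟨x.1.1, x.2⟩, x.1.2⟩
        invFun := fun x => ⟨⟨x.1.1, x.2⟩, x.1.2⟩
        left_inv := fun x => rfl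
        right_inv := fun x => rfl }
  have hrel : (D.subgroupOf B).index ∣ 2 := by
    rw [← hidx]
    exact Subgroup.relIndex_dvd_index_of_normal D B
  have hmul := Subgroup.card_mul_index (D.subgroupOf B)
  rw [hB, ← hcong] at hmul
  have hdvd : Nat.card (B.subgroupOf D) ∣ 2 ^ 11 * 3 ^ 3 * 5 ^ 2 * 13 := by
    rw [← hcard]
    exact Subgroup.card_subgroup_dvd_card _
  have hB' : Nat.card (B.subgroupOf D) = 2 ^ 11 := by
    rcases (Nat.dvd_prime Nat.prime_two).1 hrel with h | h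
    · rw [h, mul_one] at hmul
      exact absurd (hmul ▸ hdvd) hno
    · rw [h] at hmul
      omega
  obtain ⟨P, hP⟩ := (IsPGroup.of_card hB').exists_le_sylow
  have hPB : (P : Subgroup D) = B.subgroupOf D := by
    refine (Subgroup.eq_of_le_of_card_ge hP ?_).symm
    obtain ⟨k, hk⟩ := IsPGroup.iff_card.1 P.isPGroup'
    have h1 : Nat.card (P : Subgroup D) ∣ 2 ^ 11 * 3 ^ 3 * 5 ^ 2 * 13 := by
      rw [← hcard]
      exact Subgroup.card_subgroup_dvd_card _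
    rw [hk] at h1
    rw [hB', hk]
    refine Nat.pow_le_pow_right (by norm_num) ?_
    by_contra hlt
    exact hno ((pow_dvd_pow 2 (by omega)).trans h1)
  refine CubeBound.of_tw fun α hα => ?_
  have h1 := card_tw_le_of_index_two hidx w hw P hPB (mul_self_of_order hα)
  have h3 : Fintype.card (DihedralGroup 8) = 16 := DihedralGroup.card
  rw [hB', h3] at h1
  have h4 : Nat.card (Tw α) ≤ 65536 := h1.trans (by norm_num)
  have h5 : Nat.card (Tw α) ^ 3 ≤ 65536 ^ 3 := Nat.pow_le_pow_left h4 3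
  have h6 : Nat.card D = 17971200 := by rw [hcard]; norm_num
  rw [h6]
  exact lt_of_le_of_lt h5 (by norm_num)

theorem congr_sub {F G : Type*} [Group F] [Group G] (D : Subgroup F) (e : G ≃* D) (h : CubeBound D) : CubeBound G :=
  CubeBound.congr e.symm h

theorem cube_titsGroup : CubeBound TitsGroup := by
  obtain ⟨hidx, -, -, hcard⟩ := Cfsg.Agent.S1074.result
  obtain ⟨B, w, hB, hw⟩ := exists_B
  exact cube_abs _ hidx hcard B w hB hw

/-- **the cube bound for the Tits group** -/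
theorem cube_tits {G : Type*} [Group G] (h : Cfsg.Lie.IsoTits G) : CubeBound G := by
  obtain ⟨e⟩ := h
  exact congr_sub (commutator ↥(twistedF4 (ZMod 2) 1)) e cube_titsGroup

end Cfsg.Agent.H68.CubeTits
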