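import Cfsg.Agent.H68.CoGen
import Cfsg.Agent.SporadicA.Co0Basic

/-!
# The action of `Co1` on the codes is faithful (helper68)

* `mk_eq : Rp M g → Rp M h → mk g = mk h` in `Co1`;
* `Rc M x`: the element `x` of `Co1` acts on the codes by the matrix `M`; `Rc.one`, `Rc.mul`, `Rc.inv`, `Rc.pow`, `Rc.eq`,
  `Rc.ne`, orders: `Rc.orderOf`.
-/

set_option autoImplicit false

namespace Cfsg.Agent.H68.CoFaith

open Cfsg Cfsg.Agent.LeechMat.Core Cfsg.Agent.LeechMat.Code Cfsg.Agent.LeechMat.Elements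
open Cfsg.Agent.MonsterX.Psi
open Cfsg.Agent.H633.Ore (force force_eq linL linL_nil linL_cons linL_xor linL_zero linL_map idL linL_idL linL_lt mapF mapF_eq)
open Cfsg.Agent.H68.CoGen

theorem ext0 {g h : Co0} (H : ∀ v : leechLattice, g • v = h • v) : g = h := Subtype.ext (Equiv.ext H)

theorem gens_ok : ∀ b ∈ genCodes, b = cA 23 ∨ (isLeech b = true ∧ dotc b b = 32 ∧ dotc cS b ≠ 0) := by
  decide +kernel

/-- the code of `(-4, 0, …, 0, 4)` -/
def cU : ℕ := Z0 - 4 + (4 <<< 115)

theorem cU_ok : isLeech cU = true ∧ dotc cU cU = 32 ∧ dotc cS cU ≠ 0 := by decide +kernel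

theorem cA_sum : vec (cA 23) = vec (cA 0) + vec cU := by
  have : ∀ p, vec (cA 23) p = vec (cA 0) p + vec cU p := by decide +kernel
  exact funext this

theorem cS_ok : isLeech cS = true ∧ dotc cS cS = 32 := by decide +kernel

theorem cA0_mem : cA 0 ∈ genCodes ∧ cA 0 ≠ cA 23 := by decide +kernel

/-- An element acting trivially on the codes is a sign. -/
theorem sgn_of_psi {g : Co0} (h : ∀ v : leechLattice, psi (g • v) = psi v) :
    ∃ e : ℤ, (e = 1 ∨ e = -1) ∧ ∀ v : leechLattice, g • v = e • v := by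
  have hm : ∀ v : leechLattice, sqNorm (v : GolayPt → ℤ) = 32 → g • v = v ∨ g • v = -v := fun v hv =>
    eq_or_neg (by rw [co0_sqNorm, hv]) hv (h v)
  set s : leechLattice := ⟨vec cS, isLeech_sound cS_ok.1⟩ with hs
  have hs32 : sqNorm (s : GolayPt → ℤ) = 32 := by
    rw [sqNorm_eq_dotInt]
    show dotInt (vec cS) (vec cS) = 32
    rw [← dotc_eq]; exact cS_ok.2
  obtain ⟨e, he, hse⟩ : ∃ e : ℤ, (e = 1 ∨ e = -1) ∧ g • s = e • s := by
    rcases hm s hs32 with h1 | h1
    · exact ⟨1, Or.inl rfl, by rw [h1, one_smul]⟩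
    · exact ⟨-1, Or.inr rfl, by rw [h1, neg_smul, one_smul]⟩
  refine ⟨e, he, ?_⟩
  -- the vectors not orthogonal to `s`
  have key : ∀ v : leechLattice, sqNorm (v : GolayPt → ℤ) = 32 → dotInt (s : GolayPt → ℤ) (v : GolayPt → ℤ) ≠ 0 →
      g • v = e • v := by
    intro v hv hsv
    obtain ⟨e', he', hve⟩ : ∃ e' : ℤ, (e' = 1 ∨ e' = -1) ∧ g • v = e' • v := by
      rcases hm v hv with h1 | h1
      · exact ⟨1, Or.inl rfl, by rw [h1, one_smul]⟩
      · exact ⟨-1, Or.inr rfl, by rw [h1, neg_smul, one_smul]⟩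
    have h1 := co0_dotInt g s v
    rw [hse, hve, AddSubgroup.coe_zsmul, AddSubgroup.coe_zsmul, dotInt_smul_left, dotInt_smul_right] at h1
    have h2 : e * e' = 1 := by
      have h3 : (e * e' - 1) * dotInt (s : GolayPt → ℤ) (v : GolayPt → ℤ) = 0 := by linarith
      rcases mul_eq_zero.1 h3 with h4 | h4
      · linarith
      · exact absurd h4 hsv
    have h3 : e' = e := by
      rcases he with rfl | rfl <;> rcases he' with rfl | rfl <;> omega
    rw [hve, h3]
  let T : AddSubgroup leechLattice :=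
    { carrier := {v | g • v = e • v}
      zero_mem' := by
        show g • (0 : leechLattice) = e • 0
        rw [co0_smul_zero, smul_zero]
      add_mem' := by
        intro a b ha hb
        have ha' : g • a = e • a := ha
        have hb' : g • b = e • b := hb
        show g • (a + b) = e • (a + b)
        rw [co0_smul_add, ha', hb', smul_add]
      neg_mem' := by
        intro a ha
        have ha' : g • a = e • a := ha
        show g • (-a) = e • (-a)
        rw [co0_smul_neg, ha', smul_neg] }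
  have hT : ∀ b : ℕ, isLeech b = true → dotc b b = 32 → dotc cS b ≠ 0 → vec b ∈ T.map leechLattice.subtype := by
    intro b h1 h2 h3
    refine ⟨⟨vec b, isLeech_sound h1⟩, ?_, rfl⟩
    apply key
    · rw [sqNorm_eq_dotInt]
      show dotInt (vec b) (vec b) = 32
      rw [← dotc_eq]; exact h2
    · show dotInt (vec cS) (vec b) ≠ 0
      rw [← dotc_eq]; exact h3
  have hle : leechLattice ≤ T.map leechLattice.subtype := by
    apply leech_le'
    intro b hb
    rcases gens_ok b hb with rfl | ⟨h1, h2, h3⟩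
    · rw [cA_sum]
      refine AddSubgroup.add_mem _ ?_ (hT _ cU_ok.1 cU_ok.2.1 cU_ok.2.2)
      rcases gens_ok _ cA0_mem.1 with h1 | ⟨h1, h2, h3⟩
      · exact absurd h1 cA0_mem.2
      · exact hT _ h1 h2 h3
    · exact hT b h1 h2 h3
  intro v
  obtain ⟨w, hw, hwv⟩ := hle v.2
  have h1 : w = v := Subtype.ext hwv
  rw [← h1]
  exact hw

theorem mem_center_of_psi {g : Co0} (h : ∀ v : leechLattice, psi (g • v) = psi v) : g ∈ Subgroup.center Co0 := by
  obtain ⟨e, he1, he⟩ := sgn_of_psi h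
  rw [Subgroup.mem_center_iff]
  intro k
  apply ext0
  intro v
  rw [mul_smul, mul_smul, he, he]
  rcases he1 with rfl | rfl
  · rw [one_smul, one_smul]
  · rw [neg_smul, one_smul, neg_smul, one_smul, co0_smul_neg]

/-! ### `Co1` -/

theorem code_inj_smul (g : Co0) {v w : leechLattice} (h : code (g • v) = code (g • w)) : code v = code w := by
  rw [code_eq_iff, psi_eq_iff] at h ⊢
  obtain ⟨u, hu⟩ := h
  refine ⟨g⁻¹ • u, ?_⟩
  have h1 : g⁻¹ • (g • v - g • w) = g⁻¹ • (2 • u) := by rw [hu]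
  rw [co0_smul_sub, inv_smul_smul, inv_smul_smul, two_smul, co0_smul_add] at h1
  rw [h1, two_smul]

theorem mk_eq {M : List ℕ} {g h : Co0} (hg : Rp M g) (hh : Rp M h) :
    (QuotientGroup.mk g : Spor.Co1) = QuotientGroup.mk h := by
  rw [QuotientGroup.eq]
  apply mem_center_of_psi
  intro v
  apply psi_of_code
  apply code_inj_smul g
  rw [← mul_smul, mul_inv_cancel_left, hh v, hg v]

theorem code_of_center {z : Co0} (hz : z ∈ Subgroup.center Co0) (v : leechLattice) : code (z • v) = code v := by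
  rcases SporadicA.Co0Basic.eq_one_or_neg_of_mem_center hz with rfl | rfl
  · rw [one_smul]
  · have h1 : SporadicA.Co0Basic.negCo0 • v = -v := SporadicA.Co0Basic.negCo0_apply v
    rw [h1, code_eq_iff, psi_eq_iff]
    exact ⟨-v, by rw [two_smul]; abel⟩

theorem code_of_mk {g h : Co0} (e : (QuotientGroup.mk g : Spor.Co1) = QuotientGroup.mk h) (v : leechLattice) :
    code (g • v) = code (h • v) := by
  rw [QuotientGroup.eq] at e
  have h1 := code_of_center e (g⁻¹ • (g • v))
  apply code_inj_smul g⁻¹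
  rw [← mul_smul, ← mul_smul]
  rw [inv_smul_smul] at h1
  rw [h1, inv_mul_cancel, one_smul]

/-- The element `x` of `Co1` acts on the codes by the matrix `M`. -/
def Rc (M : List ℕ) (x : Spor.Co1) : Prop := ∃ g : Co0, Rp M g ∧ (QuotientGroup.mk g : Spor.Co1) = x

/-- matrix of the product `x * y` from the matrices of `x` and `y` -/
noncomputable def mm (M N : List ℕ) : List ℕ := N.map (linL M)

theorem Rc.one : Rc (idL 24) 1 := ⟨1, Rp.one, rfl⟩

theorem Rc.mul {M N : List ℕ} {x y : Spor.Co1} (hM : Rc M x) (hN : Rc N y) : Rc (mm M N) (x * y) := by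
  obtain ⟨g, hg, rfl⟩ := hM
  obtain ⟨h, hh, rfl⟩ := hN
  exact ⟨g * h, hg.mul hh, rfl⟩

theorem Rc.inv {M N : List ℕ} {x : Spor.Co1} (hM : Rc M x) (h : mm N M = idL 24) : Rc N x⁻¹ := by
  obtain ⟨g, hg, rfl⟩ := hM
  exact ⟨g⁻¹, hg.inv h, rfl⟩

theorem Rc.eq {M : List ℕ} {x y : Spor.Co1} (hx : Rc M x) (hy : Rc M y) : x = y := by
  obtain ⟨g, hg, rfl⟩ := hx
  obtain ⟨h, hh, rfl⟩ := hy
  exact mk_eq hg hh

theorem Rc.getD {M N : List ℕ} {x : Spor.Co1} (hM : Rc M x) (hN : Rc N x) : ∀ k < 24, M.getD k 0 = N.getD k 0 := by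
  obtain ⟨g, hg, rfl⟩ := hM
  obtain ⟨h, hh, e⟩ := hN
  intro k hk
  have key : ∀ v : leechLattice, linL M (code v) = linL N (code v) := fun v => by
    rw [← hg v, ← hh v]
    exact (code_of_mk e v).symm
  rcases Nat.lt_or_ge k 12 with h1 | h1
  · have h2 := key (vZ ⟨k, h1⟩)
    rwa [code_vZ, linL_two_pow, linL_two_pow] at h2
  · have h2 := key (vX ⟨k - 12, by omega⟩)
    rw [code_vX, linL_two_pow, linL_two_pow] at h2
    have h3 : 12 + (⟨k - 12, by omega⟩ : Fin 12).val = k := by simp; omega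
    rwa [h3] at h2

/-- matrices of powers -/
noncomputable def pm (M : List ℕ) (n : ℕ) : List ℕ := Nat.rec (idL 24) (fun _ ih => mm M ih) n

theorem Rc.pow {M : List ℕ} {x : Spor.Co1} (hM : Rc M x) (n : ℕ) : Rc (pm M n) (x ^ n) := by
  induction n with
  | zero => rw [pow_zero]; exact Rc.one
  | succ n ih => rw [pow_succ']; exact hM.mul ih

end Cfsg.Agent.H68.CoFaith
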