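import Cfsg.Agent.MonsterX.Psi
import Cfsg.Agent.H633.Ore.Lin

/-!
# Two elements of `Co0` and their action on the codes of the lattice modulo `2` (helper68)

`code v`: the number with bit `k < 12` equal to `(v, vX k)/8` and bit `12 + k` equal to `(v, vZ k)/8` modulo `2`.
`Rp M g`: the element `g` of `Co0` acts on the codes by the matrix `M` (24 codes: images of the unit codes;
`linL M c` is the XOR of the entries of `M` selected by the bits of `c`).

* `Rp.one`, `Rp.mul`, `Rp.inv`: products and inverses;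
* `gA`, `gB`: two elements, `rp_A : Rp MA gA`, `rp_B : Rp MB gB`.
-/

set_option autoImplicit false

namespace Cfsg.Agent.H68.CoGen

open Cfsg Cfsg.Agent.LeechMat.Core Cfsg.Agent.LeechMat.Code Cfsg.Agent.LeechMat.Elements
open Cfsg.Agent.Monster.PauliBasic Cfsg.Agent.Monster.PauliClif Cfsg.Agent.Monster.PauliGates
open Cfsg.Agent.Monster.PauliBits (idx testBit_idx idx_add idx_lt idx_injective)
open Cfsg.Agent.MonsterX.Psi
open Cfsg.Agent.H633.Ore (linL linL_nil linL_cons linL_xor linL_zero linL_map idL linL_idL linL_lt)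

/-! ### codes -/

/-- The vector of the 24 products. -/
def cv (v : leechLattice) : B 24 := fun k =>
  if h : k.val < 12 then bl v (vX ⟨k.val, h⟩) else bl v (vZ ⟨k.val - 12, by omega⟩)

/-- The code of a lattice vector. -/
def code (v : leechLattice) : ℕ := idx (cv v)

theorem code_lt (v : leechLattice) : code v < 2 ^ 24 := idx_lt _

theorem cv_add (v w : leechLattice) : cv (v + w) = cv v + cv w := by
  funext k
  rw [Pi.add_apply]
  unfold cv
  split_ifs <;> exact bl_add_left _ _ _

theorem cv_zero : cv 0 = 0 := by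
  funext k
  unfold cv
  split_ifs <;> exact bl_zero_left _

theorem code_add (v w : leechLattice) : code (v + w) = code v ^^^ code w := by
  unfold code; rw [cv_add, idx_add]

theorem code_zero : code 0 = 0 := by
  have h := code_add 0 0
  rw [add_zero, Nat.xor_self] at h
  exact h

theorem code_two (v : leechLattice) : code (2 • v) = 0 := by
  rw [two_smul, code_add, Nat.xor_self]

theorem testBit_lo (v : leechLattice) (k : Fin 12) : (code v).testBit k.val = decide (bl v (vX k) = 1) := by
  unfold code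
  have h1 : k.val < 24 := by omega
  rw [testBit_idx, dif_pos h1]
  unfold cv
  rw [dif_pos k.2]

theorem testBit_hi (v : leechLattice) (k : Fin 12) : (code v).testBit (12 + k.val) = decide (bl v (vZ k) = 1) := by
  unfold code
  have h1 : 12 + k.val < 24 := by omega
  rw [testBit_idx, dif_pos h1]
  unfold cv
  have h2 : ¬ (12 + k.val < 12) := by omega
  rw [dif_neg h2]
  have h3 : (⟨12 + k.val - 12, by omega⟩ : Fin 12) = k := Fin.ext (by simp)
  rw [h3]

theorem dec_one_inj {a b : ZMod 2} (h : decide (a = 1) = decide (b = 1)) : a = b := by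
  revert a b; decide

theorem psi_of_code {v w : leechLattice} (h : code v = code w) : psi v = psi w := by
  apply Prod.ext
  · funext k
    rw [psi_fst, psi_fst]
    apply dec_one_inj
    rw [← testBit_hi, ← testBit_hi, h]
  · funext k
    rw [psi_snd, psi_snd]
    apply dec_one_inj
    rw [← testBit_lo, ← testBit_lo, h]

theorem code_of_psi {v w : leechLattice} (h : psi v = psi w) : code v = code w := by
  obtain ⟨u, hu⟩ := psi_eq_iff.1 h
  have h1 : v = w + 2 • u := by rw [← hu]; abel
  rw [h1, code_add, code_two, Nat.xor_zero]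

theorem code_eq_iff {v w : leechLattice} : code v = code w ↔ psi v = psi w := ⟨psi_of_code, code_of_psi⟩

theorem eq_of_bits {a b : ℕ} (ha : a < 2 ^ 24) (hb : b < 2 ^ 24) (h1 : ∀ k : Fin 12, a.testBit k.val = b.testBit k.val)
    (h2 : ∀ k : Fin 12, a.testBit (12 + k.val) = b.testBit (12 + k.val)) : a = b := by
  apply Nat.eq_of_testBit_eq
  intro i
  rcases Nat.lt_or_ge i 12 with h | h
  · exact h1 ⟨i, h⟩
  · rcases Nat.lt_or_ge i 24 with h' | h'
    · have h3 := h2 ⟨i - 12, by omega⟩
      have h4 : 12 + (i - 12) = i := by omega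
      simp only [h4] at h3
      exact h3
    · rw [Nat.testBit_eq_false_of_lt (lt_of_lt_of_le ha (Nat.pow_le_pow_right (by norm_num) h')),
        Nat.testBit_eq_false_of_lt (lt_of_lt_of_le hb (Nat.pow_le_pow_right (by norm_num) h'))]

theorem code_vX (k : Fin 12) : code (vX k) = 2 ^ (12 + k.val) := by
  apply eq_of_bits (code_lt _) (Nat.pow_lt_pow_right (by norm_num) (by omega))
  · intro j
    rw [testBit_lo, bl_XX, Nat.testBit_two_pow]
    have h : ¬ (12 + k.val = j.val) := by omega
    rw [decide_eq_false h]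
    decide
  · intro j
    rw [testBit_hi, bl_XZ, Nat.testBit_two_pow]
    by_cases h : k = j
    · subst h; simp
    · have h' : ¬ (12 + k.val = 12 + j.val) := fun h' => h (Fin.ext (by omega))
      rw [if_neg h, decide_eq_false h']
      decide

theorem code_vZ (k : Fin 12) : code (vZ k) = 2 ^ k.val := by
  apply eq_of_bits (code_lt _) (Nat.pow_lt_pow_right (by norm_num) (by omega))
  · intro j
    rw [testBit_lo, bl_comm, bl_XZ, Nat.testBit_two_pow]
    by_cases h : j = k
    · subst h; simp
    · have h' : ¬ (k.val = j.val) := fun h' => h (Fin.ext h'.symm)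
      rw [if_neg h, decide_eq_false h']
      decide
  · intro j
    rw [testBit_hi, bl_ZZ, Nat.testBit_two_pow]
    have h : ¬ (k.val = 12 + j.val) := by omega
    rw [decide_eq_false h]
    decide

/-! ### matrices -/

/-- The element `g` acts on the codes by the matrix `M`. -/
def Rp (M : List ℕ) (g : Co0) : Prop := ∀ v : leechLattice, code (g • v) = linL M (code v)

theorem Rp.one : Rp (idL 24) 1 := fun v => by rw [one_smul, linL_idL (code_lt v)]

theorem Rp.mul {M N : List ℕ} {g h : Co0} (hM : Rp M g) (hN : Rp N h) : Rp (N.map (linL M)) (g * h) := fun v => by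
  rw [mul_smul, hM, hN, linL_map]

theorem Rp.inv {M N : List ℕ} {g : Co0} (hM : Rp M g) (hMN : M.map (linL N) = idL 24) : Rp N g⁻¹ := fun v => by
  have h1 := hM (g⁻¹ • v)
  rw [smul_inv_smul] at h1
  rw [h1, ← linL_map, hMN, linL_idL (code_lt _)]

theorem linL_two_pow (M : List ℕ) (k : ℕ) : linL M (2 ^ k) = M.getD k 0 := by
  induction M generalizing k with
  | nil => rfl
  | cons c M ih =>
    rw [linL_cons]
    cases k with
    | zero =>
      have h1 : (2 ^ 0 : ℕ) >>> 1 = 0 := by decide
      rw [h1, linL_zero]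
      simp
    | succ k =>
      have h1 : (2 ^ (k + 1) : ℕ) >>> 1 = 2 ^ k := by
        rw [Nat.shiftRight_eq_div_pow, pow_succ, pow_one, Nat.mul_div_cancel _ (by norm_num)]
      have h2 : (2 ^ (k + 1) : ℕ) &&& 1 = 0 := by
        rw [Nat.and_one_is_mod, pow_succ]
        omega
      rw [h1, h2, ih, Nat.zero_mul, Nat.zero_xor, List.getD_cons_succ]

/-- An additive function to the codes is determined by the images of the 24 basic vectors. -/
theorem additive_ext {f h : leechLattice → ℕ} (hf : ∀ v w, f (v + w) = f v ^^^ f w)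
    (hh : ∀ v w, h (v + w) = h v ^^^ h w) (hX : ∀ k, f (vX k) = h (vX k)) (hZ : ∀ k, f (vZ k) = h (vZ k))
    (v : leechLattice) : f v = h v := by
  -- the set of agreement is a subgroup
  have hz : ∀ f : leechLattice → ℕ, (∀ v w, f (v + w) = f v ^^^ f w) → f 0 = 0 := by
    intro f hf
    have h1 := hf 0 0
    rw [add_zero, Nat.xor_self] at h1
    exact h1
  have hn : ∀ f : leechLattice → ℕ, (∀ v w, f (v + w) = f v ^^^ f w) → ∀ v, f (-v) = f v := by
    intro f hf v
    have h1 := hf v (-v)
    rw [add_neg_cancel, hz f hf] at h1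
    have h2 : f v ^^^ (f v ^^^ f (-v)) = f v := by rw [← h1, Nat.xor_zero]
    rw [← Nat.xor_assoc, Nat.xor_self, Nat.zero_xor] at h2
    exact h2
  let S : AddSubgroup leechLattice :=
    { carrier := {v | f v = h v}
      zero_mem' := by show f 0 = h 0; rw [hz f hf, hz h hh]
      add_mem' := by
        intro a b ha hb
        show f (a + b) = h (a + b)
        have ha' : f a = h a := ha
        have hb' : f b = h b := hb
        rw [hf, hh, ha', hb']
      neg_mem' := by
        intro a ha
        show f (-a) = h (-a)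
        have ha' : f a = h a := ha
        rw [hn f hf, hn h hh, ha'] }
  obtain ⟨u, hu⟩ := psi_eq_iff.1 (psi_lift (psi v)).symm
  have h1 : v = lift (psi v) + 2 • u := by rw [← hu]; abel
  have h2 : f (2 • u) = h (2 • u) := by rw [two_smul, hf, hh, Nat.xor_self, Nat.xor_self]
  have h3 : lift (psi v) ∈ S := by
    unfold lift
    exact S.add_mem (S.sum_mem fun k _ => S.nsmul_mem (hX k) _) (S.sum_mem fun k _ => S.nsmul_mem (hZ k) _)
  rw [h1]
  exact S.add_mem h3 h2

theorem smul_add' (g : Co0) (v w : leechLattice) : g • (v + w) = g • v + g • w :=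
  co0_smul_add g v w

/-- The matrix is determined by the images of the 24 basic vectors. -/
theorem rp_of_basis {M : List ℕ} {g : Co0} (hX : ∀ k : Fin 12, code (g • vX k) = M.getD (12 + k.val) 0)
    (hZ : ∀ k : Fin 12, code (g • vZ k) = M.getD k.val 0) : Rp M g := by
  refine additive_ext (fun v w => by rw [smul_add', code_add]) (fun v w => by rw [code_add, linL_xor])
    (fun k => by rw [code_vX, linL_two_pow, hX]) (fun k => by rw [code_vZ, linL_two_pow, hZ])

/-- check of the image of a vector: `b` the packed vector, `y` the packed image, `c` its code -/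
def chkW (A : List ℕ) (b y c : ℕ) : Bool :=
  allTo (fun j => mvAt A b j == 8 * sdig y j) 24 &&
    allTo (fun j => blc y (xs.getD j 0) == if c.testBit j then 1 else 0) 12 &&
    allTo (fun j => blc y (zs.getD j 0) == if c.testBit (12 + j) then 1 else 0) 12 && Nat.blt c 16777216

theorem chkW_sound {A : List ℕ} (hA : A.length = 24) {g : Co0}
    (hg : ∀ x : leechLattice, mv A (x : GolayPt → ℤ) = (8 : ℤ) • ((g • x : leechLattice) : GolayPt → ℤ))
    {b y c : ℕ} (h : chkW A b y c = true) (x : leechLattice) (hx : (x : GolayPt → ℤ) = vec b) : code (g • x) = c := by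
  unfold chkW at h
  rw [Bool.and_eq_true, Bool.and_eq_true, Bool.and_eq_true, allTo_iff, allTo_iff, allTo_iff] at h
  obtain ⟨⟨⟨h1, h2⟩, h3⟩, h4⟩ := h
  have h4' : c < 2 ^ 24 := by
    have : (2 : ℕ) ^ 24 = 16777216 := by norm_num
    rw [this]
    simpa [Nat.blt_eq] using h4
  have hy : ((g • x : leechLattice) : GolayPt → ℤ) = vec y := by
    funext p
    have e1 := congrFun (hg x) p
    rw [hx, mv_vec hA] at e1
    have e2 := h1 (pos p) (pos_lt p)
    rw [beq_iff_eq] at e2
    rw [e2, Pi.smul_apply, smul_eq_mul] at e1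
    have e3 : sdig y (pos p) = ((g • x : leechLattice) : GolayPt → ℤ) p := by
      exact mul_left_cancel₀ (by norm_num : (8 : ℤ) ≠ 0) e1
    rw [← e3]
    rfl
  have key : ∀ (t : Bool) (z : ℤ), z = (if t then 1 else 0) → decide ((z : ZMod 2) = 1) = t := by
    intro t z hz
    subst hz
    cases t <;> decide
  apply eq_of_bits (code_lt _) h4'
  · intro k
    rw [testBit_lo]
    have e1 := h2 k.val k.2
    rw [beq_iff_eq] at e1
    rw [bl_of_blc hy rfl e1]
    exact key _ _ rfl
  · intro k
    rw [testBit_hi]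
    have e1 := h3 k.val k.2
    rw [beq_iff_eq] at e1
    rw [bl_of_blc hy rfl e1]
    exact key _ _ rfl

/-- all the checks for the 24 basic vectors -/
def chkM (A yw M : List ℕ) : Bool :=
  allTo (fun k => chkW A (zs.getD k 0) (yw.getD k 0) (M.getD k 0)) 12 &&
    allTo (fun k => chkW A (xs.getD k 0) (yw.getD (12 + k) 0) (M.getD (12 + k) 0)) 12

theorem chkM_sound {A yw M : List ℕ} (hA : A.length = 24) {g : Co0}
    (hg : ∀ x : leechLattice, mv A (x : GolayPt → ℤ) = (8 : ℤ) • ((g • x : leechLattice) : GolayPt → ℤ))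
    (h : chkM A yw M = true) : Rp M g := by
  unfold chkM at h
  rw [Bool.and_eq_true, allTo_iff, allTo_iff] at h
  exact rp_of_basis (fun k => chkW_sound hA hg (h.2 k.val k.2) (vX k) rfl)
    (fun k => chkW_sound hA hg (h.1 k.val k.2) (vZ k) rfl)

/-! ### the two elements -/

/-- columns of the first matrix (times 8) -/
def colA : List ℕ :=
  [0x93a0e8420e84a4e84a1293a0e749d2, 0x74a0e84212849d283a1273a0e949d2, 0x841d074a509420c731d08425084210,
   0x841d0939d094210941d08424c8420c, 0x93a0e84212839d283a1294a12749ce, 0x93a0e8420e84a5283a1273a1293a4e,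
   0x841d0739d474290741d0841d084210, 0x841d093a509421074250641d064210, 0x841d0739cc74190741d0841d084210,
   0x841d094a5073210941d0831d084210, 0x841d0749d09421094250841d083190, 0x74a0e84212849ce84a1293a1273a4e,
   0x74a0e8420e83a5283a1294a0e73a52, 0x841d094a5075210941d0851d084210, 0x74a0e8420e83a4e84a1274a12949ce,
   0x841d0939d094210941d08425484214, 0x841d093a509421074250a41d0a4210, 0x631d0949d074210742508425084210,
   0x841d0749d09421094250841d085290, 0xa51d0949d074210742508425084210, 0x841d074a5094214751d08425084210,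
   0x8424c949d094210741cc841d084210, 0x93a0e84212839ce84a1274a0e93a52, 0x84254949d094210741d4841d084210]

/-- images of the generators of the lattice -/
def ysA : List ℕ :=
  [0x8be318c5ef8c62f7c5f38bdef7c5f1, 0x7c6318c5f18c5f17bdf37bdef8c5f1, 0x8421284a109420e739d28421084210,
   0x84212941d094210841d28420e8420e, 0x8be318c5f18bdf17bdf38c5f17c5ef, 0x8be318c5ef8c6317bdf37bdf18be2f,
   0x84212841d284250741d2841d084210, 0x84212942109421074212741d074210, 0x84212841ce841d0741d2841d084210,
   0x8421294a1083a10841d2839d084210, 0x84212849d09421084212841d0839d0, 0x7c6318c5f18c5ef7c5f38bdf17be2f,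
   0x7c6318c5ef8be317bdf38c5ef7be31, 0x8421294a1084a10841d2849d084210, 0x7c6318c5ef8be2f7c5f37c5f18c5ef,
   0x84212941d094210841d28421284212, 0x84212942109421074212941d094210, 0x73a12949d084210742128421084210,
   0x84212849d09421084212841d084a50, 0x94a12949d084210742128421084210, 0x8421284a1094212749d28421084210,
   0x84250949d094210741d0841d084210, 0x8be318c5f18bdef7c5f37c5ef8be31, 0x84254949d094210741d4841d084210,
   0x8418c8421084210842108421084210, 0x7bdef8c5ef8be2f7c6338c5ef8c631, 0x849ce94210842108421284a1094212,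
   0x841d084a1094210841d284a1084252, 0x841ce949d0842108421084a0e84250, 0x841d094a10842127421294a1084210,
   0x7bdef8cdef8c6317c5f17c5f18c62f, 0x8c5ef8c5b18be2f7c5f17c5f18c631, 0x7c5af8c5ef8be317c6317c6317c631,
   0x8c5af8c5ef8c5f17c5ef8c5f18c631, 0x841ce94a1083a1074a108421094210, 0x7c5ef8c5ef9be317c5f18c5f18bdf1,
   0x7bdef9c5f18c5ef7c5f18c5f18be31]

/-- images of the 24 basic vectors -/
def ywA : List ℕ :=
  [0x841ce949d094a10941ce849d284a52, 0x841ce84a52849cc841d284a1083a50, 0x841ce8425073a109420e83a1084210,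
   0x841ce74210842109424e84210839d0, 0x841ce8521094a12849ce849d084a50, 0x7c62f7c6317c5f17be317bdf18c5f3,
   0x8421074a508420e73a108421284212, 0x8be2f8be317bdf17bdf18c6317ce2f, 0x8bded7be2f7c6318be2f7be318be2f,
   0x84210739d284a507421084a1084210, 0x8421093a5084210742107421074a50, 0x93a0e8420e84a4e84a1293a0e749d2,
   0x749ce74a1284252739d0849d084252, 0x8c5af8c5ef8c5f17c5ef8c5f18c631, 0x741ce74a5084a10741d09399084a10,
   0x8c5f17c5af6bdf19be318cdef7be2d, 0x7c5ed8c5ef8c62f8c5f18c5f17c631, 0x8c5f18be317bdf17be317c62f9bdf1,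
   0x741ce941ce841d2749ce849d294210, 0x8c5ed8c5f18bdf17c5f18c6317be31, 0x8418c84a107421073a10841d0741d2,
   0x8418c8420e94210841d073a0e83a12, 0x7c5af8c5ef8be317c6317c6317c631, 0x8418c8421084210842108421084210]

/-- the first matrix on the codes -/
def MA : List ℕ :=
  [2056129, 414064, 2108892, 2514092, 6220041, 11160373, 4305581, 15454268, 11312581, 2098413,
   4263961, 3176724, 4864500, 11555946, 5604935, 15904603, 10983512, 8495933, 4653624, 10641772,
   6137236, 5010752, 14150177, 3440]

/-- columns of the second matrix (times 8) -/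
def colB : List ℕ :=
  [0x83a1284a4e949d09424e7425083a52, 0x83a0e83a4e74a50941ce941d083a4e, 0x94250742108320ea3a1083a1294210,
   0x83a1284a4e739d0741d2741d084a4e, 0x741d0742106420e83a1083a8e74210, 0x941d0742108421284a0c83a0e95210,
   0x752509420c8420e84a1083a0e94210, 0x951d07420c8421283a1084a1274210, 0x741d074210a420e83a108398e74210,
   0x84a0e83a52949d0941d27425084a4e, 0x83a0e839ce939d0741ce74250839ce, 0x94250942108429283a1063a0e74210,
   0x941cc952108420e84a1083a1274210, 0x941d4932108420e84a1083a1274210, 0x941d0742108421284a1483a0e93210,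
   0x94250742908420e84a1084a0e74190, 0x741d0742108428e84a1064a1294210, 0x84a12849d2749d0941ce741d0839ce,
   0x941d0942108420e8399084a0e94214, 0x83a0e839ce749d094252741d0849d2, 0x94250741908420e84a1084a0e74290,
   0x83a12849ce94a50941d294250849ce, 0x7425074210842128499083a1274214, 0x741d09421083212a4a1084a0e74210]

/-- images of the generators of the lattice -/
def ysB : List ℕ :=
  [0x7bdf18c62f8bdf19c62f7c62f7be31, 0x7bdef8be2f7be319c5ef8c5ef7be2f, 0x842108421083210a42108421084210,
   0x7bdf18c62f7b5f18c5f17c5ef7c62f, 0x741d08421073a10942108424e74210, 0x841d08421083a1294a0e8420e84a10,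
   0x74a109420e83a1094a108420e84210, 0x849d08420e83a129421084a1074210, 0x741d08421093a1094210841ce74210,
   0x7c5ef8be318bdf19c5f17c62f7c62f, 0x7bdef8bdef8b5f18c5ef7c62f7bdef, 0x842109421083a52942107420e74210,
   0x841ce94a1083a1094a108421074210, 0x841d293a1083a1094a108421074210, 0x841d08421083a1294a128420e83a10,
   0x842108425083a1094a1084a0e741d0, 0x741d08421083a5094a1074a1084210, 0x7c5f18c5f17bdf19c5ef7c5ef7bdef,
   0x841d09421083a10941d084a0e84212, 0x7bdef8bdef7bdf19c6317c5ef7c5f1, 0x84210841d083a1094a1084a0e74250,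
   0x7bdf18c5ef8be319c5f18c62f7c5ef, 0x742108421083a12949d08421074212, 0x741d09421083212a4a1084a0e74210,
   0x942107420e84a0e841d073a1084210, 0x841d084a1084210949d07421083a12, 0x8bdef7be2f7c62f8cdf17bdf17bdf1,
   0x942108421083a0e949d08421074212, 0x8bdf18c5ef7c5ef8c5b17bdf17c5f1, 0x841d0841d07420e94a107421074210,
   0x941d2841d084210949d08420e84210, 0x842108420e84210949d28420e841d2, 0x9c5ef7c5ef7c5ef8c5f17c5ef7bdf1,
   0x8bdf17bdef8c62d8c5f17c5ef7c5f1, 0x84210741d084a10949d27421084210, 0x8bdef7c5ef8be2f8cdf17c62f7bdef,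
   0x842128421084250949d074210741d0]

/-- images of the 24 basic vectors -/
def ywB : List ℕ :=
  [0x9bdf38be2f8c62d8c5b18c62f7c5b1, 0x9425283a1083a50941d07321274212, 0x8c62f7be318cdef7bdf17be318c62f,
   0x8be2f7bdef8c5ef6bdef7be318bdef, 0x9bdf38bdaf8c62d8c5b18c62f7c631, 0x8420e83a1084a509420e9421083a10,
   0x8c62f7bdf18be2f9be2f8be318bdf1, 0x7c5f17c6316c62f8be318be2f7c631, 0x942107421084a107420e83a1094a10,
   0x7c6318c5ed7be2f7c62f8bdef8bdf1, 0x8cdf17c62f7c6318be318c5f17c631, 0x83a1284a4e949d09424e7425083a52,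
   0x94a0e941ce8424c949d093a1084210, 0x8bdf17bdef8c62d8c5f17c5ef7c5f1, 0x8c5f18bdef9c66d9bdef7be2f8be6f,
   0x7bdaf9bdf17bdaf6bdf17b5ef7c5f1, 0x9bdf18c62f8c62f8c5f17be2f7bdf1, 0x7420e73a107421084a10841d284210,
   0x841d2741d094a4e849d2841ce741ce, 0x8be2f7c5ef7c62f8c5f17be2f6c5f1, 0x8c5ef7bded8cded9bdef7b6317bdef,
   0x9be2f6c62d9c5ef8c5af7bdf17c62f, 0x9c5ef7c5ef7c5ef8c5f17c5ef7bdf1, 0x942107420e84a0e841d073a1084210]

/-- the second matrix on the codes -/
def MB : List ℕ :=
  [10481515, 8298111, 9027885, 9430422, 10479878, 4530711, 15635896, 16210828, 3328207, 11457133,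
   14659216, 7821964, 1589065, 16543661, 8904959, 10757206, 14262139, 4211673, 7731842, 13336208,
   11073124, 15122462, 15308011, 5277094]

theorem checkA : checkMat 8 colA ysA = true := by decide +kernel

theorem checkB : checkMat 8 colB ysB = true := by decide +kernel

/-- The first element. -/
noncomputable def gA : Co0 := (exists_co0 checkA).choose

theorem gA_spec (x : leechLattice) : mv colA (x : GolayPt → ℤ) = (8 : ℤ) • ((gA • x : leechLattice) : GolayPt → ℤ) :=
  (exists_co0 checkA).choose_spec x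

/-- The second element. -/
noncomputable def gB : Co0 := (exists_co0 checkB).choose

theorem gB_spec (x : leechLattice) : mv colB (x : GolayPt → ℤ) = (8 : ℤ) • ((gB • x : leechLattice) : GolayPt → ℤ) :=
  (exists_co0 checkB).choose_spec x

theorem rp_A : Rp MA gA := chkM_sound (yw := ywA) rfl gA_spec (by decide +kernel)

theorem rp_B : Rp MB gB := chkM_sound (yw := ywB) rfl gB_spec (by decide +kernel)

theorem psi_A (v : leechLattice) : code (gA • v) = linL MA (code v) := rp_A v

theorem psi_B (v : leechLattice) : code (gB • v) = linL MB (code v) := rp_B v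

theorem MA_lt : ∀ c ∈ MA, c < 2 ^ 24 := by decide +kernel

theorem MB_lt : ∀ c ∈ MB, c < 2 ^ 24 := by decide +kernel

end Cfsg.Agent.H68.CoGen
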