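import Cfsg.Agent.H123.Cls.LRun
import Cfsg.Agent.H264.TC.NoReal39Data
import Cfsg.Agent.MonsterX.LaneInj
import Cfsg.Agent.H68.CoFaith
import Cfsg.Agent.S0399

/-!
# The model of `Co1` for class enumeration certificates (helper68)

`mdl two h : Mdl Spor.Co1` (structure of `H123/Cls/LRun`): points = the 98280 lanes, codes = `CoGen.code`.

* `L_mk`, `L_code`: action on the codes; `pi`: action on the lanes, `lv_pi`, `dot_pi`;
* `mdl_A`, `mdl_B`: the generators `mk gA`, `mk gB` act by `xc MA`, `xc MB`;
* `finite_co1`, `card_co1`.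
-/

set_option autoImplicit false

namespace Cfsg.Agent.H68.CoMdl

open Cfsg Equiv Cfsg.Agent.LeechMat.Core Cfsg.Agent.LeechMat.Code Cfsg.Agent.LeechMat.Elements
open Cfsg.Agent.Monster.PauliBits (bit bit_xor)
open Cfsg.Agent.Monster.PauliClif (ab)
open Cfsg.Agent.Monster.PauliPlanes (get labP)
open Cfsg.Agent.MonsterX.Psi Cfsg.Agent.MonsterX.LaneVec Cfsg.Agent.MonsterX.LaneInj Cfsg.Agent.MonsterX.LaneLab
open Cfsg.Agent.Lib.BitNet (value)
open Cfsg.Agent.H123.Cls
open Cfsg.Agent.H264.TC.NoReal39 (CL DL)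
open Cfsg.Agent.H633.Ore (linL linL_nil linL_cons idL linL_idL)
open Cfsg.Agent.H68.CoGen Cfsg.Agent.H68.CoFaith

/-! ### lifts of codes -/

/-- a lattice vector with the code `c % 2 ^ 24` -/
def lf (c : ℕ) : leechLattice := lift (fun k => bit c (12 + k.val), fun k => bit c k.val)

theorem dec_bit (c k : ℕ) : decide (bit c k = 1) = c.testBit k := by
  unfold bit
  cases c.testBit k <;> decide

theorem testBit_lf_lo (c : ℕ) (k : Fin 12) : (code (lf c)).testBit k.val = c.testBit k.val := by
  rw [testBit_lo, ← psi_snd, lf, psi_lift]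
  exact dec_bit c k.val

theorem testBit_lf_hi (c : ℕ) (k : Fin 12) : (code (lf c)).testBit (12 + k.val) = c.testBit (12 + k.val) := by
  rw [testBit_hi, ← psi_fst, lf, psi_lift]
  exact dec_bit c (12 + k.val)

theorem code_lf (c : ℕ) : code (lf c) = c % 2 ^ 24 := by
  apply eq_of_bits (code_lt _) (Nat.mod_lt _ (by norm_num))
  · intro k
    have hk : k.val < 24 := by omega
    rw [testBit_lf_lo, Nat.testBit_mod_two_pow]
    simp [hk]
  · intro k
    have hk : 12 + k.val < 24 := by omega
    rw [testBit_lf_hi, Nat.testBit_mod_two_pow]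
    simp [hk]

theorem code_lf' {c : ℕ} (hc : c < 2 ^ 24) : code (lf c) = c := by rw [code_lf, Nat.mod_eq_of_lt hc]

theorem code_lf_code (v : leechLattice) : code (lf (code v)) = code v := code_lf' (code_lt v)

theorem code_smul_congr (g : Co0) {v w : leechLattice} (h : code v = code w) : code (g • v) = code (g • w) := by
  apply code_inj_smul g⁻¹
  rw [inv_smul_smul, inv_smul_smul, h]

theorem code_neg (v : leechLattice) : code (-v) = code v := by
  rw [code_eq_iff, psi_eq_iff]
  exact ⟨-v, by rw [two_smul]; abel⟩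

/-! ### the action on the codes -/

/-- the action of `Co1` on the codes -/
noncomputable def L (x : Spor.Co1) (c : ℕ) : ℕ := code (x.out • lf c)

theorem L_mk (g : Co0) (c : ℕ) : L (QuotientGroup.mk g) c = code (g • lf c) :=
  code_of_mk (QuotientGroup.out_eq' _) _

theorem L_code (g : Co0) (v : leechLattice) : L (QuotientGroup.mk g) (code v) = code (g • v) := by
  rw [L_mk]
  exact code_smul_congr g (code_lf_code v)

theorem L_mul (x y : Spor.Co1) (c : ℕ) : L (x * y) c = L x (L y c) := by
  induction x using QuotientGroup.induction_on with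
  | H g =>
    induction y using QuotientGroup.induction_on with
    | H h =>
      rw [← QuotientGroup.mk_mul, L_mk, L_mk h, L_code, mul_smul]

theorem code_lf_xor (a b : ℕ) : code (lf (a ^^^ b)) = code (lf a + lf b) := by
  rw [code_add, code_lf, code_lf, code_lf, Nat.xor_mod_two_pow]

theorem L_xor (x : Spor.Co1) (a b : ℕ) : L x (a ^^^ b) = L x a ^^^ L x b := by
  unfold L
  rw [code_smul_congr x.out (code_lf_xor a b), smul_add', code_add]

theorem L_zero (x : Spor.Co1) : L x 0 = 0 := by
  have h := L_xor x 0 0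
  rw [Nat.xor_self, Nat.xor_self] at h
  exact h

theorem L_lt (x : Spor.Co1) (c : ℕ) : L x c < 2 ^ 24 := code_lt _

theorem L_one (c : ℕ) (hc : c < 2 ^ 24) : L 1 c = c := by
  rw [← QuotientGroup.mk_one, L_mk, one_smul, code_lf' hc]

theorem faith (x : Spor.Co1) (h : ∀ k < 24, L x (2 ^ k) = 2 ^ k) : x = 1 := by
  induction x using QuotientGroup.induction_on with
  | H g =>
    have hid : ∀ k < 24, (idL 24).getD k 0 = 2 ^ k := by decide
    have h1 : Rp (idL 24) g := by
      apply rp_of_basis
      · intro k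
        rw [hid _ (by omega), ← L_code, code_vX, h _ (by omega)]
      · intro k
        rw [hid _ (by omega), ← L_code, code_vZ, h _ (by omega)]
    rw [mk_eq h1 Rp.one, QuotientGroup.mk_one]

/-! ### the form -/

theorem bl_congr {v v' w w' : leechLattice} (h : code v = code v') (h' : code w = code w') : bl v w = bl v' w' := by
  rw [bl_eq_form, bl_eq_form, psi_of_code h, psi_of_code h']

/-- the form on the codes -/
noncomputable def BB (a c : ℕ) : Bool := decide (bl (lf a) (lf c) = 1)

theorem dec_add (a b : ZMod 2) : decide (a + b = 1) = (decide (a = 1) ^^ decide (b = 1)) := by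
  revert a b; decide

theorem BB_xor (a b c : ℕ) : BB (a ^^^ b) c = (BB a c ^^ BB b c) := by
  unfold BB
  rw [bl_congr (code_lf_xor a b) (rfl : code (lf c) = code (lf c)), bl_add_left, dec_add]

theorem BB_symm (a b : ℕ) : BB a b = BB b a := by
  unfold BB; rw [bl_comm]

theorem BB_zero (c : ℕ) : BB 0 c = false := by
  have h := BB_xor 0 0 c
  rw [Nat.xor_self, Bool.xor_self] at h
  exact h

theorem BB_lo (k : Fin 12) (c : ℕ) : BB (2 ^ k.val) c = c.testBit (12 + k.val) := by
  have h1 : code (lf (2 ^ k.val)) = code (vZ k) := by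
    rw [code_vZ, code_lf' (Nat.pow_lt_pow_right (by norm_num) (by omega))]
  unfold BB
  rw [bl_congr h1 (rfl : code (lf c) = code (lf c)), bl_comm, ← testBit_hi, testBit_lf_hi]

theorem BB_hi (k : Fin 12) (c : ℕ) : BB (2 ^ (12 + k.val)) c = c.testBit k.val := by
  have h1 : code (lf (2 ^ (12 + k.val))) = code (vX k) := by
    rw [code_vX, code_lf' (Nat.pow_lt_pow_right (by norm_num) (by omega))]
  unfold BB
  rw [bl_congr h1 (rfl : code (lf c) = code (lf c)), bl_comm, ← testBit_lo, testBit_lf_lo]

theorem BB_unit (k : ℕ) (hk : k < 24) (c : ℕ) (hc : c < 2 ^ 24) : BB (2 ^ k) c =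
    (Nat.lor (Nat.shiftRight c 12) (Nat.shiftLeft (Nat.land c 4095) 12)).testBit k := by
  show _ = ((c >>> 12) ||| ((c &&& 4095) <<< 12)).testBit k
  rw [Nat.testBit_or, Nat.testBit_shiftRight, Nat.testBit_shiftLeft, Nat.testBit_and]
  have h4095 : ∀ j < 12, (4095 : ℕ).testBit j = true := by decide
  rcases Nat.lt_or_ge k 12 with h | h
  · have h1 : ¬ (k ≥ 12) := by omega
    rw [BB_lo ⟨k, h⟩ c, decide_eq_false h1, Bool.false_and, Bool.or_false]
  · obtain ⟨j, rfl⟩ := Nat.exists_eq_add_of_le h
    have hj : j < 12 := by omega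
    have h2 : c.testBit (12 + (12 + j)) = false :=
      Nat.testBit_eq_false_of_lt (lt_of_lt_of_le hc (Nat.pow_le_pow_right (by norm_num) (by omega)))
    have h3 : 12 + j - 12 = j := by omega
    rw [BB_hi ⟨j, hj⟩ c, h2, Bool.false_or, h3, h4095 j hj, Bool.and_true]
    simp

theorem BB_L (x : Spor.Co1) (a b : ℕ) : BB (L x a) (L x b) = BB a b := by
  unfold BB L
  rw [bl_congr (code_lf_code _) (code_lf_code _), bl_smul]

/-! ### the planes -/

theorem xc_congr : ∀ (l : List ℕ) {a b : ℕ}, (∀ k < l.length, a.testBit k = b.testBit k) → xc l a = xc l b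
  | [], _, _, _ => rfl
  | C :: Cs, a, b, h => by
    rw [xc, xc, h 0 (by simp)]
    congr 1
    exact xc_congr Cs fun k hk => by
      rw [Nat.testBit_shiftRight, Nat.testBit_shiftRight]
      exact h (1 + k) (by simp; omega)

theorem xc_mod {l : List ℕ} (hl : l.length = 24) (c : ℕ) : xc l (c % 2 ^ 24) = xc l c := by
  apply xc_congr
  intro k hk
  rw [hl] at hk
  rw [Nat.testBit_mod_two_pow]
  simp [hk]

theorem linL_eq_xc (l : List ℕ) : ∀ c, linL l c = xc l c := by
  induction l with
  | nil => intro c; rfl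
  | cons a l ih =>
    intro c
    rw [linL_cons, ih, xc, Nat.testBit_zero, Nat.and_one_is_mod]
    rcases Nat.mod_two_eq_zero_or_one c with h | h <;> rw [h] <;> simp

theorem lenC : CL.length = 24 := rfl

theorem lenD : DL.length = 24 := rfl

theorem CD_lo : ∀ k < 12, DL.getD k 0 = CL.getD (12 + k) 0 := by
  intro k hk
  interval_cases k <;> rfl

theorem CD_hi : ∀ k < 12, DL.getD (12 + k) 0 = CL.getD k 0 := by
  intro k hk
  interval_cases k <;> rfl

theorem CL_getD : ∀ k < 24, CL.getD k 0 = Nat.land (get P k) XL := by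
  intro k hk
  interval_cases k <;> rfl

theorem testBit_CL (i k : ℕ) (hk : k < 24) : (value CL i).testBit k = ((get P k).testBit i && XL.testBit i) := by
  rw [testBit_value, CL_getD k hk]
  exact Nat.testBit_and _ _ _

theorem val_lt (i : ℕ) : value CL i < 2 ^ 24 := value_lt CL i

theorem val_dead {i : ℕ} (h : XL.testBit i = false) : value CL i = 0 := by
  apply eq_of_bits (val_lt i) (by norm_num)
  · intro k
    rw [testBit_CL i _ (by omega), h, Bool.and_false, Nat.zero_testBit]
  · intro k
    rw [testBit_CL i _ (by omega), h, Bool.and_false, Nat.zero_testBit]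

theorem val_live {i : ℕ} (h : XL.testBit i = true) : value CL i = code (lv i) := by
  apply eq_of_bits (val_lt i) (code_lt _)
  · intro k
    rw [testBit_CL i _ (by omega), h, Bool.and_true, testBit_lo, ← psi_snd, psi_lv h]
    exact (dec_bit (get P k.val) i).symm
  · intro k
    rw [testBit_CL i _ (by omega), h, Bool.and_true, testBit_hi, ← psi_fst, psi_lv h]
    exact (dec_bit (get P (12 + k.val)) i).symm

theorem val_inj {i j : ℕ} (hi : XL.testBit i = true) (hj : XL.testBit j = true) (h : value CL i = value CL j) :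
    i = j := by
  rw [val_live hi, val_live hj, code_eq_iff, psi_lv hi, psi_lv hj] at h
  exact lab_inj hi hj h

theorem B_row (c i : ℕ) : (xc DL c).testBit i = BB c (value CL i) := by
  have key : ∀ c < 2 ^ 24, (xc DL c).testBit i = BB c (value CL i) := by
    refine xor_ind (fun c => (xc DL c).testBit i = BB c (value CL i)) ?_ (fun a b ha hb => ?_) 24 fun k hk => ?_
    · rw [xc_zero, Nat.zero_testBit, BB_zero]
    · rw [xc_xor, Nat.testBit_xor, ha, hb, BB_xor]
    · rw [xc_two_pow]
      rcases Nat.lt_or_ge k 12 with h | h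
      · rw [BB_lo ⟨k, h⟩, CD_lo k h, testBit_value]
      · obtain ⟨j, rfl⟩ := Nat.exists_eq_add_of_le h
        have hj : j < 12 := by omega
        rw [BB_hi ⟨j, hj⟩, CD_hi j hj, testBit_value]
  have h1 : BB c (value CL i) = BB (c % 2 ^ 24) (value CL i) := by
    unfold BB
    rw [bl_congr (v := lf c) (v' := lf (c % 2 ^ 24)) (by rw [code_lf, code_lf, Nat.mod_mod])
      (rfl : code (lf (value CL i)) = code (lf (value CL i)))]
  rw [h1, ← key _ (Nat.mod_lt _ (by norm_num)), xc_mod lenD]

/-! ### the action on the lanes -/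

theorem exists_img (x : Spor.Co1) {i : ℕ} (hi : XL.testBit i = true) :
    ∃ j, XL.testBit j = true ∧ value CL j = L x (value CL i) := by
  obtain ⟨j, hj, h⟩ := exists_lane (x.out • lv i) (by rw [co0_sqNorm, sqNorm_lv hi])
  refine ⟨j, hj, ?_⟩
  rw [val_live hj, val_live hi]
  have h1 : L x (code (lv i)) = code (x.out • lv i) := code_smul_congr _ (code_lf_code _)
  rw [h1]
  rcases h with h | h
  · rw [h]
  · rw [h, code_neg]

/-- the image of a lane -/
noncomputable def pf (x : Spor.Co1) (i : Fin (2 ^ 17)) : Fin (2 ^ 17) :=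
  if h : XL.testBit i.val = true then
    ⟨(exists_img x h).choose, lt_of_lt_of_eq (lt_of_XL (exists_img x h).choose_spec.1) (by norm_num)⟩ else i

theorem pf_live (x : Spor.Co1) (i : Fin (2 ^ 17)) (h : XL.testBit i.val = true) :
    XL.testBit (pf x i).val = true ∧ value CL (pf x i).val = L x (value CL i.val) := by
  unfold pf
  rw [dif_pos h]
  exact (exists_img x h).choose_spec

theorem pf_dead (x : Spor.Co1) (i : Fin (2 ^ 17)) (h : ¬ XL.testBit i.val = true) : pf x i = i := by
  unfold pf
  rw [dif_neg h]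

theorem pf_U (x : Spor.Co1) (i : Fin (2 ^ 17)) : XL.testBit (pf x i).val = XL.testBit i.val := by
  by_cases h : XL.testBit i.val = true
  · rw [(pf_live x i h).1, h]
  · rw [pf_dead x i h]

theorem pf_cod (x : Spor.Co1) (i : Fin (2 ^ 17)) : L x (value CL i.val) = value CL (pf x i).val := by
  by_cases h : XL.testBit i.val = true
  · exact (pf_live x i h).2.symm
  · rw [pf_dead x i h, val_dead (by simpa using h), L_zero]

theorem pf_mul (x y : Spor.Co1) (i : Fin (2 ^ 17)) : pf (x * y) i = pf x (pf y i) := by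
  by_cases h : XL.testBit i.val = true
  · have h1 : XL.testBit (pf y i).val = true := by rw [pf_U, h]
    apply Fin.ext
    apply val_inj
    · rw [pf_U, h]
    · rw [pf_U, h1]
    · rw [← pf_cod, ← pf_cod, ← pf_cod, L_mul]
  · rw [pf_dead y i h, pf_dead _ i h, pf_dead x i h]

theorem pf_one (i : Fin (2 ^ 17)) : pf 1 i = i := by
  by_cases h : XL.testBit i.val = true
  · apply Fin.ext
    apply val_inj
    · rw [pf_U, h]
    · exact h
    · rw [← pf_cod, L_one _ (val_lt _)]
  · rw [pf_dead _ i h]

/-- the action on the lanes -/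
noncomputable def pi : Spor.Co1 →* Perm (Fin (2 ^ 17)) where
  toFun x := ⟨pf x, pf x⁻¹, fun i => by rw [← pf_mul, inv_mul_cancel, pf_one],
    fun i => by rw [← pf_mul, mul_inv_cancel, pf_one]⟩
  map_one' := Equiv.ext pf_one
  map_mul' x y := Equiv.ext (pf_mul x y)

theorem pi_apply (x : Spor.Co1) (i : Fin (2 ^ 17)) : pi x i = pf x i := rfl

/-- the vector of the image -/
theorem lv_pi (g : Co0) (i : Fin (2 ^ 17)) (hi : XL.testBit i.val = true) :
    lv (pi (QuotientGroup.mk g) i).val = g • lv i.val ∨ lv (pi (QuotientGroup.mk g) i).val = -(g • lv i.val) := by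
  obtain ⟨h1, h2⟩ := pf_live (QuotientGroup.mk g) i hi
  apply eq_or_neg
  · exact sqNorm_lv h1
  · rw [co0_sqNorm, sqNorm_lv hi]
  · apply psi_of_code
    rw [← L_code, ← val_live hi, ← h2]
    exact (val_live h1).symm

theorem dot_pi (x : Spor.Co1) (i j : Fin (2 ^ 17)) (hi : XL.testBit i.val = true) (hj : XL.testBit j.val = true) :
    |dotInt (lv (pi x i).val : GolayPt → ℤ) (lv (pi x j).val : GolayPt → ℤ)| =
      |dotInt (lv i.val : GolayPt → ℤ) (lv j.val : GolayPt → ℤ)| := by
  induction x using QuotientGroup.induction_on with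
  | H g =>
    have e := co0_dotInt g (lv i.val) (lv j.val)
    rcases lv_pi g i hi with h1 | h1 <;> rcases lv_pi g j hj with h2 | h2
    · rw [h1, h2, e]
    · rw [h1, h2, AddSubgroup.coe_neg, dotInt_neg_right, e, abs_neg]
    · rw [h1, h2, AddSubgroup.coe_neg, dotInt_neg_left, e, abs_neg]
    · rw [h1, h2, AddSubgroup.coe_neg, AddSubgroup.coe_neg, dotInt_neg_left, dotInt_neg_right, e, neg_neg]

/-- **The model of `Co1`**, with an arbitrary invariant second relation. -/
noncomputable def mdl (two : ℕ → ℕ)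
    (h2 : ∀ (g : Spor.Co1) (i j : Fin (2 ^ 17)), (two (pi g i)).testBit (pi g j) = (two i).testBit j) :
    Mdl Spor.Co1 where
  π := pi
  L := L
  C := CL
  D := DL
  U := XL
  B := BB
  two := two
  lenC := lenC
  lenD := lenD
  U_lt := fun _ h => lt_of_lt_of_eq (lt_of_XL h) (by norm_num)
  L_mul := L_mul
  L_xor := L_xor
  L_lt := L_lt
  L_one := L_one
  faith := faith
  U_inv := pf_U
  cod := pf_cod
  inj := fun i j hi hj h => Fin.ext (val_inj hi hj h)
  B_row := fun c i => B_row c i.val
  B_xor := BB_xor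
  B_unit := BB_unit
  B_L := BB_L
  B_symm := BB_symm
  two_inv := h2

/-- an invariant relation -/
theorem two_inv_of {two : ℕ → ℕ} {R : ℤ → Prop} (h : ∀ p x : ℕ, p < 2 ^ 17 → x < 2 ^ 17 →
    ((two p).testBit x = true ↔ XL.testBit p = true ∧ XL.testBit x = true ∧
      R |dotInt (lv p : GolayPt → ℤ) (lv x : GolayPt → ℤ)|)) (g : Spor.Co1) (i j : Fin (2 ^ 17)) :
    (two (pi g i)).testBit (pi g j) = (two i).testBit j := by
  rw [Bool.eq_iff_iff, h _ _ (pi g i).2 (pi g j).2, h _ _ i.2 j.2]
  have hi : XL.testBit (pi g i).val = XL.testBit i.val := pf_U g i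
  have hj : XL.testBit (pi g j).val = XL.testBit j.val := pf_U g j
  rw [hi, hj]
  constructor
  · rintro ⟨h1, h2, h3⟩
    rw [dot_pi g i j h1 h2] at h3
    exact ⟨h1, h2, h3⟩
  · rintro ⟨h1, h2, h3⟩
    rw [← dot_pi g i j h1 h2] at h3
    exact ⟨h1, h2, h3⟩

theorem L_of_Rp {M : List ℕ} (hM : M.length = 24) {g : Co0} (h : Rp M g) (c : ℕ) :
    L (QuotientGroup.mk g) c = xc M c := by
  rw [L_mk, h, linL_eq_xc, code_lf, xc_mod hM]

/-- The first generator. -/
noncomputable def ga : Spor.Co1 := QuotientGroup.mk gA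

/-- The second generator. -/
noncomputable def gb : Spor.Co1 := QuotientGroup.mk gB

theorem L_ga (c : ℕ) : L ga c = xc MA c := L_of_Rp rfl rp_A c

theorem L_gb (c : ℕ) : L gb c = xc MB c := L_of_Rp rfl rp_B c

theorem card_co1 : Nat.card Spor.Co1 = 4157776806543360000 := Cfsg.Agent.S0399.result.2

theorem finite_co1 : Finite Spor.Co1 := Nat.finite_of_card_ne_zero (by rw [card_co1]; norm_num)

end Cfsg.Agent.H68.CoMdl
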