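import Cfsg.Agent.H47.MeetM
import Cfsg.Agent.CpAutBFive.Closed
import Cfsg.Agent.MFive.JTwo
import Cfsg.Agent.S1701

/-!
# Trivial Sylow intersections: the Monster, `p = 5` (helper68, S5762)

The cases for an element of order 5 are helper49's, helper92's and helper30's (`CpAutBFive.EvenRow.cases`,
`MFive.Row.cases_model`), the index bound in `C(z)` is helper47's.
-/

set_option autoImplicit false
set_option maxRecDepth 100000

namespace Cfsg.Agent.H68.MeetMon

open Cfsg Cfsg.Agent.H903.SylMeet Cfsg.Agent.H47.MeetS Cfsg.Agent.H47.MeetS.Mon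
open Cfsg.Agent.LThreeMB (fr XX Zx KChart.Cent KChart.pi KChart.chart)
open Cfsg.Agent.MonsterX Cfsg.Agent.MonsterX.Model Cfsg.Agent.MonsterX.MainSimple Cfsg.Agent.MonsterX.MainPack
open Cfsg.Agent.MonsterX.MainBasic
open Cfsg.Agent.MonsterU
open Cfsg.Spor (Co1)
open Subgroup (centralizer mem_centralizer_singleton_iff normalizer zpowers)

theorem hJ : CpAutBFive.Closed.HJ := fun _ hs h => MFive.JTwo.isoJ2 hs h

theorem card_HN : Nat.card Cfsg.Spor.HN = 273030912000000 := Cfsg.Agent.S1701.result.2

/-- `|C(x)| = |⟨x⟩| |C(x) / ⟨x⟩|` -/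
theorem card_cent_eq {G : Type*} [Group G] [Finite G] (x : G) :
    Nat.card (centralizer ({x} : Set G)) = Nat.card (XX x) * orderOf x := by
  have h := Subgroup.card_eq_card_quotient_mul_card_subgroup (Zx x)
  rw [h]
  congr 1
  show Nat.card (Zx x) = _
  rw [Zx, Nat.card_zpowers]
  exact Subgroup.orderOf_mk _ _

theorem zpowers_pow_eq {G : Type*} [Group G] [Finite G] {x : G} (hx : orderOf x = 5) {i : ℕ} (hi : x ^ i ≠ 1) :
    zpowers (x ^ i) = zpowers x := by
  have h5 : orderOf (x ^ i) = 5 := by
    refine orderOf_eq_prime ?_ hi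
    rw [← pow_mul, mul_comm, pow_mul, ← hx, pow_orderOf_eq_one, one_pow]
  apply Subgroup.eq_of_le_of_card_ge (Subgroup.zpowers_le.2 (pow_mem (Subgroup.mem_zpowers x) i))
  rw [Nat.card_zpowers, Nat.card_zpowers, h5, hx]

theorem index_five {y : MG} (hy : orderOf y = 5) : 238418334962 ≤ (normalizer (zpowers y : Set MG)).index := by
  have hfin := MFive.Row.finite_model
  have h0 : (normalizer (zpowers y : Set MG)).index ≠ 0 := Subgroup.index_ne_zero_of_finite
  rcases CpAutBFive.EvenRow.cases hy with hex | h4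
  · rcases MFive.Row.cases_model (CpAutBFive.Closed.coFive hJ) CpAutBFive.Closed.hnEight hy hex with
      ⟨⟨e⟩⟩ | ⟨x₀, k, i, hx₀, hfr, hk⟩
    · have h1 := card_cent_eq y
      rw [Nat.card_congr e.toEquiv, card_HN, hy] at h1
      have h2 := card_normalizer_le hy
      rw [h1] at h2
      have h3 := (normalizer (zpowers y : Set MG)).card_mul_index
      rw [card_MG] at h3
      by_contra hlt
      have h4 : Nat.card (normalizer (zpowers y : Set MG)) * (normalizer (zpowers y : Set MG)).index ≤
          (273030912000000 * 5 * (5 - 1)) * 238418334962 := Nat.mul_le_mul h2 (by omega)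
      rw [h3] at h4
      norm_num at h4
    · have h3 := KChart.chart KDone.lft MFive.Row.hc
      have h4 := MFive.orderOf_pi h3 (by norm_num) (by decide) hx₀
      have h7 := index_z h3 (by norm_num) hx₀ (card_cent_co1 h4)
      rw [hfr] at h7
      have hx5 : orderOf (x₀ : MG) = 5 := by rw [Subgroup.orderOf_coe, hx₀]
      have hne : (x₀ : MG) ^ i ≠ 1 := by
        intro h
        rw [h] at hk
        have h5 : y = 1 := by
          calc y = k⁻¹ * (k * y * k⁻¹) * k := by group
            _ = 1 := by rw [hk]; group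
        rw [h5, orderOf_one] at hy
        norm_num at hy
      have h8 := index_normalizer_conj k⁻¹ ((x₀ : MG) ^ i)
      have h9 : k⁻¹ * ((x₀ : MG) ^ i) * k⁻¹⁻¹ = y := by rw [← hk]; group
      rw [h9, zpowers_pow_eq hx5 hne] at h8
      omega
  · have h1 : 2 ^ 43 ∣ (normalizer (zpowers y : Set MG)).index := by
      refine pow_dvd_index hy (a := 43) (b := 2) (c := 1) Nat.prime_two ?_ (by norm_num) (fun h => h4 (by convert h using 1; norm_num))
      rw [card_MG]
      norm_num
    have h2 := Nat.le_of_dvd (Nat.pos_of_ne_zero h0) h1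
    omega

theorem meet5 : Meet 5 MG := by
  have hfin := MFive.Row.finite_model
  have hs := MFive.Row.simple_model
  obtain ⟨e⟩ := MonsterP.Equiv.equiv
  have hsp : IsSporadicGroup MG := by
    have : Spor.IsoM MG := ⟨e.symm⟩
    unfold IsSporadicGroup; tauto
  refine meet_of_index (not_comm_spor hsp) (H498.SporOut.index_le_two hsp) (by norm_num) (k := 9) (s := 488281) ?_
    (by norm_num) (fun y hy => index_five hy) (by norm_num)
  rw [card_MG]
  norm_num

theorem meet5_M {G : Type*} [Group G] [Finite G] [IsSimpleGroup G] (h : Spor.IsoM G) : Meet 5 G := by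
  obtain ⟨e⟩ := h
  obtain ⟨f⟩ := MonsterP.Equiv.equiv
  have hfin := MFive.Row.finite_model
  have hs := MFive.Row.simple_model
  exact Meet.congr (e.trans f).symm meet5

end Cfsg.Agent.H68.MeetMon
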