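import Cfsg.Agent.H68.MeetBase
import Cfsg.Agent.H68.MeetMon
import Cfsg.Agent.H573.Spor.BFive
import Cfsg.Agent.BpSpor.MFiveHA
import Cfsg.Agent.CpAut.TwoInnerB

/-!
# Trivial Sylow intersections: the Baby Monster, `p = 5` (helper68, S5762)

`|C_M(x)|_2 ≤ 2 ^ 14` for the elements `x` of order 5 of the Monster; the Baby Monster is `C(t) / ⟨t⟩`.
-/

set_option autoImplicit false
set_option maxRecDepth 100000

namespace Cfsg.Agent.H68.MeetBaby

open Cfsg Cfsg.Agent.H903.SylMeet Cfsg.Agent.H47.MeetS Cfsg.Agent.H47.MeetS.Mon Cfsg.Agent.H68.MeetMon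
open Cfsg.Agent.H68.MeetB
open Cfsg.Agent.LThreeMB (fr XX Zx zD KChart.Cent KChart.pi KChart.chart)
open Cfsg.Agent.LThreeB (XT centXT centXT')
open Cfsg.Agent.MonsterX Cfsg.Agent.MonsterX.Model Cfsg.Agent.MonsterX.MainSimple Cfsg.Agent.MonsterX.MainPack
open Cfsg.Agent.MonsterX.MainBasic
open Cfsg.Agent.MonsterU
open Cfsg.Agent.MonsterU.Ch
open Cfsg.Agent.MonsterU.Lam2 (L2)
open Cfsg.Agent.MonsterP Cfsg.Agent.MonsterN
open Cfsg.Spor (Co1)
open Subgroup (centralizer mem_centralizer_singleton_iff normalizer zpowers center)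

section chart

variable {G : Type*} [Group G] {Q : Subgroup G} {z : G} {eta : G → L2}
  {pi : Subgroup.centralizer ({z} : Set G) →* Co1}

/-- a group with a normal subgroup of odd order: the 2-part -/
theorem dvd_of_odd_core {D : Type*} [Group D] [Finite D] {N A : Subgroup D} [N.Normal] (hNo : Odd (Nat.card ↥N))
    (hsup : N ⊔ A = ⊤) {k : ℕ} (h : 2 ^ k ∣ Nat.card D) : 2 ^ k ∣ Nat.card A := by
  have h1 : Function.Surjective ((QuotientGroup.mk' N).comp A.subtype) := by
    intro d
    obtain ⟨d, rfl⟩ := QuotientGroup.mk'_surjective N d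
    have hd : d ∈ N ⊔ A := by rw [hsup]; trivial
    obtain ⟨n, hn, a, ha, rfl⟩ := Subgroup.mem_sup_of_normal_left.1 hd
    refine ⟨⟨a, ha⟩, ?_⟩
    rw [MonoidHom.comp_apply, map_mul, (QuotientGroup.eq_one_iff n).2 hn |> fun h => (h : QuotientGroup.mk' N n = 1),
      one_mul]
    rfl
  have h2 : Nat.card (D ⧸ N) ∣ Nat.card A := Subgroup.card_dvd_of_surjective _ h1
  have h3 := Subgroup.card_eq_card_quotient_mul_card_subgroup N
  rw [h3] at h
  have h4 : Nat.Coprime (2 ^ k) (Nat.card N) := (Nat.coprime_two_left.2 hNo).pow_left k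
  exact (h4.dvd_of_dvd_mul_right h).trans h2

/-- `|C_{C(z)}(x)|` divides `2 |C_{Co1}(pi x)|` for `x` of fixed rank 0 -/
theorem card_zero_dvd [Finite G] (h : Chart Q z eta pi) {p : ℕ} [hp : Fact p.Prime] (h2 : p ≠ 2)
    {x : Subgroup.centralizer ({z} : Set G)} (hx : orderOf x = p) (hfr : fr (pi x) = 1) :
    Nat.card (centralizer ({x} : Set (Subgroup.centralizer ({z} : Set G)))) ∣
      2 * Nat.card (centralizer ({pi x} : Set Co1)) := by
  have ho : Odd p := hp.out.odd_of_ne_two h2
  have hxp : x ^ p = 1 := by rw [← hx, pow_orderOf_eq_one]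
  have h4 := card_fix_le h ho hxp
  rw [hfr, one_mul] at h4
  set A := centralizer ({x} : Set (Subgroup.centralizer ({z} : Set G))) with hA
  let f : A →* Co1 := pi.comp A.subtype
  have h5 : Nat.card A = Nat.card f.ker * Nat.card f.range := by
    rw [Subgroup.card_eq_card_quotient_mul_card_subgroup f.ker, mul_comm,
      Nat.card_congr (QuotientGroup.quotientKerEquivRange f).toEquiv]
  have h6 : Nat.card f.ker ≤ 2 := by
    refine le_trans ?_ h4
    refine Nat.card_le_card_of_injective (fun q => ⟨((q : A) : Subgroup.centralizer ({z} : Set G)), q.2,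
      (mem_centralizer_singleton_iff.1 (q : A).2).symm⟩) fun a b hab => ?_
    exact Subtype.ext (Subtype.ext (congrArg
      (fun q : {q : Subgroup.centralizer ({z} : Set G) // q ∈ pi.ker ∧ x * q = q * x} => q.1) hab))
  have h7 : Nat.card f.ker ∣ 2 := by
    have h8 : 0 < Nat.card f.ker := Nat.card_pos
    interval_cases hc : Nat.card f.ker <;> norm_num
  have h8 : Nat.card f.range ∣ Nat.card (centralizer ({pi x} : Set Co1)) := by
    apply Subgroup.card_dvd_of_le
    rintro _ ⟨a, rfl⟩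
    rw [mem_centralizer_singleton_iff]
    show pi (a : Subgroup.centralizer ({z} : Set G)) * pi x = pi x * pi a
    rw [← map_mul, mem_centralizer_singleton_iff.1 a.2, map_mul]
  rw [h5]
  exact mul_dvd_mul h7 h8

theorem j2_card {S : Type*} [Group S] (h : Spor.IsoJ2 S) : Nat.card S = 604800 := by
  obtain ⟨e⟩ := h
  rw [Nat.card_congr e.toEquiv, Cfsg.Agent.J2Sylow.SporSylow.card_J2]

/-- `2 ^ 9 ∤ |C(x)|` for `x` of fixed rank 0 -/
theorem not_dvd_zero [Finite G] (h : Chart Q z eta pi) (htr : MFive.TrNe 5 z pi)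
    (hJ : ∀ s : Co1, orderOf s = 5 → fr s = 1 → Spor.IsoJ2 (XX s))
    {x : Subgroup.centralizer ({z} : Set G)} (hx : orderOf x = 5) (hfr : fr (pi x) = 1) :
    ¬ 2 ^ 9 ∣ Nat.card (centralizer ({(x : G)} : Set G)) := by
  intro hd
  obtain ⟨N, hN, hNo, hsup⟩ := MFive.exists_odd h (fun d hd hc => MFive.isolated h htr hx hfr d hd hc)
  have h1 := dvd_of_odd_core hNo hsup hd
  rw [Nat.card_congr ((centXT' (zD x)).trans (centXT x)).toEquiv] at h1
  have h2 := h1.trans (card_zero_dvd h (by norm_num) hx hfr)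
  have h3 := MFive.orderOf_pi h (by norm_num) (by decide) hx
  have hf1 : Finite Co1 := Nat.finite_of_card_ne_zero (by rw [card_co1]; norm_num)
  rw [card_cent_eq, h3, j2_card (hJ _ h3 hfr)] at h2
  norm_num at h2

end chart

/-! ### the elements of order 5 of the Monster -/

theorem card_cent_of_pow {G : Type*} [Group G] [Finite G] {x x₀ k : G} {i : ℕ} (hx : orderOf x = 5)
    (hx₀ : orderOf x₀ = 5) (hk : k * x * k⁻¹ = x₀ ^ i) :
    Nat.card (centralizer ({x} : Set G)) = Nat.card (centralizer ({x₀} : Set G)) := by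
  rw [← card_cent_conj' x k, hk]
  have hne : x₀ ^ i ≠ 1 := by
    intro h
    rw [h] at hk
    have h5 : x = 1 := by
      calc x = k⁻¹ * (k * x * k⁻¹) * k := by group
        _ = 1 := by rw [hk]; group
    rw [h5, orderOf_one] at hx
    norm_num at hx
  have h1 := zpowers_pow_eq hx₀ hne
  have h2 : centralizer ({x₀ ^ i} : Set G) = centralizer ({x₀} : Set G) := by
    ext g
    rw [mem_centralizer_singleton_iff, mem_centralizer_singleton_iff]
    constructor
    · intro h
      have h3 : x₀ ∈ zpowers (x₀ ^ i) := by rw [h1]; exact Subgroup.mem_zpowers x₀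
      obtain ⟨j, hj⟩ := h3
      have h4 : Commute g (x₀ ^ i) := h
      have h5 := h4.zpow_right j
      have h6 : (x₀ ^ i) ^ j = x₀ := hj
      rw [h6] at h5
      exact h5
    · intro h
      exact (show Commute g x₀ from h).pow_right i
  rw [h2]

theorem not_two {y : MG} (hy : orderOf y = 5) : ¬ 2 ^ 15 ∣ Nat.card (centralizer ({y} : Set MG)) := by
  have hfin := MFive.Row.finite_model
  rcases CpAutBFive.EvenRow.cases hy with hex | h4
  · rcases MFive.Row.cases_model (CpAutBFive.Closed.coFive hJ) CpAutBFive.Closed.hnEight hy hex with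
      ⟨⟨e⟩⟩ | ⟨x₀, k, i, hx₀, hfr, hk⟩
    · rw [card_cent_eq y, Nat.card_congr e.toEquiv, card_HN, hy]
      norm_num
    · have hx5 : orderOf (x₀ : MG) = 5 := by rw [Subgroup.orderOf_coe, hx₀]
      rw [card_cent_of_pow hy hx5 hk]
      intro h
      exact not_dvd_zero (KChart.chart KDone.lft MFive.Row.hc) BpSpor.M5.trNe hJ hx₀ hfr
        ((pow_dvd_pow 2 (by norm_num)).trans h)
  · intro h
    apply h4
    have h1 : (2 : ℕ) ^ 2 ∣ 2 ^ 15 := pow_dvd_pow 2 (by norm_num)
    convert Nat.dvd_trans h1 h using 1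
    norm_num

/-! ### the Baby Monster -/

theorem card_baby : Nat.card Cfsg.Spor.BabyMonster = 4154781481226426191177580544000000 :=
  Cfsg.Agent.BM.KHAll.card_B

instance finite_baby : Finite Cfsg.Spor.BabyMonster := Nat.finite_of_card_ne_zero (by rw [card_baby]; norm_num)

instance fact5 : Fact (Nat.Prime 5) := ⟨by norm_num⟩

/-- an element of odd order of the quotient by a central subgroup of order 2 lifts -/
theorem exists_lift_odd {C : Type*} [Group C] [Finite C] (h2 : Nat.card (center C) = 2) {y : C ⧸ center C}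
    (hy : orderOf y = 5) : ∃ x : C, orderOf x = 5 ∧ (QuotientGroup.mk x : C ⧸ center C) = y := by
  obtain ⟨g, rfl⟩ := QuotientGroup.mk'_surjective (center C) y
  have h5 : g ^ 5 ∈ center C := by
    have h1 : (QuotientGroup.mk' (center C)) (g ^ 5) = 1 := by rw [map_pow, ← hy, pow_orderOf_eq_one]
    exact (QuotientGroup.eq_one_iff _).1 h1
  have h10 : g ^ 10 = 1 := by
    have h1 := orderOf_dvd_natCard (⟨g ^ 5, h5⟩ : center C)
    rw [h2, Subgroup.orderOf_mk] at h1
    have h3 := orderOf_dvd_iff_pow_eq_one.1 h1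
    rw [← pow_mul] at h3
    exact h3
  refine ⟨g ^ 6, ?_, ?_⟩
  · refine orderOf_eq_prime ?_ ?_
    · rw [← pow_mul, show 6 * 5 = 10 * 3 by norm_num, pow_mul, h10, one_pow]
    · intro h
      have h1 : (QuotientGroup.mk' (center C)) g ^ 6 = 1 := by rw [← map_pow, h, map_one]
      have h3 := orderOf_dvd_of_pow_eq_one h1
      rw [hy] at h3
      norm_num at h3
  · show (QuotientGroup.mk' (center C)) (g ^ 6) = QuotientGroup.mk' (center C) g
    have h1 : (QuotientGroup.mk' (center C)) g ^ 5 = 1 := by rw [← hy, pow_orderOf_eq_one]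
    rw [map_pow, pow_succ, h1, one_mul]

theorem index_quot {C B' : Type*} [Group C] [Finite C] [Group B'] [Finite B'] (h2 : Nat.card (center C) = 2)
    (e : C ⧸ center C ≃* B') {y : B'} (hy : orderOf y = 5) :
    ∃ x : C, orderOf x = 5 ∧ (centralizer ({x} : Set C)).index = (centralizer ({y} : Set B')).index := by
  have hy' : orderOf (e.symm y) = 5 := by rw [MulEquiv.orderOf_eq, hy]
  obtain ⟨x, hx, hxy⟩ := exists_lift_odd h2 hy'
  refine ⟨x, hx, ?_⟩
  have h3 := Cfsg.Agent.H573.Spor.index_centralizer_mk (p := 5) (by decide) h2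
    (x := x) (by rw [← hx, pow_orderOf_eq_one])
  rw [hxy] at h3
  rw [h3]
  have h5 : centralizer ({y} : Set B') =
      (centralizer ({e.symm y} : Set (C ⧸ center C))).comap e.symm.toMonoidHom := by
    ext g
    rw [Subgroup.mem_comap, mem_centralizer_singleton_iff, mem_centralizer_singleton_iff]
    show g * y = y * g ↔ e.symm g * e.symm y = e.symm y * e.symm g
    rw [← map_mul, ← map_mul, EmbeddingLike.apply_eq_iff_eq]
  rw [h5, Subgroup.index_comap_of_surjective _ e.symm.surjective]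

theorem index_ge {C : Type*} [Group C] [Finite C] (A : Subgroup C) (h : 2 ^ 42 ∣ Nat.card C)
    (h8 : ¬ 2 ^ 15 ∣ Nat.card A) : 2 ^ 28 ≤ A.index := by
  have h0 : A.index ≠ 0 := Subgroup.index_ne_zero_of_finite
  refine Nat.le_of_dvd (Nat.pos_of_ne_zero h0) ?_
  by_contra hcon
  rw [← A.card_mul_index] at h
  have hc0 : Nat.card A ≠ 0 := Nat.card_pos.ne'
  have : Fact (Nat.Prime 2) := ⟨Nat.prime_two⟩
  rw [padicValNat_dvd_iff_le hc0] at h8
  rw [padicValNat_dvd_iff_le h0] at hcon
  rw [padicValNat_dvd_iff_le (mul_ne_zero hc0 h0), padicValNat.mul hc0 h0] at h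
  omega

theorem index_five_aux {t : MG} (h2 : Nat.card (center (centralizer ({t} : Set MG))) = 2)
    (e : (centralizer ({t} : Set MG)) ⧸ center (centralizer ({t} : Set MG)) ≃* Cfsg.Spor.BabyMonster)
    {y : Cfsg.Spor.BabyMonster} (hy : orderOf y = 5) :
    2 ^ 28 ≤ (centralizer ({y} : Set Cfsg.Spor.BabyMonster)).index := by
  have hfin := MFive.Row.finite_model
  obtain ⟨x, hx, hi⟩ := index_quot h2 e hy
  rw [← hi]
  have hxo : orderOf (x : MG) = 5 := by rw [Subgroup.orderOf_coe, hx]
  apply index_ge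
  · rw [Subgroup.card_eq_card_quotient_mul_card_subgroup (center (centralizer ({t} : Set MG))),
      Nat.card_congr e.toEquiv, card_baby, h2]
    norm_num
  · intro h
    apply not_two hxo
    refine Nat.dvd_trans h ?_
    rw [← Nat.card_congr (centXT x).toEquiv]
    exact Subgroup.card_dvd_of_le inf_le_left

theorem index_five_baby {y : Cfsg.Spor.BabyMonster} (hy : orderOf y = 5) :
    2 ^ 28 ≤ (centralizer ({y} : Set Cfsg.Spor.BabyMonster)).index := by
  obtain ⟨⟨h2, -, ⟨e⟩⟩, -⟩ := ModelB.fieldsKS LitFin.all KDone.lnk KDone.lft (NodesGrp.prel LitFin.H)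
    (NodesNe.ne LitFin.H) LitFin.conj_ten Cfsg.Agent.S1704.result KDone.lnk.x₀_mem
  exact index_five_aux h2 e hy

theorem meetIn_baby : MeetIn 5 Cfsg.Spor.BabyMonster := by
  refine MeetIn.of_index (n := 6) (m := 2 ^ 28) ?_ (fun y hy => index_five_baby hy) (by norm_num)
  rw [card_baby]
  norm_num

theorem meetIn_B {G : Type*} [Group G] (h : Spor.IsoB G) : MeetIn 5 G := by
  obtain ⟨e⟩ := h
  exact meetIn_baby.congr e.symm

theorem meet5_B {G : Type*} [Group G] [Finite G] [IsSimpleGroup G] (h : Spor.IsoB G) : Meet 5 G := by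
  have hsp : IsSporadicGroup G := by unfold IsSporadicGroup; tauto
  have hin := meetIn_B h
  refine MeetIn.meet ?_ (not_comm_spor hsp) hin
  obtain ⟨e⟩ := h
  exact CpAut.AutInner.congr e.symm (fun α _ => CpAut.TwoInner.inner_b α)

end Cfsg.Agent.H68.MeetBaby
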