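import Cfsg.Agent.H68.MeetMonThree

/-!
# Trivial Sylow intersections: the Baby Monster, `p = 3` (helper68, S2484)
-/

set_option autoImplicit false
set_option maxRecDepth 100000

namespace Cfsg.Agent.H68.MeetBabyThree

open Cfsg Cfsg.Agent.MonsterX Cfsg.Agent.MonsterX.InstData Cfsg.Agent.MonsterX.MainPack Cfsg.Agent.MonsterU
open Cfsg.Agent.MonsterP Cfsg.Agent.MonsterN Cfsg.Agent.LThree Cfsg.Agent.LThreeMB
open Cfsg.Agent.MonsterX.MainBasic Cfsg.Agent.MonsterX.MainSimple Cfsg.Agent.MonsterX.Model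
open Cfsg.Agent.H68.MeetSolv Cfsg.Agent.H68.MeetMonThree
open Cfsg.Agent.H68.MeetBaby (card_baby finite_baby)
open Cfsg.Agent.H47.MeetS.Mon (MG card_MG)
open Subgroup

local instance : Fact (Nat.Prime 3) := ⟨Nat.prime_three⟩

/-- an element of order 3 of the quotient by a central subgroup of order 2 lifts -/
theorem exists_lift_three {C : Type*} [Group C] [Finite C] (h2 : Nat.card (center C) = 2) {y : C ⧸ center C}
    (hy : orderOf y = 3) : ∃ x : C, orderOf x = 3 ∧ (QuotientGroup.mk x : C ⧸ center C) = y := by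
  obtain ⟨g, rfl⟩ := QuotientGroup.mk'_surjective (center C) y
  have h5 : g ^ 3 ∈ center C := by
    have h1 : (QuotientGroup.mk' (center C)) (g ^ 3) = 1 := by rw [map_pow, ← hy, pow_orderOf_eq_one]
    exact (QuotientGroup.eq_one_iff _).1 h1
  have h10 : g ^ 6 = 1 := by
    have h1 := orderOf_dvd_natCard (⟨g ^ 3, h5⟩ : center C)
    rw [h2, Subgroup.orderOf_mk] at h1
    have h3 := orderOf_dvd_iff_pow_eq_one.1 h1
    rw [← pow_mul] at h3
    exact h3
  refine ⟨g ^ 4, ?_, ?_⟩
  · refine orderOf_eq_prime ?_ ?_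
    · rw [← pow_mul, show 4 * 3 = 6 * 2 by norm_num, pow_mul, h10, one_pow]
    · intro h
      have h1 : (QuotientGroup.mk' (center C)) g ^ 4 = 1 := by rw [← map_pow, h, map_one]
      have h3 := orderOf_dvd_of_pow_eq_one h1
      rw [hy] at h3
      norm_num at h3
  · show (QuotientGroup.mk' (center C)) (g ^ 4) = QuotientGroup.mk' (center C) g
    have h1 : (QuotientGroup.mk' (center C)) g ^ 3 = 1 := by rw [← hy, pow_orderOf_eq_one]
    rw [map_pow, pow_succ, h1, one_mul]

theorem index_quot {C B' : Type*} [Group C] [Finite C] [Group B'] [Finite B'] (h2 : Nat.card (center C) = 2)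
    (e : C ⧸ center C ≃* B') {y : B'} (hy : orderOf y = 3) :
    ∃ x : C, orderOf x = 3 ∧ (centralizer ({x} : Set C)).index = (centralizer ({y} : Set B')).index := by
  have hy' : orderOf (e.symm y) = 3 := by rw [MulEquiv.orderOf_eq, hy]
  obtain ⟨x, hx, hxy⟩ := exists_lift_three h2 hy'
  refine ⟨x, hx, ?_⟩
  have h3 := Cfsg.Agent.H573.Spor.index_centralizer_mk (p := 3) (by decide) h2
    (x := x) (by rw [← hx, pow_orderOf_eq_one])
  rw [hxy] at h3
  rw [h3]
  have h5 : centralizer ({y} : Set B') =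
      (centralizer ({e.symm y} : Set (C ⧸ center C))).comap e.symm.toMonoidHom := by
    ext g
    rw [Subgroup.mem_comap, mem_centralizer_singleton_iff, mem_centralizer_singleton_iff]
    show g * y = y * g ↔ e.symm g * e.symm y = e.symm y * e.symm g
    rw [← map_mul, ← map_mul, EmbeddingLike.apply_eq_iff_eq]
  rw [h5, Subgroup.index_comap_of_surjective _ e.symm.surjective]

theorem index_three_aux {t : MG} (h2 : Nat.card (center (centralizer ({t} : Set MG))) = 2)
    (e : (centralizer ({t} : Set MG)) ⧸ center (centralizer ({t} : Set MG)) ≃* Cfsg.Spor.BabyMonster)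
    (ht : orderOf t = 2) {y : Cfsg.Spor.BabyMonster} (hy : orderOf y = 3) :
    1270932914164 < (centralizer ({y} : Set Cfsg.Spor.BabyMonster)).index := by
  have hfin := finite_M
  have hfb := finite_baby
  obtain ⟨x, hx, hi⟩ := index_quot h2 e hy
  rw [← hi]
  have hxo : orderOf (x : MG) = 3 := by rw [Subgroup.orderOf_coe, hx]
  have hc : Nat.card (centralizer ({t} : Set MG)) = 8309562962452852382355161088000000 := by
    rw [Subgroup.card_eq_card_quotient_mul_card_subgroup (center (centralizer ({t} : Set MG))),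
      Nat.card_congr e.toEquiv, card_baby, h2]
  set A := centralizer ({x} : Set (centralizer ({t} : Set MG))) with hA
  have h0 : A.index ≠ 0 := Subgroup.index_ne_zero_of_finite
  have hmul := A.card_mul_index
  rw [hc] at hmul
  have hd1 : Nat.card A ∣ Nat.card (centralizer ({(x : MG)} : Set MG)) := by
    rw [hA, ← Nat.card_congr (LThreeB.centXT x).toEquiv]
    exact Subgroup.card_dvd_of_le inf_le_left
  have hd2 : Nat.card A ∣ 8309562962452852382355161088000000 := by
    rw [← hc]
    exact Subgroup.card_subgroup_dvd_card _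
  have hev : ¬ Odd (Nat.card ↥(centralizer ({(x : MG)} : Set MG))) := by
    rw [Nat.not_odd_iff_even, even_iff_two_dvd]
    have htx : t * (x : MG) = x * t := (mem_centralizer_singleton_iff.1 x.2).symm
    have h1 : orderOf (⟨t, mem_centralizer_singleton_iff.2 htx⟩ : centralizer ({(x : MG)} : Set MG)) = 2 := by
      rw [Subgroup.orderOf_mk, ht]
    rw [← h1]
    exact orderOf_dvd_natCard _
  have hle : ∀ n : ℕ, 0 < n → Nat.card A ∣ n → n * 1270932914164 < 8309562962452852382355161088000000 →
      1270932914164 < A.index := by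
    intro n hn hd hlt
    by_contra hcon
    have h1 : Nat.card A * A.index ≤ n * 1270932914164 := Nat.mul_le_mul (Nat.le_of_dvd hn hd) (by omega)
    omega
  rcases even_cases hxo hev with h1 | h1 | ⟨x₀, hx₀, hfr, h1⟩
  · rw [h1] at hd1
    exact hle _ (by norm_num) hd1 (by norm_num)
  · rw [h1] at hd1
    have hd3 := Nat.dvd_gcd hd1 hd2
    exact hle _ (by norm_num) hd3 (by norm_num)
  · rw [h1] at hd1
    have hnd : ∀ r ∈ rs, ¬ r ∣ Nat.card A := fun r hr h => zero_list hx₀ hfr hr (h.trans hd1)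
    have hC : ∀ n, n ∣ 8309562962452852382355161088000000 → n ∣ Nat.card (centralizer ({t} : Set MG)) := fun n hn => by
      rw [hc]; exact hn
    have h2 : 2 ^ 28 ∣ A.index := by
      refine pow_dvd_index' _ (a := 28) (b := 14) Nat.prime_two (hC _ (by norm_num)) ?_
      exact fun h => zero_two hx₀ hfr (h.trans hd1)
    have hr : ∀ r ∈ rs, r.Prime → r ∣ 8309562962452852382355161088000000 → r ∣ A.index := fun r hr hp hd =>
      dvd_index' _ hp (hC _ hd) (hnd r hr)
    have h3 : 2 ^ 28 * (47 * (31 * 23)) ∣ A.index :=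
      Nat.Coprime.mul_dvd_of_dvd_of_dvd (by norm_num) h2
        (Nat.Coprime.mul_dvd_of_dvd_of_dvd (by norm_num) (hr 47 (by decide) (by norm_num) (by norm_num))
        (Nat.Coprime.mul_dvd_of_dvd_of_dvd (by norm_num) (hr 31 (by decide) (by norm_num) (by norm_num))
          (hr 23 (by decide) (by norm_num) (by norm_num))))
    exact lt_of_lt_of_le (by norm_num) (Nat.le_of_dvd (Nat.pos_of_ne_zero h0) h3)

theorem index_three_baby {y : Cfsg.Spor.BabyMonster} (hy : orderOf y = 3) :
    1270932914164 < (centralizer ({y} : Set Cfsg.Spor.BabyMonster)).index := by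
  obtain ⟨⟨h2, -, ⟨e⟩⟩, -⟩ := ModelB.fieldsKS LitFin.all KDone.lnk KDone.lft (NodesGrp.prel LitFin.H)
    (NodesNe.ne LitFin.H) LitFin.conj_ten Cfsg.Agent.S1704.result KDone.lnk.x₀_mem
  refine index_three_aux h2 e ?_ hy
  obtain ⟨k, hk⟩ := ModelB.exists_conj_t LitFin.all.hG LitFin.all.hR KDone.lnk KDone.lft KDone.lnk.x₀_mem
  exact CpAutBFive.RowB.orderOf_t (isConj_iff.2 ⟨k, hk⟩)

theorem meetIn_baby : MeetB.MeetIn 3 Cfsg.Spor.BabyMonster := by
  have hfb := finite_baby
  refine MeetB.MeetIn.of_index (n := 13) (m := 1270932914165) ?_ (fun y hy => index_three_baby hy) (by norm_num)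
  rw [card_baby]
  norm_num

theorem meetIn_B {G : Type*} [Group G] (h : Spor.IsoB G) : MeetB.MeetIn 3 G := by
  obtain ⟨e⟩ := h
  exact meetIn_baby.congr e.symm

theorem meet3_B {G : Type*} [Group G] [Finite G] [IsSimpleGroup G] (h : Spor.IsoB G) :
    Cfsg.Agent.H903.SylMeet.Meet 3 G := by
  have hsp : IsSporadicGroup G := by unfold IsSporadicGroup; tauto
  have hin := meetIn_B h
  refine MeetB.MeetIn.meet ?_ (H47.MeetS.not_comm_spor hsp) hin
  obtain ⟨e⟩ := h
  exact CpAut.AutInner.congr e.symm (fun α _ => CpAut.TwoInner.inner_b α)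

end Cfsg.Agent.H68.MeetBabyThree
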