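import Cfsg.Agent.H68.MeetPack
import Cfsg.Agent.H68.MeetHNData
import Cfsg.Agent.HN.Lower
import Cfsg.Agent.HN.A12Group
import Cfsg.Agent.CpAutHNFive.Main
import Cfsg.Agent.S1701

/-!
# Trivial Sylow intersections: HN, `p = 5` (helper68, S5762)

`zH` generates the centre of the Sylow 5-subgroup of `HN.Lower`; a matrix commuting with `zH` and `xH⁻¹ zH xH` is a scalar
(133-dimensional representation over the field with 31 elements), hence `C(zH) ∩ C(xH⁻¹ zH xH) = 1`.
-/

set_option autoImplicit false
set_option maxRecDepth 10000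

namespace Cfsg.Agent.H68.MeetHN

open Cfsg Cfsg.Agent.Lib.PackMat Cfsg.Agent.Lib.PackMatGroup Cfsg.Agent.Lib.PackMatMul Cfsg.Agent.Lib.PackMatOrbit
  Cfsg.Agent.Lib.PackMatLin Cfsg.Agent.HN.RepData Cfsg.Agent.HN.Rep Cfsg.Agent.HN.Lower
open Cfsg.Agent.H68.MeetB Cfsg.Agent.H68.MeetPack Cfsg.Agent.H903.SylMeet
open Cfsg.Agent.H68.MeetHNData (A B N1 V W ROW COL v ws)
open Subgroup

/-- rows of two products -/
theorem rows_eq {w₁ w₂ : List ℕ} {d : ℕ} (hd : 0 < d) (h : ∀ k, k * d < 133 →
    checkEq C w₁ w₂ (k * d) (min d (133 - k * d)) = true) :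
    ∀ i < C.n, run C w₁ (unitRow C 1 i) = run C w₂ (unitRow C 1 i) := by
  intro i hi
  have hi' : i < 133 := hi
  have h1 : i / d * d ≤ i := Nat.div_mul_le_self i d
  have h2 : i < i / d * d + d := by
    have := Nat.lt_div_mul_add hd (a := i)
    omega
  exact checkEq_spec (h (i / d) (by omega)) i h1 (by omega)

theorem okA : okG C A = true := by decide +kernel
theorem okB : okG C B = true := by decide +kernel
theorem okN1 : okG C N1 = true := by decide +kernel
theorem okV : okG C V = true := by decide +kernel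
theorem okW' : okG C W = true := by decide +kernel
theorem okROW : okG C ROW = true := by decide +kernel


/-- the word of `zH` -/
def wz : List ℕ := [2, 2, 5, 3, 5, 6, 5, 2, 5, 3, 3, 3, 5, 3, 1, 3, 5, 1, 3, 0, 5, 6, 5, 2, 2, 5, 3, 3, 5, 3, 3, 5, 3, 5, 2, 2, 4, 3, 4, 7, 4, 2, 4, 3, 3, 4, 2, 4, 2, 2, 4, 2, 2, 4, 3, 3, 4, 7, 4, 1, 2, 0, 4, 2, 0, 2, 4, 2]

/-- the central element -/
noncomputable def zH : Spor.HN := evG gens wz

/-- the conjugating element -/
noncomputable def xH : Spor.HN := evG gens [0, 6]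

theorem rowsA_0 : checkEq C (cw L wz) ([A]) 0 15 = true := by decide +kernel
theorem rowsA_1 : checkEq C (cw L wz) ([A]) 15 15 = true := by decide +kernel
theorem rowsA_2 : checkEq C (cw L wz) ([A]) 30 15 = true := by decide +kernel
theorem rowsA_3 : checkEq C (cw L wz) ([A]) 45 15 = true := by decide +kernel
theorem rowsA_4 : checkEq C (cw L wz) ([A]) 60 15 = true := by decide +kernel
theorem rowsA_5 : checkEq C (cw L wz) ([A]) 75 15 = true := by decide +kernel
theorem rowsA_6 : checkEq C (cw L wz) ([A]) 90 15 = true := by decide +kernel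
theorem rowsA_7 : checkEq C (cw L wz) ([A]) 105 15 = true := by decide +kernel
theorem rowsA_8 : checkEq C (cw L wz) ([A]) 120 13 = true := by decide +kernel
theorem rowsA : ∀ i < C.n, run C (cw L wz) (unitRow C 1 i) = run C ([A]) (unitRow C 1 i) := by
  refine rows_eq (d := 15) (by norm_num) fun k hk => ?_
  have hk' : k < 9 := by omega
  interval_cases k
  · exact rowsA_0
  · exact rowsA_1
  · exact rowsA_2
  · exact rowsA_3
  · exact rowsA_4
  · exact rowsA_5
  · exact rowsA_6
  · exact rowsA_7
  · exact rowsA_8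

theorem codesA : Codes C (rho zH) A := by
  rw [zH, rho_word]
  exact Codes.of_rows good one_lt codes (by decide) okA rowsA

/-- word of a generator -/
def w0 : List ℕ := [2, 2, 4, 3, 4, 7, 4, 2, 4, 3, 3]

theorem rows0_0 : checkEq C (cw L w0 ++ [A]) (A :: cw L w0) 0 40 = true := by decide +kernel
theorem rows0_1 : checkEq C (cw L w0 ++ [A]) (A :: cw L w0) 40 40 = true := by decide +kernel
theorem rows0_2 : checkEq C (cw L w0 ++ [A]) (A :: cw L w0) 80 40 = true := by decide +kernel
theorem rows0_3 : checkEq C (cw L w0 ++ [A]) (A :: cw L w0) 120 13 = true := by decide +kernel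
theorem rows0 : ∀ i < C.n, run C (cw L w0 ++ [A]) (unitRow C 1 i) = run C (A :: cw L w0) (unitRow C 1 i) := by
  refine rows_eq (d := 40) (by norm_num) fun k hk => ?_
  have hk' : k < 4 := by omega
  interval_cases k
  · exact rows0_0
  · exact rows0_1
  · exact rows0_2
  · exact rows0_3

/-- word of a generator -/
def w1 : List ℕ := [3, 4, 2, 2, 4, 2, 2, 0, 3, 0, 3, 4, 3, 0, 2, 4]

theorem rows1_0 : checkEq C (cw L w1 ++ [A]) (A :: cw L w1) 0 30 = true := by decide +kernel
theorem rows1_1 : checkEq C (cw L w1 ++ [A]) (A :: cw L w1) 30 30 = true := by decide +kernel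
theorem rows1_2 : checkEq C (cw L w1 ++ [A]) (A :: cw L w1) 60 30 = true := by decide +kernel
theorem rows1_3 : checkEq C (cw L w1 ++ [A]) (A :: cw L w1) 90 30 = true := by decide +kernel
theorem rows1_4 : checkEq C (cw L w1 ++ [A]) (A :: cw L w1) 120 13 = true := by decide +kernel
theorem rows1 : ∀ i < C.n, run C (cw L w1 ++ [A]) (unitRow C 1 i) = run C (A :: cw L w1) (unitRow C 1 i) := by
  refine rows_eq (d := 30) (by norm_num) fun k hk => ?_
  have hk' : k < 5 := by omega
  interval_cases k
  · exact rows1_0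
  · exact rows1_1
  · exact rows1_2
  · exact rows1_3
  · exact rows1_4

/-- word of a generator -/
def w2 : List ℕ := [0, 2, 1, 2, 2, 7, 4, 3, 4, 3, 6, 6, 4, 3, 4, 2, 2, 2, 7, 0, 3, 4]

theorem rows2_0 : checkEq C (cw L w2 ++ [A]) (A :: cw L w2) 0 22 = true := by decide +kernel
theorem rows2_1 : checkEq C (cw L w2 ++ [A]) (A :: cw L w2) 22 22 = true := by decide +kernel
theorem rows2_2 : checkEq C (cw L w2 ++ [A]) (A :: cw L w2) 44 22 = true := by decide +kernel
theorem rows2_3 : checkEq C (cw L w2 ++ [A]) (A :: cw L w2) 66 22 = true := by decide +kernel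
theorem rows2_4 : checkEq C (cw L w2 ++ [A]) (A :: cw L w2) 88 22 = true := by decide +kernel
theorem rows2_5 : checkEq C (cw L w2 ++ [A]) (A :: cw L w2) 110 22 = true := by decide +kernel
theorem rows2_6 : checkEq C (cw L w2 ++ [A]) (A :: cw L w2) 132 1 = true := by decide +kernel
theorem rows2 : ∀ i < C.n, run C (cw L w2 ++ [A]) (unitRow C 1 i) = run C (A :: cw L w2) (unitRow C 1 i) := by
  refine rows_eq (d := 22) (by norm_num) fun k hk => ?_
  have hk' : k < 7 := by omega
  interval_cases k
  · exact rows2_0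
  · exact rows2_1
  · exact rows2_2
  · exact rows2_3
  · exact rows2_4
  · exact rows2_5
  · exact rows2_6

/-- word of a generator -/
def w3 : List ℕ := [0, 2, 2, 2, 1, 2, 2, 4, 3, 3, 4, 2, 2, 7, 0, 2, 2, 4, 3, 0, 2, 4, 2, 4, 3, 3, 7, 4, 3, 6]

theorem rows3_0 : checkEq C (cw L w3 ++ [A]) (A :: cw L w3) 0 17 = true := by decide +kernel
theorem rows3_1 : checkEq C (cw L w3 ++ [A]) (A :: cw L w3) 17 17 = true := by decide +kernel
theorem rows3_2 : checkEq C (cw L w3 ++ [A]) (A :: cw L w3) 34 17 = true := by decide +kernel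
theorem rows3_3 : checkEq C (cw L w3 ++ [A]) (A :: cw L w3) 51 17 = true := by decide +kernel
theorem rows3_4 : checkEq C (cw L w3 ++ [A]) (A :: cw L w3) 68 17 = true := by decide +kernel
theorem rows3_5 : checkEq C (cw L w3 ++ [A]) (A :: cw L w3) 85 17 = true := by decide +kernel
theorem rows3_6 : checkEq C (cw L w3 ++ [A]) (A :: cw L w3) 102 17 = true := by decide +kernel
theorem rows3_7 : checkEq C (cw L w3 ++ [A]) (A :: cw L w3) 119 14 = true := by decide +kernel
theorem rows3 : ∀ i < C.n, run C (cw L w3 ++ [A]) (unitRow C 1 i) = run C (A :: cw L w3) (unitRow C 1 i) := by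
  refine rows_eq (d := 17) (by norm_num) fun k hk => ?_
  have hk' : k < 8 := by omega
  interval_cases k
  · exact rows3_0
  · exact rows3_1
  · exact rows3_2
  · exact rows3_3
  · exact rows3_4
  · exact rows3_5
  · exact rows3_6
  · exact rows3_7

/-- word of a generator -/
def w4 : List ℕ := [4, 2, 4, 2, 2, 4, 2, 2, 4, 3, 3, 4, 7, 4, 1, 2, 0, 4, 2, 0, 2, 4, 2]

theorem rows4_0 : checkEq C (cw L w4 ++ [A]) (A :: cw L w4) 0 21 = true := by decide +kernel
theorem rows4_1 : checkEq C (cw L w4 ++ [A]) (A :: cw L w4) 21 21 = true := by decide +kernel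
theorem rows4_2 : checkEq C (cw L w4 ++ [A]) (A :: cw L w4) 42 21 = true := by decide +kernel
theorem rows4_3 : checkEq C (cw L w4 ++ [A]) (A :: cw L w4) 63 21 = true := by decide +kernel
theorem rows4_4 : checkEq C (cw L w4 ++ [A]) (A :: cw L w4) 84 21 = true := by decide +kernel
theorem rows4_5 : checkEq C (cw L w4 ++ [A]) (A :: cw L w4) 105 21 = true := by decide +kernel
theorem rows4_6 : checkEq C (cw L w4 ++ [A]) (A :: cw L w4) 126 7 = true := by decide +kernel
theorem rows4 : ∀ i < C.n, run C (cw L w4 ++ [A]) (unitRow C 1 i) = run C (A :: cw L w4) (unitRow C 1 i) := by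
  refine rows_eq (d := 21) (by norm_num) fun k hk => ?_
  have hk' : k < 7 := by omega
  interval_cases k
  · exact rows4_0
  · exact rows4_1
  · exact rows4_2
  · exact rows4_3
  · exact rows4_4
  · exact rows4_5
  · exact rows4_6


theorem comm_word {w : List ℕ} (hw : okW L.length w = true)
    (h : ∀ i < C.n, run C (cw L w ++ [A]) (unitRow C 1 i) = run C (A :: cw L w) (unitRow C 1 i)) :
    evG gens w * zH = zH * evG gens w := by
  have := Cfsg.Agent.CpAutHN.Pairs.instSimple
  apply Cfsg.Agent.HN.A12Group.rho_injective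
  apply Units.ext
  rw [map_mul, map_mul, Units.val_mul, Units.val_mul, codesA.eq, rho_word, ← cw_prod codes hw]
  have h1 := prod_eq_of_rows (good_of_check good) one_lt (w₁ := cw L w ++ [A]) (w₂ := A :: cw L w) (by
    intro g hg
    rcases List.mem_append.1 hg with h | h
    · exact cw_ok codes hw g h
    · rw [List.mem_singleton.1 h]; exact okA) (by
    intro g hg
    rcases List.mem_cons.1 hg with h | h
    · rw [h]; exact okA
    · exact cw_ok codes hw g h) h
  rw [List.map_append, List.prod_append, List.map_cons, List.prod_cons, List.map_cons, List.map_nil, List.prod_cons,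
    List.prod_nil, mul_one] at h1
  exact h1

/-! ### the conjugate -/

theorem rowsB : ∀ i < C.n, run C [X, T, B] (unitRow C 1 i) = run C [A, X, T] (unitRow C 1 i) :=
  rows_eq (d := 133) (by norm_num) fun k hk => by
    have hk' : k = 0 := by omega
    subst hk'
    decide +kernel

theorem rho_xH : ((rho xH : U C) : M C) = mat C X * mat C T := by
  rw [xH, rho_word, ← cw_prod codes (w := [0, 6]) (by decide)]
  change mat C X * (mat C T * 1) = _
  rw [mul_one]

theorem codesB : Codes C (rho (xH⁻¹ * zH * xH)) B := by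
  refine ⟨okB, ?_⟩
  have h1 := prod_eq_of_rows (good_of_check good) one_lt (w₁ := [X, T, B]) (w₂ := [A, X, T]) (by
    intro g hg
    simp only [List.mem_cons, List.not_mem_nil, or_false] at hg
    rcases hg with rfl | rfl | rfl
    exacts [okX, okT, okB]) (by
    intro g hg
    simp only [List.mem_cons, List.not_mem_nil, or_false] at hg
    rcases hg with rfl | rfl | rfl
    exacts [okA, okX, okT]) rowsB
  simp only [List.map_cons, List.map_nil, List.prod_cons, List.prod_nil, mul_one] at h1
  rw [← mul_assoc, ← rho_xH] at h1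
  have h2 : mat C B = ((rho xH)⁻¹ : U C) * (mat C A * ((rho xH : U C) : M C)) := by
    rw [← h1, ← mul_assoc, Units.inv_mul, one_mul]
  rw [map_mul, map_mul, map_inv, Units.val_mul, Units.val_mul, codesA.eq, h2, mul_assoc]

/-! ### the commutant -/

/-- the generators -/
noncomputable def LK : List (U C) := [rho zH, rho (xH⁻¹ * zH * xH)]

theorem codesK : List.Forall₂ (Codes C) LK [A, B] := .cons codesA (.cons codesB .nil)

/-- the combination `A + 4 B + A B + 7` -/
def ts : List (ℕ × List ℕ) := [(1, [0]), (4, [1]), (1, [0, 1]), (7, [])]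

theorem okTs1 : okTs C ((1, [COL, ROW]) :: (C.p - 1, []) :: mulTs [A, B] N1 ts) = true := by decide +kernel
theorem lin1 : linC C ((1, [COL, ROW]) :: (C.p - 1, []) :: mulTs [A, B] N1 ts) 0 133 = true := by decide +kernel
theorem lin0 : linM C ((1, [COL, ROW]) :: (C.p - 1, []) :: mulTs [A, B] N1 ts) = 0 :=
  lin_eq_zero_of_check good one_lt okTs1 lin1
theorem colLt : COL < 2 ^ (C.s * C.n) := by
  have : Nat.blt COL (2 ^ (17 * 133)) = true := by decide +kernel
  simpa [Nat.blt_eq] using this
theorem runROW : run C [ROW] (unitRow C 1 0) = v := by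
  apply Nat.eq_of_beq_eq_true
  decide +kernel
theorem csum1 : csum (cwTs [A, B] ts) * (C.p - 1) ≤ C.n * ((C.p - 1) * (2 ^ C.w - 1)) := by
  have : Nat.ble (csum (cwTs [A, B] ts) * (C.p - 1)) (C.n * ((C.p - 1) * (2 ^ C.w - 1))) = true := by decide +kernel
  exact Nat.le_of_ble_eq_true this
theorem nul1 : redR C (lcK (run C) (cwTs [A, B] ts) v) = 0 := by
  apply Nat.eq_of_beq_eq_true
  decide +kernel
theorem okTs2 : okTs C (cwTs [A, B] ts) = true := by decide +kernel
theorem spin1 : spinC C [A, B] V v ws = true := by decide +kernel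
theorem inv1 : checkScalar C [W, V] 1 0 133 = true := by decide +kernel

theorem okts : ∀ q ∈ ts, okW [A, B].length q.2 = true := by
  intro q hq
  simp only [ts, List.mem_cons, List.not_mem_nil, or_false] at hq
  rcases hq with rfl | rfl | rfl | rfl <;> decide

theorem scalarK (g : M C) (hg : ∀ u ∈ LK, (u : M C) * g = g * u) : ∃ c : ZMod C.p, g = c • (1 : M C) :=
  scalar_of_comb good one_lt codesK okts colLt okROW lin0 runROW csum1 nul1 okTs2 okV okW' spin1 inv1 g hg

theorem trivial_cent {y : Spor.HN} (h1 : y * zH = zH * y)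
    (h2 : y * (xH⁻¹ * zH * xH) = (xH⁻¹ * zH * xH) * y) : y = 1 := by
  have := Cfsg.Agent.CpAutHN.Pairs.instSimple
  obtain ⟨c, hc⟩ := scalarK ((rho y : U C) : M C) (by
    intro u hu
    simp only [LK, List.mem_cons, List.not_mem_nil, or_false] at hu
    rcases hu with rfl | rfl
    · rw [← Units.val_mul, ← Units.val_mul, ← map_mul, ← map_mul, h1]
    · rw [← Units.val_mul, ← Units.val_mul, ← map_mul, ← map_mul, h2])
  have h3 : y ∈ center Spor.HN := by
    rw [mem_center_iff]
    intro g
    apply Cfsg.Agent.HN.A12Group.rho_injective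
    apply Units.ext
    rw [map_mul, map_mul, Units.val_mul, Units.val_mul, hc, mul_smul_comm, smul_mul_assoc, mul_one, one_mul]
  rw [Cfsg.Agent.CpAutHNFive.Main.center_HN] at h3
  exact h3

/-! ### the Sylow subgroup -/

theorem card_HN : Nat.card Spor.HN = 273030912000000 := Cfsg.Agent.S1701.result.2

instance fact5 : Fact (Nat.Prime 5) := ⟨by norm_num⟩

theorem card_grp (ws : List (List ℕ)) : Nat.card (grp gens ws) = Nat.card (grp LG ws) := by
  have := Cfsg.Agent.CpAutHN.Pairs.instSimple
  have h : grp LG ws = (grp gens ws).map rho := by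
    unfold grp
    rw [MonoidHom.map_closure]
    congr 1
    ext u
    constructor
    · rintro ⟨w, hw, rfl⟩
      exact ⟨evG gens w, ⟨w, hw, rfl⟩, rho_word w⟩
    · rintro ⟨_, ⟨w, hw, rfl⟩, rfl⟩
      exact ⟨w, hw, rho_word w⟩
  rw [h]
  exact (card_map_of_injective Cfsg.Agent.HN.A12Group.rho_injective).symm

theorem grp_le : grp gens ws5_0 ≤ centralizer ({zH} : Set Spor.HN) := by
  unfold grp
  rw [closure_le]
  rintro _ ⟨w, hw, rfl⟩
  rw [SetLike.mem_coe, mem_centralizer_singleton_iff]
  simp only [ws5_0, ws5_1, ws5_2, ws5_3, ws5_4, ws5_5, List.mem_cons, List.not_mem_nil, or_false] at hw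
  rcases hw with rfl | rfl | rfl | rfl | rfl
  · exact comm_word (w := w0) (by decide) rows0
  · exact comm_word (w := w1) (by decide) rows1
  · exact comm_word (w := w2) (by decide) rows2
  · exact comm_word (w := w3) (by decide) rows3
  · exact comm_word (w := w4) (by decide) rows4

theorem not_dvd_index : ¬ 5 ∣ (centralizer ({zH} : Set Spor.HN)).index := by
  have hfin : Finite Spor.HN := Nat.finite_of_card_ne_zero (by rw [card_HN]; norm_num)
  intro h
  have h1 : 15625 ∣ Nat.card (centralizer ({zH} : Set Spor.HN)) :=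
    ((card_grp ws5_0).symm ▸ d5_0).trans (card_dvd_of_le grp_le)
  have h2 := mul_dvd_mul h1 h
  rw [card_mul_index, card_HN] at h2
  norm_num at h2

theorem meetIn_hn : MeetIn 5 Spor.HN := by
  have hfin : Finite Spor.HN := Nat.finite_of_card_ne_zero (by rw [card_HN]; norm_num)
  exact MeetIn.of_center' (z := zH) (x := xH) not_dvd_index fun y h1 h2 => trivial_cent h1 h2

theorem meetIn_HN {G : Type*} [Group G] (h : Spor.IsoHN G) : MeetIn 5 G := by
  obtain ⟨e⟩ := h
  exact meetIn_hn.congr e.symm

theorem meet5_HN {G : Type*} [Group G] [Finite G] [IsSimpleGroup G] (h : Spor.IsoHN G) : Meet 5 G := by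
  have hin := meetIn_HN h
  obtain ⟨e⟩ := h
  have hc : Nat.card G = 273030912000000 := by rw [Nat.card_congr e.toEquiv, card_HN]
  refine MeetIn.meet ?_ (not_comm_of_card (by rw [hc]; norm_num)) hin
  exact (Cfsg.Agent.CpAutHNFive.Main.autInner (by norm_num) (by norm_num)).congr e.symm

end Cfsg.Agent.H68.MeetHN
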