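import Mathlib
import Cfsg.Agent.H68.MeetBase
import Cfsg.Agent.SporadicA.PermTab

/-!
# Trivial intersections of Sylow subgroups of order `p ^ 3`: certificates by permutation tables (helper68)
-/

set_option autoImplicit false

namespace Cfsg.Agent.H68.MeetTab

open Cfsg.Agent.SporadicA.PermTab Equiv Cfsg.Agent.H68.MeetB

section group

variable {G : Type*} [Group G]

theorem comm_pow {a b c : G} {m : ℕ} (hac : a * c = c * a) (hbc : b * c = c * b) (hba : b * a = a * b * c ^ m)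
    (i j : ℕ) : b ^ j * a ^ i = a ^ i * b ^ j * c ^ (m * j * i) := by
  have hac' : ∀ k, c ^ k * a = a * c ^ k := fun k => ((show Commute a c from hac).pow_right k).eq.symm
  have hbc' : ∀ k, c ^ k * b = b * c ^ k := fun k => ((show Commute b c from hbc).pow_right k).eq.symm
  have h1 : ∀ j : ℕ, b ^ j * a = a * b ^ j * c ^ (m * j) := by
    intro j
    induction j with
    | zero => simp
    | succ j ih =>
      calc b ^ (j + 1) * a = b ^ j * (b * a) := by rw [pow_succ, mul_assoc]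
        _ = (b ^ j * a) * b * c ^ m := by rw [hba]; simp only [mul_assoc]
        _ = a * b ^ j * (c ^ (m * j) * b) * c ^ m := by rw [ih]; simp only [mul_assoc]
        _ = a * b ^ j * (b * c ^ (m * j)) * c ^ m := by rw [hbc']
        _ = a * b ^ (j + 1) * c ^ (m * (j + 1)) := by rw [pow_succ b, mul_add, pow_add, mul_one]; simp only [mul_assoc]
  induction i with
  | zero => simp
  | succ i ih =>
    calc b ^ j * a ^ (i + 1) = (b ^ j * a ^ i) * a := by rw [pow_succ, mul_assoc]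
      _ = a ^ i * b ^ j * (c ^ (m * j * i) * a) := by rw [ih]; simp only [mul_assoc]
      _ = a ^ i * (b ^ j * a) * c ^ (m * j * i) := by rw [hac']; simp only [mul_assoc]
      _ = a ^ (i + 1) * b ^ j * c ^ (m * j * (i + 1)) := by
        rw [h1, pow_succ a, mul_add, mul_one, Nat.add_comm (m * j * i), pow_add]
        simp only [mul_assoc]

/-- A group of order `p ^ 3` given by generators, meeting its conjugate by `x` trivially. -/
theorem exists_sub {p : ℕ} (hp : p.Prime) {a b c x : G} {m : ℕ} (ha : a ^ p = 1) (hb : b ^ p = 1) (hc : c ^ p = 1)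
    (hac : a * c = c * a) (hbc : b * c = c * b) (hba : b * a = a * b * c ^ m)
    (hx : ∀ i j k i' j' k' : ℕ, i < p → j < p → k < p → i' < p → j' < p → k' < p →
      x * (a ^ i * b ^ j * c ^ k) = (a ^ i' * b ^ j' * c ^ k') * x → i = 0 ∧ j = 0 ∧ k = 0) :
    ∃ P : Subgroup G, Nat.card P = p ^ 3 ∧ ∀ y ∈ P, x * y * x⁻¹ ∈ P → y = 1 := by
  have hp0 := hp.pos
  have hac' : ∀ k i, c ^ k * a ^ i = a ^ i * c ^ k :=
    fun k i => ((show Commute a c from hac).pow_pow i k).eq.symm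
  have hbc' : ∀ k i, c ^ k * b ^ i = b ^ i * c ^ k :=
    fun k i => ((show Commute b c from hbc).pow_pow i k).eq.symm
  have hmul : ∀ i j k i' j' k' : ℕ, (a ^ i * b ^ j * c ^ k) * (a ^ i' * b ^ j' * c ^ k') =
      a ^ (i + i') * b ^ (j + j') * c ^ (m * j * i' + k + k') := by
    intro i j k i' j' k'
    calc (a ^ i * b ^ j * c ^ k) * (a ^ i' * b ^ j' * c ^ k')
        = a ^ i * b ^ j * (c ^ k * a ^ i') * b ^ j' * c ^ k' := by simp only [mul_assoc]
      _ = a ^ i * (b ^ j * a ^ i') * (c ^ k * b ^ j') * c ^ k' := by rw [hac']; simp only [mul_assoc]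
      _ = a ^ i * a ^ i' * b ^ j * (c ^ (m * j * i') * b ^ j') * c ^ k * c ^ k' := by
        rw [comm_pow hac hbc hba, hbc' k]; simp only [mul_assoc]
      _ = a ^ (i + i') * b ^ (j + j') * c ^ (m * j * i' + k + k') := by
        rw [hbc', pow_add a, pow_add b, pow_add c, pow_add c]; simp only [mul_assoc]
  have hinv : ∀ (g : G), g ^ p = 1 → ∀ k, (g ^ k)⁻¹ = g ^ ((p - 1) * k) := by
    intro g hg k
    rw [inv_eq_iff_mul_eq_one, ← pow_add]
    have : k + (p - 1) * k = p * k := by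
      obtain ⟨q, rfl⟩ : ∃ q, p = q + 1 := ⟨p - 1, by omega⟩
      rw [Nat.add_sub_cancel]; ring
    rw [this, pow_mul, hg, one_pow]
  let P : Subgroup G :=
    { carrier := {g | ∃ i j k : ℕ, g = a ^ i * b ^ j * c ^ k}
      mul_mem' := by
        rintro _ _ ⟨i, j, k, rfl⟩ ⟨i', j', k', rfl⟩
        exact ⟨_, _, _, hmul i j k i' j' k'⟩
      one_mem' := ⟨0, 0, 0, by simp⟩
      inv_mem' := by
        rintro _ ⟨i, j, k, rfl⟩
        refine ⟨(p - 1) * i, (p - 1) * j, m * ((p - 1) * j) * ((p - 1) * i) + (p - 1) * k, ?_⟩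
        rw [mul_inv_rev, mul_inv_rev, hinv a ha, hinv b hb, hinv c hc, comm_pow hac hbc hba]
        rw [← mul_assoc, ← mul_assoc, hac', mul_assoc (a ^ ((p - 1) * i)), hbc', pow_add]
        simp only [mul_assoc]
        rw [← pow_add, ← pow_add, Nat.add_comm] }
  have hmem : ∀ g, g ∈ P ↔ ∃ i j k : ℕ, g = a ^ i * b ^ j * c ^ k := fun g => Iff.rfl
  have hred : ∀ g ∈ P, ∃ i j k : ℕ, i < p ∧ j < p ∧ k < p ∧ g = a ^ i * b ^ j * c ^ k := by
    rintro g ⟨i, j, k, rfl⟩
    exact ⟨i % p, j % p, k % p, Nat.mod_lt _ hp0, Nat.mod_lt _ hp0, Nat.mod_lt _ hp0, by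
      rw [← pow_eq_pow_mod i ha, ← pow_eq_pow_mod j hb, ← pow_eq_pow_mod k hc]⟩
  have hone : ∀ i j k : ℕ, i < p → j < p → k < p → a ^ i * b ^ j * c ^ k = 1 → i = 0 ∧ j = 0 ∧ k = 0 := by
    intro i j k hi hj hk h
    exact hx i j k 0 0 0 hi hj hk hp0 hp0 hp0 (by rw [h]; simp)
  have hz : ∀ i i' : ℕ, i < p → i' < p → (p - i' + i) % p = 0 → i = i' := by
    intro i i' hi hi' h
    have h1 : p ∣ p - i' + i := Nat.dvd_of_mod_eq_zero h
    obtain ⟨q, hq⟩ := h1
    have hq1 : q = 1 := by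
      rcases Nat.lt_trichotomy q 1 with h2 | h2 | h2
      · have : q = 0 := by omega
        rw [this, mul_zero] at hq
        omega
      · exact h2
      · have h3 : p * 2 ≤ p * q := Nat.mul_le_mul_left p h2
        omega
    rw [hq1, mul_one] at hq
    omega
  have hinj : ∀ i j k i' j' k' : ℕ, i < p → j < p → k < p → i' < p → j' < p → k' < p →
      a ^ i * b ^ j * c ^ k = a ^ i' * b ^ j' * c ^ k' → i = i' ∧ j = j' ∧ k = k' := by
    intro i j k i' j' k' hi hj hk hi' hj' hk' h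
    have h1 : a ^ (p - i' + i) * b ^ (p - j' + j) * c ^ (p - k' + k) = 1 := by
      calc a ^ (p - i' + i) * b ^ (p - j' + j) * c ^ (p - k' + k)
          = a ^ (p - i') * (a ^ i * b ^ j * (b ^ (p - j') * c ^ k)) * c ^ (p - k') := by
            rw [pow_add, Nat.add_comm (p - j'), Nat.add_comm (p - k'), pow_add b, pow_add c]
            simp only [mul_assoc]
        _ = a ^ (p - i') * (a ^ i * b ^ j * c ^ k) * b ^ (p - j') * c ^ (p - k') := by
            rw [← hbc']; simp only [mul_assoc]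
        _ = (a ^ (p - i') * a ^ i') * b ^ j' * (c ^ k' * b ^ (p - j')) * c ^ (p - k') := by
            rw [h]; simp only [mul_assoc]
        _ = (a ^ (p - i') * a ^ i') * (b ^ j' * b ^ (p - j')) * (c ^ k' * c ^ (p - k')) := by
            rw [hbc']; simp only [mul_assoc]
        _ = 1 := by
            rw [← pow_add, ← pow_add, ← pow_add, Nat.sub_add_cancel hi'.le, Nat.add_sub_cancel' hj'.le,
              Nat.add_sub_cancel' hk'.le, ha, hb, hc]
            simp
    rw [pow_eq_pow_mod _ ha, pow_eq_pow_mod _ hb, pow_eq_pow_mod _ hc] at h1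
    obtain ⟨h2, h3, h4⟩ := hone _ _ _ (Nat.mod_lt _ hp0) (Nat.mod_lt _ hp0) (Nat.mod_lt _ hp0) h1
    exact ⟨hz _ _ hi hi' h2, hz _ _ hj hj' h3, hz _ _ hk hk' h4⟩
  refine ⟨P, ?_, ?_⟩
  · let f : Fin p × Fin p × Fin p → P := fun t => ⟨a ^ (t.1 : ℕ) * b ^ (t.2.1 : ℕ) * c ^ (t.2.2 : ℕ), _, _, _, rfl⟩
    have hf : Function.Bijective f := by
      constructor
      · rintro ⟨i, j, k⟩ ⟨i', j', k'⟩ h
        obtain ⟨h1, h2, h3⟩ := hinj _ _ _ _ _ _ i.2 j.2 k.2 i'.2 j'.2 k'.2 (congrArg Subtype.val h)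
        rw [Fin.ext h1, Fin.ext h2, Fin.ext h3]
      · rintro ⟨g, hg⟩
        obtain ⟨i, j, k, hi, hj, hk, h⟩ := hred g hg
        exact ⟨(⟨i, hi⟩, ⟨j, hj⟩, ⟨k, hk⟩), Subtype.ext h.symm⟩
    rw [← Nat.card_congr (Equiv.ofBijective f hf), Nat.card_prod, Nat.card_prod, Nat.card_eq_fintype_card,
      Fintype.card_fin]
    ring
  · intro y hy hxy
    obtain ⟨i, j, k, hi, hj, hk, h⟩ := hred y hy
    obtain ⟨i', j', k', hi', hj', hk', h'⟩ := hred _ hxy
    obtain ⟨h1, h2, h3⟩ := hx i j k i' j' k' hi hj hk hi' hj' hk' (by rw [← h, ← h']; group)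
    rw [h, h1, h2, h3]
    simp

end group

noncomputable section

/-- `i`-th iterate of the table `T` -/
def it (T i p : ℕ) : ℕ := Nat.rec p (fun _ r => lk T r) i

theorem it_zero (T p : ℕ) : it T 0 p = p := rfl
theorem it_succ (T i p : ℕ) : it T (i + 1) p = lk T (it T i p) := rfl

/-- the relations of `a, b, c` -/
def chkRel (n p A B C m : ℕ) : Bool :=
  allB (fun i => band (Nat.beq (it A p i) i) (band (Nat.beq (it B p i) i) (band (Nat.beq (it C p i) i)
    (band (Nat.beq (lk A (lk C i)) (lk C (lk A i))) (band (Nat.beq (lk B (lk C i)) (lk C (lk B i)))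
      (Nat.beq (lk B (lk A i)) (lk A (lk B (it C m i))))))))) n

/-- hash of the images of three points -/
def hsh (n md p1 p2 p3 : ℕ) (f : ℕ → ℕ) : ℕ :=
  Nat.mod (Nat.add (f p1) (Nat.mul n (Nat.add (f p2) (Nat.mul n (f p3))))) md

def bit (M v : ℕ) : Bool := Nat.beq (Nat.land (Nat.shiftRight M v) 1) 1

/-- image of `q` under `a ^ i b ^ j c ^ k` -/
def ev3 (A B C i j k q : ℕ) : ℕ := it A i (it B j (it C k q))

/-- The hashes of `E x` are in `M`. -/
def chkV (n p A B C X md p1 p2 p3 M : ℕ) : Bool :=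
  allB (fun i => allB (fun j => allB (fun k => bit M (hsh n md p1 p2 p3 (fun q => ev3 A B C i j k (lk X q)))) p) p) p

/-- The hashes of `x E`, `E ≠ 1`, are not in `M`. -/
def chkU (n p A B C X md p1 p2 p3 M : ℕ) : Bool :=
  allB (fun i => allB (fun j => allB (fun k => cond (bit M (hsh n md p1 p2 p3 (fun q => lk X (ev3 A B C i j k q))))
    (Nat.beq (Nat.add i (Nat.add j k)) 0) true) p) p) p

theorem coe_it {n : ℕ} {T : ℕ} {t : Perm (Fin n)} (h : ∀ i : Fin n, (t i : ℕ) = lk T i) (k : ℕ) (i : Fin n) :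
    ((t ^ k) i : ℕ) = it T k i := by
  induction k with
  | zero => rfl
  | succ k ih => rw [pow_succ', Perm.mul_apply, h, ih]; rfl

theorem meetIn_of_tab {n p : ℕ} [Fact p.Prime] {Q : Subgroup (Perm (Fin n))} (A B C X m md p1 p2 p3 M : ℕ)
    (hA : InG Q A) (hB : InG Q B) (hC : InG Q C) (hX : InG Q X)
    (hp : band (Nat.blt p1 n) (band (Nat.blt p2 n) (Nat.blt p3 n)) = true)
    (h1 : chkRel n p A B C m = true) (hV : chkV n p A B C X md p1 p2 p3 M = true)
    (hU : chkU n p A B C X md p1 p2 p3 M = true) (hcard : ¬ p ^ 4 ∣ Nat.card Q) : MeetIn p Q := by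
  have hpp : p.Prime := Fact.out
  obtain ⟨a, haQ, ha⟩ := hA
  obtain ⟨b, hbQ, hb⟩ := hB
  obtain ⟨c, hcQ, hc⟩ := hC
  obtain ⟨x, hxQ, hx⟩ := hX
  rw [band_eq_true, band_eq_true, Nat.blt_eq, Nat.blt_eq, Nat.blt_eq] at hp
  have hr := fun i : Fin n => (allB_iff _ _).1 h1 i i.2
  simp only [band_eq_true, Nat.beq_eq] at hr
  have hev : ∀ (i j k : ℕ) (q : Fin n), ((a ^ i * b ^ j * c ^ k) q : ℕ) = ev3 A B C i j k q := by
    intro i j k q
    rw [Perm.mul_apply, Perm.mul_apply, coe_it ha, coe_it hb, coe_it hc]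
    rfl
  obtain ⟨P, hP, hPx⟩ := exists_sub (G := Q) hpp (a := ⟨a, haQ⟩) (b := ⟨b, hbQ⟩) (c := ⟨c, hcQ⟩) (x := ⟨x, hxQ⟩)
    (m := m)
    (Subtype.ext (Equiv.ext fun i => Fin.ext (by
      change ((a ^ p) i : ℕ) = i
      rw [coe_it ha]; exact (hr i).1)))
    (Subtype.ext (Equiv.ext fun i => Fin.ext (by
      change ((b ^ p) i : ℕ) = i
      rw [coe_it hb]; exact (hr i).2.1)))
    (Subtype.ext (Equiv.ext fun i => Fin.ext (by
      change ((c ^ p) i : ℕ) = i
      rw [coe_it hc]; exact (hr i).2.2.1)))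
    (Subtype.ext (Equiv.ext fun i => Fin.ext (by
      change ((a * c) i : ℕ) = (c * a) i
      rw [Perm.mul_apply, Perm.mul_apply, ha, hc, hc, ha]; exact (hr i).2.2.2.1)))
    (Subtype.ext (Equiv.ext fun i => Fin.ext (by
      change ((b * c) i : ℕ) = (c * b) i
      rw [Perm.mul_apply, Perm.mul_apply, hb, hc, hc, hb]; exact (hr i).2.2.2.2.1)))
    (Subtype.ext (Equiv.ext fun i => Fin.ext (by
      change ((b * a) i : ℕ) = (a * b * c ^ m) i
      rw [Perm.mul_apply, Perm.mul_apply, Perm.mul_apply, hb, ha, ha, hb, coe_it hc]; exact (hr i).2.2.2.2.2)))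
    (by
      intro i j k i' j' k' hi hj hk hi' hj' hk' h
      have h2 : ∀ q : ℕ, q < n → lk X (ev3 A B C i j k q) = ev3 A B C i' j' k' (lk X q) := by
        intro q hq
        have h3 : x * (a ^ i * b ^ j * c ^ k) = (a ^ i' * b ^ j' * c ^ k') * x := congrArg Subtype.val h
        have h4 : ((x * (a ^ i * b ^ j * c ^ k)) ⟨q, hq⟩ : ℕ) = ((a ^ i' * b ^ j' * c ^ k') * x) ⟨q, hq⟩ := by rw [h3]
        rw [Perm.mul_apply, hx, hev, Perm.mul_apply _ x, hev, hx] at h4
        exact h4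
      have h5 := (allB_iff _ _).1 ((allB_iff _ _).1 ((allB_iff _ _).1 hV i' hi') j' hj') k' hk'
      have h6 := (allB_iff _ _).1 ((allB_iff _ _).1 ((allB_iff _ _).1 hU i hi) j hj) k hk
      have h7 : hsh n md p1 p2 p3 (fun q => lk X (ev3 A B C i j k q)) =
          hsh n md p1 p2 p3 (fun q => ev3 A B C i' j' k' (lk X q)) := by
        unfold hsh
        simp only [h2 p1 hp.1, h2 p2 hp.2.1, h2 p3 hp.2.2]
      rw [h7, h5] at h6
      have h8 : i + (j + k) = 0 := Nat.eq_of_beq_eq_true h6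
      omega)
  have : Finite Q := inferInstance
  refine MeetIn.of_one P (IsPGroup.of_card hP) ?_ ⟨⟨x, hxQ⟩, hPx⟩
  rintro ⟨q, hq⟩
  apply hcard
  rw [← P.card_mul_index, hP, hq]
  exact ⟨q, by ring⟩

end

end Cfsg.Agent.H68.MeetTab
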