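import Mathlib
import Cfsg.Agent.H68.MeetTab
import Cfsg.Agent.HN.AutHS
import Cfsg.Agent.BpSpor.Row.HS

/-!
# Sylow 5-subgroups of the Higman–Sims group: trivial intersections (helper68)
-/

set_option autoImplicit false

namespace Cfsg.Agent.H68.MeetHS

open Cfsg.Agent.SporadicA.PermTab Cfsg.Agent.HN.HS100 Cfsg.Agent.HN Equiv Cfsg.Agent.H68.MeetB
  Cfsg.Agent.H68.MeetTab Cfsg.Agent.H903.SylMeet

noncomputable section

def hA : ℕ := 0x60501085f092074020150a4158058200b8130098160300900602703805c2580a06c1081a03d036000190370c6114048300c00682182904a0bc1a82a0660ec0803f0a20a01181f00c1400105a09c1001584a08e0142685507c164078460701500883a05c0380402d078174310570b60e4130070820c4298440320b03082202413c2f01e0900342c001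
def hB : ℕ := 0x7615c2c0070341282b0430101301b8410ba0580f82502e0cc1d0420261241b03d0b803c1a05a04e0742f05b00606c2383801a0480f002008030188510160b030029088080158550380041a81407c13c080320c2044318060a60642282e0441200485904c0381802d0781882580a0480e42804e0420fc2f84005e134028520300a80005402a08c14046
def hC : ℕ := 0x280100e80d0a6108128160a210c030090a818c1b83607c030180200a401c2d0030ac06c0c05c000084280380c40b8028220041380a8390141541a0190541301f82d08009c148590261600703d0200201a84708c0a0160440560bc0886101612c2282400205c0e01a0240ec2e81e0661241906004c0f01181f09e1202f03a0be16c2504d0ae0c42080f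
def hM : ℕ := 0x2000e0000200000000000000000200000000024001000010000000200200021001000800200241000200000000000010004010800000000002000000800000100000000000000002000020000008000000200000000000040000000402002000004100000000000024000028000010020020002000000000000000200800000000000000000040000000000000000080020000000002000000000040004000000000000000040000000200000800080040000000000000000000000000000000000000800000400200000000088400004000004000000002400000000208000000000040000100000000090240a00000000006880000000080040000000000000000822002004000053000001400000000802100012010400021000208000000000000000202018400000020000000000000020000001000000000100000000000011000000002000000010100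

theorem in_hA : InG Q hA := word_of (L := [tX, tY, tY, tY, tY, tY, tW, tW, tW, tW, tW, tX, tY, tY, tY, tY, tY, tW, tW, tW, tX, tW, tW, tX, tW, tW, tW, tW, tW, tY, tX, tW, tY, tX])
  (mem3 inX inY inW) (by simp) (by decide +kernel)
theorem in_hB : InG Q hB := word_of (L := [tW, tW, tW, tW, tW, tX, tW, tW, tW, tW, tW, tX, tW, tW, tW, tW, tW, tY, tY, tY, tY, tW, tW, tW, tW, tW, tY, tY, tY, tY, tY, tX, tW, tW, tX, tW, tW, tY, tW, tY, tY, tW, tX, tW, tX, tW])
  (mem3 inX inY inW) (by simp) (by decide +kernel)
theorem in_hC : InG Q hC := word_of (L := [tY, tW, tX, tW, tW, tY, tW, tX, tW, tW, tY, tW, tX, tW, tW, tY, tW, tX, tW, tW])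
  (mem3 inX inY inW) (by simp) (by decide +kernel)

theorem meetIn_Q : MeetIn 5 Q :=
  have : Fact (Nat.Prime 5) := ⟨by norm_num⟩
  meetIn_of_tab hA hB hC tX 3 2662 3 50 99 hM in_hA in_hB in_hC inX
    (by decide +kernel) (by decide +kernel) (by decide +kernel) (by decide +kernel)
    (by rw [AutBound.card_Q]; norm_num)


theorem meetIn_HS {G : Type*} [Group G] (h : Cfsg.Spor.IsoHS G) : MeetIn 5 G := by
  obtain ⟨e⟩ := h
  obtain ⟨f⟩ := AutHS.nonempty_Q.1
  exact meetIn_Q.congr (f.trans e.symm)

theorem meet5_HS {G : Type*} [Group G] [Finite G] [IsSimpleGroup G] (h : Cfsg.Spor.IsoHS G) : Meet 5 G := by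
  have : Fact (Nat.Prime 5) := ⟨by norm_num⟩
  refine MeetIn.meet (Cfsg.Agent.BpSpor.Inn.hs h 5 (by norm_num) (by norm_num)) ?_ (meetIn_HS h)
  obtain ⟨e⟩ := h
  obtain ⟨f⟩ := AutHS.nonempty_Q.1
  apply not_comm_of_card
  rw [Nat.card_congr (e.trans f.symm).toEquiv, AutBound.card_Q]
  norm_num

end

end Cfsg.Agent.H68.MeetHS
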