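import Mathlib
import Cfsg.Agent.H68.MeetBase
import Cfsg.Agent.SylowL.Lower

/-!
# Trivial intersections of Sylow `p`-subgroups: certificates by matrices over the prime field (helper68)

`A : G →* Matrix (Fin n) (Fin n) (ZMod p)` injective, the generators of `P` are mapped to upper unitriangular
matrices, their conjugates by `x⁻¹` to lower unitriangular matrices.
-/

set_option autoImplicit false

namespace Cfsg.Agent.H68.MeetUT

open Subgroup Cfsg.Agent.H68.MeetB

variable {n p : ℕ} [Fact p.Prime]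

/-- upper unitriangular -/
def Up (M : Matrix (Fin n) (Fin n) (ZMod p)) : Prop := (∀ i j, j < i → M i j = 0) ∧ ∀ i, M i i = 1

/-- lower unitriangular -/
def Lo (M : Matrix (Fin n) (Fin n) (ZMod p)) : Prop := (∀ i j, i < j → M i j = 0) ∧ ∀ i, M i i = 1

instance decUp (M : Matrix (Fin n) (Fin n) (ZMod p)) : Decidable (Up M) :=
  decidable_of_iff ((∀ t : Fin n × Fin n, t.2 < t.1 → M t.1 t.2 = 0) ∧ ∀ i, M i i = 1)
    ⟨fun h => ⟨fun i j hij => h.1 (i, j) hij, h.2⟩, fun h => ⟨fun t ht => h.1 t.1 t.2 ht, h.2⟩⟩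

instance decLo (M : Matrix (Fin n) (Fin n) (ZMod p)) : Decidable (Lo M) :=
  decidable_of_iff ((∀ t : Fin n × Fin n, t.1 < t.2 → M t.1 t.2 = 0) ∧ ∀ i, M i i = 1)
    ⟨fun h => ⟨fun i j hij => h.1 (i, j) hij, h.2⟩, fun h => ⟨fun t ht => h.1 t.1 t.2 ht, h.2⟩⟩

theorem Up.one : Up (1 : Matrix (Fin n) (Fin n) (ZMod p)) :=
  ⟨fun _ _ h => Matrix.one_apply_ne h.ne', fun _ => Matrix.one_apply_eq _⟩

theorem Lo.one : Lo (1 : Matrix (Fin n) (Fin n) (ZMod p)) :=
  ⟨fun _ _ h => Matrix.one_apply_ne h.ne, fun _ => Matrix.one_apply_eq _⟩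

theorem Up.mul {M N : Matrix (Fin n) (Fin n) (ZMod p)} (hM : Up M) (hN : Up N) : Up (M * N) := by
  constructor
  · intro i j hij
    rw [Matrix.mul_apply]
    refine Finset.sum_eq_zero fun k _ => ?_
    rcases lt_or_ge k i with h | h
    · rw [hM.1 i k h, zero_mul]
    · rw [hN.1 k j (hij.trans_le h), mul_zero]
  · intro i
    rw [Matrix.mul_apply, Finset.sum_eq_single i]
    · rw [hM.2, hN.2, mul_one]
    · intro k _ hk
      rcases lt_or_gt_of_ne hk with h | h
      · rw [hM.1 i k h, zero_mul]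
      · rw [hN.1 k i h, mul_zero]
    · intro h
      exact absurd (Finset.mem_univ i) h

theorem Up.transpose {M : Matrix (Fin n) (Fin n) (ZMod p)} : Up M.transpose ↔ Lo M :=
  ⟨fun h => ⟨fun i j hij => h.1 j i hij, fun i => h.2 i⟩, fun h => ⟨fun i j hij => h.1 j i hij, fun i => h.2 i⟩⟩

theorem Lo.mul {M N : Matrix (Fin n) (Fin n) (ZMod p)} (hM : Lo M) (hN : Lo N) : Lo (M * N) := by
  rw [← Up.transpose, Matrix.transpose_mul]
  exact (Up.transpose.2 hN).mul (Up.transpose.2 hM)

theorem eq_one {M : Matrix (Fin n) (Fin n) (ZMod p)} (h : Up M) (h' : Lo M) : M = 1 := by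
  ext i j
  rcases lt_trichotomy i j with hij | rfl | hij
  · rw [h'.1 i j hij, Matrix.one_apply_ne hij.ne]
  · rw [h.2, Matrix.one_apply_eq]
  · rw [h.1 i j hij, Matrix.one_apply_ne hij.ne']

/-- the entries `(r, j)`, `r < j ≤ c`, vanish -/
def Win (r c : Fin n) (M : Matrix (Fin n) (Fin n) (ZMod p)) : Prop := ∀ j, r < j → j ≤ c → M r j = 0

instance decWin (r c : Fin n) (M : Matrix (Fin n) (Fin n) (ZMod p)) : Decidable (Win r c M) :=
  decidable_of_iff (∀ j, (r < j ∧ j ≤ c) → M r j = 0) ⟨fun h j h1 h2 => h j ⟨h1, h2⟩, fun h j h1 => h j h1.1 h1.2⟩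

theorem Win.mul {r c : Fin n} {M N : Matrix (Fin n) (Fin n) (ZMod p)} (hM : Up M) (hN : Up N) (h : Win r c M)
    (h' : Win r c N) : Win r c (M * N) := by
  intro j hrj hjc
  rw [Matrix.mul_apply]
  refine Finset.sum_eq_zero fun k _ => ?_
  rcases lt_trichotomy k r with hk | rfl | hk
  · rw [hM.1 r k hk, zero_mul]
  · rw [h' j hrj hjc, mul_zero]
  · rcases le_or_gt k c with hkc | hkc
    · rw [h k hk hkc, zero_mul]
    · rw [hN.1 k j (hjc.trans_lt hkc), mul_zero]

theorem closure_prop {G : Type*} [Group G] [Finite G] {S : Set G} {Q : G → Prop} (h1 : Q 1)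
    (hmul : ∀ a b, Q a → Q b → Q (a * b)) (hS : ∀ s ∈ S, Q s) {y : G} (hy : y ∈ closure S) : Q y := by
  have h2 : y ∈ Submonoid.closure S := by
    rw [← Subgroup.closure_toSubmonoid_of_finite]
    exact hy
  clear hy
  induction h2 using Submonoid.closure_induction with
  | mem x hx => exact hS x hx
  | one => exact h1
  | mul x z _ _ hx hz => exact hmul x z hx hz

theorem mul_card_le {G : Type*} [Group G] [Finite G] {H K : Subgroup G} (hK : IsPGroup p K) (hHK : H ≤ K) {g : G}
    (hg : g ∈ K) (hg' : g ∉ H) : p * Nat.card H ≤ Nat.card K := by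
  have hpp : p.Prime := Fact.out
  obtain ⟨a, ha⟩ := hK.exists_card_eq
  have h1 : Nat.card H ∣ Nat.card K := card_dvd_of_le hHK
  obtain ⟨b, hb⟩ := h1
  have h2 : b ∣ p ^ a := ⟨Nat.card H, by rw [← ha, hb, mul_comm]⟩
  obtain ⟨c, -, hc⟩ := (Nat.dvd_prime_pow hpp).1 h2
  rcases Nat.eq_zero_or_pos c with h0 | h0
  · exfalso
    rw [h0, pow_zero] at hc
    rw [hc, mul_one] at hb
    have h3 : H = K := Subgroup.eq_of_le_of_card_ge hHK hb.le
    exact hg' (h3 ▸ hg)
  · rw [hb, hc, mul_comm]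
    refine Nat.mul_le_mul_left _ ?_
    calc p = p ^ 1 := (pow_one p).symm
      _ ≤ p ^ c := Nat.pow_le_pow_right hpp.pos h0

variable {G : Type*} [Group G] [Finite G] (A : G →* Matrix (Fin n) (Fin n) (ZMod p)) (hA : Function.Injective A)

/-- subgroup generated by a list -/
def cl (l : List G) : Subgroup G := closure {x | x ∈ l}

omit [Finite G] in
theorem cl_cons (g : G) (l : List G) : cl l ≤ cl (g :: l) :=
  closure_mono fun _ hx => List.mem_cons_of_mem _ hx

omit [Finite G] in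
theorem mem_cl {g : G} {l : List G} (h : g ∈ l) : g ∈ cl l := subset_closure h

theorem up_of_mem {l : List G} (h : ∀ g ∈ l, Up (A g)) {y : G} (hy : y ∈ cl l) : Up (A y) :=
  closure_prop (Q := fun y => Up (A y)) (by rw [map_one]; exact Up.one)
    (fun a b ha hb => by rw [map_mul]; exact ha.mul hb) h hy

omit [Finite G] in
include hA in
theorem isPGroup_of_up {K : Subgroup G} (h : ∀ y ∈ K, Up (A y)) : IsPGroup p K := by
  have h1 : IsPGroup p (Cfsg.Agent.SylowL.UT.UT n (ZMod p)) := by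
    apply IsPGroup.of_card (n := n * (n - 1) / 2)
    rw [Cfsg.Agent.SylowL.Lower.card_UT, Nat.card_zmod]
  have h2 : Function.Injective A.toHomUnits := by
    intro a b hab
    exact hA (congrArg Units.val hab)
  have h3 : K ≤ (Cfsg.Agent.SylowL.UT.UT n (ZMod p)).comap A.toHomUnits := by
    intro y hy
    rw [mem_comap]
    change ((A.toHomUnits y : (Matrix (Fin n) (Fin n) (ZMod p))ˣ) : Matrix (Fin n) (Fin n) (ZMod p)) - 1 ∈
      Cfsg.Agent.SylowL.Lev.lev n (ZMod p) 1
    rw [Cfsg.Agent.SylowL.Lev.mem_lev']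
    intro i j hij
    have h4 : A y i j = (1 : Matrix (Fin n) (Fin n) (ZMod p)) i j := by
      rcases (Nat.lt_succ_iff.1 hij).lt_or_eq with h5 | h5
      · rw [(h y hy).1 i j h5, Matrix.one_apply_ne (by rintro rfl; exact absurd h5 (lt_irrefl _))]
      · have h6 : j = i := Fin.ext h5
        rw [h6, (h y hy).2, Matrix.one_apply_eq]
    rw [Matrix.sub_apply, sub_eq_zero]
    exact h4
  exact (h1.comap_of_injective _ h2).to_le h3

/-- the pivot conditions -/
def Piv : List (G × Fin n × Fin n) → Prop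
  | [] => True
  | a :: l => a.2.1 < a.2.2 ∧ A a.1 a.2.1 a.2.2 ≠ 0 ∧ (∀ b ∈ l, Win a.2.1 a.2.2 (A b.1)) ∧ Piv l

include hA in
theorem card_ge (l : List (G × Fin n × Fin n)) (hup : ∀ a ∈ l, Up (A a.1)) (h : Piv A l) :
    p ^ l.length ≤ Nat.card ↥(cl (l.map Prod.fst)) := by
  induction l with
  | nil => exact Nat.card_pos
  | cons a l ih =>
    obtain ⟨h1, h2, h3, h4⟩ := h
    have hup' : ∀ b ∈ l, Up (A b.1) := fun b hb => hup b (List.mem_cons_of_mem _ hb)
    have h5 := ih hup' h4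
    have hUp : ∀ y ∈ cl ((a :: l).map Prod.fst), Up (A y) := fun y hy => up_of_mem A (by
      intro g hg
      obtain ⟨b, hb, rfl⟩ := List.mem_map.1 hg
      exact hup b hb) hy
    have h6 : p * Nat.card ↥(cl (l.map Prod.fst)) ≤ Nat.card ↥(cl ((a :: l).map Prod.fst)) := by
      refine mul_card_le (isPGroup_of_up A hA hUp) (cl_cons _ _) (g := a.1) (mem_cl (by simp)) fun hmem => ?_
      have h7 : Up (A a.1) ∧ Win a.2.1 a.2.2 (A a.1) :=
        closure_prop (Q := fun y => Up (A y) ∧ Win a.2.1 a.2.2 (A y))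
          ⟨by rw [map_one]; exact Up.one, by
            rw [map_one]
            intro j hj _
            exact Matrix.one_apply_ne hj.ne⟩
          (fun y z hy hz => by
            rw [map_mul]
            exact ⟨hy.1.mul hz.1, Win.mul hy.1 hz.1 hy.2 hz.2⟩)
          (fun s hs => by
            obtain ⟨b, hb, rfl⟩ := List.mem_map.1 hs
            exact ⟨hup' b hb, h3 b hb⟩) hmem
      exact h2 (h7.2 a.2.2 h1 le_rfl)
    rw [List.length_cons, pow_succ, mul_comm]
    exact (Nat.mul_le_mul_left p h5).trans h6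

include hA in
/-- **certificate by matrices** -/
theorem meetIn (l : List (G × Fin n × Fin n)) (hup : ∀ a ∈ l, Up (A a.1)) (h : Piv A l) (x : G)
    (hlo : ∀ a ∈ l, Lo (A (x⁻¹ * a.1 * x))) (hcard : ¬ p ^ (l.length + 1) ∣ Nat.card G) : MeetIn p G := by
  have hpp : p.Prime := Fact.out
  let P : Subgroup G := cl (l.map Prod.fst)
  have hUp : ∀ y ∈ P, Up (A y) := fun y hy => up_of_mem A (by
      intro g hg
      obtain ⟨b, hb, rfl⟩ := List.mem_map.1 hg
      exact hup b hb) hy
  have hP : IsPGroup p P := isPGroup_of_up A hA hUp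
  have h1 := card_ge A hA l hup h
  refine MeetIn.of_one P hP ?_ ⟨x, fun y hy hxy => ?_⟩
  · intro hd
    apply hcard
    obtain ⟨k, hk⟩ := hP.exists_card_eq
    have h2 : l.length ≤ k := by
      rw [← Nat.pow_le_pow_iff_right hpp.one_lt, ← hk]
      exact h1
    rw [← card_mul_index P, pow_succ]
    refine mul_dvd_mul ?_ hd
    rw [hk]
    exact pow_dvd_pow p h2
  · have h2 : Lo (A (x⁻¹ * (x * y * x⁻¹) * x)) :=
      closure_prop (Q := fun z => Lo (A (x⁻¹ * z * x))) (by
          have : x⁻¹ * 1 * x = 1 := by group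
          rw [this, map_one]
          exact Lo.one)
        (fun a b ha hb => by
          have : x⁻¹ * (a * b) * x = (x⁻¹ * a * x) * (x⁻¹ * b * x) := by group
          rw [this, map_mul]
          exact ha.mul hb)
        (fun s hs => by
          obtain ⟨b, hb, rfl⟩ := List.mem_map.1 hs
          exact hlo b hb) hxy
    have h3 : x⁻¹ * (x * y * x⁻¹) * x = y := by group
    rw [h3] at h2
    apply hA
    rw [map_one]
    exact eq_one (hUp y hy) h2

end Cfsg.Agent.H68.MeetUT
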