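import Mathlib
import Cfsg.Agent.H68.MeetUT
import Cfsg.Agent.SporRec.LyG2.LyEmb
import Cfsg.Agent.TypeM.OutLyFin
import Cfsg.Agent.S1702

/-!
# Sylow 5-subgroups of `G₂(5)` and of the Lyons group: trivial intersections (helper68)
-/

set_option autoImplicit false
set_option maxRecDepth 100000

namespace Cfsg.Agent.H68.MeetLy

open Cfsg.Agent.Lib.PackMat Cfsg.Agent.Lib.PackOrbit
open Cfsg.Agent.SporRec.LyG2.M7Data Cfsg.Agent.SporRec.LyG2.Rel Cfsg.Agent.SporRec.LyG2.Pres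
  Cfsg.Agent.SporRec.LyG2.M7 Cfsg.Agent.SporRec.LyG2.Simple Cfsg.Agent.SporRec.LyG2.LyEmb
open Cfsg.Agent.H68.MeetB Cfsg.Agent.H68.MeetUT Cfsg.Agent.H903.SylMeet
open Cfsg.Spor (Ly IsoLy)

def TT : Matrix (Fin 7) (Fin 7) (ZMod 5) := !![1, 4, 3, 2, 0, 1, 0; 1, 0, 2, 3, 1, 1, 4; 0, 0, 1, 3, 1, 1, 4; 0, 0, 1, 4, 0, 4, 0; 0, 0, 1, 0, 0, 1, 4; 0, 0, 0, 0, 0, 1, 4; 0, 0, 0, 0, 0, 1, 0]
def TI : Matrix (Fin 7) (Fin 7) (ZMod 5) := !![0, 1, 4, 0, 4, 1, 0; 4, 1, 4, 3, 4, 1, 4; 0, 0, 0, 0, 1, 4, 0; 0, 0, 0, 4, 1, 4, 4; 0, 0, 1, 3, 1, 3, 3; 0, 0, 0, 0, 0, 0, 1; 0, 0, 0, 0, 0, 4, 1]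

theorem TT_TI : TT * TI = 1 := by decide +kernel
theorem TI_TT : TI * TT = 1 := by decide +kernel

def a30 : Matrix (Fin 7) (Fin 7) (ZMod 5) := !![1, 0, 0, 0, 0, 0, 0; 0, 1, 1, 0, 0, 0, 0; 0, 0, 1, 0, 0, 0, 0; 0, 0, 0, 1, 0, 0, 0; 0, 0, 0, 0, 1, 1, 0; 0, 0, 0, 0, 0, 1, 0; 0, 0, 0, 0, 0, 0, 1]
def a32 : Matrix (Fin 7) (Fin 7) (ZMod 5) := !![1, 4, 1, 0, 3, 2, 0; 0, 1, 0, 3, 1, 4, 2; 0, 0, 1, 3, 1, 4, 2; 0, 0, 0, 1, 4, 1, 0; 0, 0, 0, 0, 1, 0, 4; 0, 0, 0, 0, 0, 1, 4; 0, 0, 0, 0, 0, 0, 1]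
def a34 : Matrix (Fin 7) (Fin 7) (ZMod 5) := !![1, 0, 1, 0, 0, 2, 0; 0, 1, 0, 3, 0, 4, 2; 0, 0, 1, 0, 0, 0, 0; 0, 0, 0, 1, 0, 1, 0; 0, 0, 0, 0, 1, 0, 4; 0, 0, 0, 0, 0, 1, 0; 0, 0, 0, 0, 0, 0, 1]
def a36 : Matrix (Fin 7) (Fin 7) (ZMod 5) := !![1, 0, 0, 3, 0, 0, 1; 0, 1, 0, 0, 1, 0, 0; 0, 0, 1, 0, 0, 1, 0; 0, 0, 0, 1, 0, 0, 4; 0, 0, 0, 0, 1, 0, 0; 0, 0, 0, 0, 0, 1, 0; 0, 0, 0, 0, 0, 0, 1]
def a38 : Matrix (Fin 7) (Fin 7) (ZMod 5) := !![1, 0, 0, 0, 4, 1, 0; 0, 1, 0, 0, 0, 0, 1; 0, 0, 1, 0, 0, 0, 1; 0, 0, 0, 1, 0, 0, 0; 0, 0, 0, 0, 1, 0, 0; 0, 0, 0, 0, 0, 1, 0; 0, 0, 0, 0, 0, 0, 1]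
def a40 : Matrix (Fin 7) (Fin 7) (ZMod 5) := !![1, 0, 0, 0, 0, 1, 0; 0, 1, 0, 0, 0, 0, 1; 0, 0, 1, 0, 0, 0, 0; 0, 0, 0, 1, 0, 0, 0; 0, 0, 0, 0, 1, 0, 0; 0, 0, 0, 0, 0, 1, 0; 0, 0, 0, 0, 0, 0, 1]
def a28 : Matrix (Fin 7) (Fin 7) (ZMod 5) := !![1, 0, 0, 0, 0, 0, 0; 0, 2, 4, 0, 0, 0, 0; 0, 1, 0, 0, 0, 0, 0; 0, 0, 0, 1, 0, 0, 0; 0, 0, 0, 0, 2, 4, 0; 0, 0, 0, 0, 1, 0, 0; 0, 0, 0, 0, 0, 0, 1]
def a22 : Matrix (Fin 7) (Fin 7) (ZMod 5) := !![4, 0, 0, 4, 0, 0, 1; 0, 2, 0, 0, 4, 0, 0; 0, 0, 2, 0, 0, 4, 0; 3, 0, 0, 4, 0, 0, 0; 0, 1, 0, 0, 0, 0, 0; 0, 0, 1, 0, 0, 0, 0; 1, 0, 0, 0, 0, 0, 0]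
def xh : Matrix (Fin 7) (Fin 7) (ZMod 5) := !![4, 0, 0, 4, 0, 0, 1; 0, 4, 3, 0, 3, 1, 0; 0, 2, 0, 0, 4, 0, 0; 3, 0, 0, 4, 0, 0, 0; 0, 2, 4, 0, 0, 0, 0; 0, 1, 0, 0, 0, 0, 0; 1, 0, 0, 0, 0, 0, 0]
def xi : Matrix (Fin 7) (Fin 7) (ZMod 5) := !![0, 0, 0, 0, 0, 0, 1; 0, 0, 0, 0, 0, 1, 0; 0, 0, 0, 0, 4, 2, 0; 0, 0, 0, 4, 0, 0, 3; 0, 0, 4, 0, 0, 2, 0; 0, 1, 3, 0, 3, 4, 0; 1, 0, 0, 4, 0, 0, 4]

/-- change of the index types -/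
def c7 (M : Mat7) : Matrix (Fin 7) (Fin 7) (ZMod 5) := M

theorem c7_mul (M N : Mat7) : c7 (M * N) = c7 M * c7 N := rfl

theorem c7_one : c7 1 = 1 := rfl

/-- the `7 × 7` matrix in the new basis -/
noncomputable def A : P44 →* Matrix (Fin 7) (Fin 7) (ZMod 5) where
  toFun y := TT * c7 (φ y : Mat7) * TI
  map_one' := by rw [map_one, Units.val_one, c7_one, mul_one, TT_TI]
  map_mul' a b := by
    rw [map_mul, Units.val_mul, c7_mul]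
    calc TT * (c7 (φ a : Mat7) * c7 (φ b : Mat7)) * TI = TT * c7 (φ a : Mat7) * 1 * c7 (φ b : Mat7) * TI := by
          rw [mul_one]; simp only [mul_assoc]
      _ = _ := by rw [← TI_TT]; simp only [mul_assoc]

theorem A_apply (y : P44) : A y = TT * c7 (φ y : Mat7) * TI := rfl

theorem A_injective : Function.Injective A := by
  intro y z h
  rw [A_apply, A_apply] at h
  have key : ∀ M : Matrix (Fin 7) (Fin 7) (ZMod 5), TI * (TT * M * TI) * TT = M := by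
    intro M
    calc TI * (TT * M * TI) * TT = (TI * TT) * M * (TI * TT) := by simp only [mul_assoc]
      _ = M := by rw [TI_TT, one_mul, mul_one]
  have h1 := congrArg (fun M => TI * M * TT) h
  simp only [key] at h1
  exact Cfsg.Agent.SporRec.LyG2.M7.φ_injective (Units.ext h1)

theorem A_Y (k : ℕ) : A (Y k) = TT * c7 (mat C7 (cd k)) * TI := by
  rw [A_apply, φ_Y, X_val]

theorem e30 : A (Y 30) = a30 := by
  rw [A_Y]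
  exact (by decide +kernel : TT * c7 (mat C7 (cd 30)) * TI = a30)
theorem e32 : A (Y 32) = a32 := by
  rw [A_Y]
  exact (by decide +kernel : TT * c7 (mat C7 (cd 32)) * TI = a32)
theorem e34 : A (Y 34) = a34 := by
  rw [A_Y]
  exact (by decide +kernel : TT * c7 (mat C7 (cd 34)) * TI = a34)
theorem e36 : A (Y 36) = a36 := by
  rw [A_Y]
  exact (by decide +kernel : TT * c7 (mat C7 (cd 36)) * TI = a36)
theorem e38 : A (Y 38) = a38 := by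
  rw [A_Y]
  exact (by decide +kernel : TT * c7 (mat C7 (cd 38)) * TI = a38)
theorem e40 : A (Y 40) = a40 := by
  rw [A_Y]
  exact (by decide +kernel : TT * c7 (mat C7 (cd 40)) * TI = a40)
theorem e28 : A (Y 28) = a28 := by
  rw [A_Y]
  exact (by decide +kernel : TT * c7 (mat C7 (cd 28)) * TI = a28)
theorem e22 : A (Y 22) = a22 := by
  rw [A_Y]
  exact (by decide +kernel : TT * c7 (mat C7 (cd 22)) * TI = a22)

theorem exh : A (Y 28 * Y 22) = xh := by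
  rw [map_mul, e28, e22]
  decide +kernel

theorem exi : A (Y 28 * Y 22)⁻¹ = xi := by
  have h : xh * xi = 1 := by decide +kernel
  calc A (Y 28 * Y 22)⁻¹ = A (Y 28 * Y 22)⁻¹ * (xh * xi) := by rw [h, mul_one]
    _ = (A (Y 28 * Y 22)⁻¹ * A (Y 28 * Y 22)) * xi := by rw [exh, mul_assoc]
    _ = xi := by rw [← map_mul, inv_mul_cancel, map_one, one_mul]

/-- generators and pivots -/
noncomputable def gl : List (P44 × Fin 7 × Fin 7) := [(Y 30, 1, 2), (Y 32, 0, 1), (Y 34, 0, 2), (Y 36, 0, 3), (Y 38, 0, 4), (Y 40, 0, 5)]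

theorem gl_up : ∀ a ∈ gl, Up (A a.1) := by
  simp only [gl, List.forall_mem_cons, List.not_mem_nil, false_imp_iff, implies_true, and_true, e30, e32, e34, e36,
    e38, e40]
  decide +kernel

theorem gl_lo : ∀ a ∈ gl, Lo (A ((Y 28 * Y 22)⁻¹ * a.1 * (Y 28 * Y 22))) := by
  have key : ∀ g : P44, A ((Y 28 * Y 22)⁻¹ * g * (Y 28 * Y 22)) = xi * A g * xh := by
    intro g
    rw [map_mul A, map_mul A _ g, exh, exi]
  simp only [gl, List.forall_mem_cons, List.not_mem_nil, false_imp_iff, implies_true, and_true, key, e30, e32, e34,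
    e36, e38, e40]
  decide +kernel

theorem gl_piv : Piv A gl := by
  simp only [gl, Piv, List.forall_mem_cons, List.not_mem_nil, false_imp_iff, implies_true, and_true, e30, e32, e34,
    e36, e38, e40]
  decide +kernel

theorem meetIn_P44 : MeetIn 5 P44 := by
  have : Fact (Nat.Prime 5) := ⟨by norm_num⟩
  exact meetIn A A_injective gl gl_up gl_piv (Y 28 * Y 22) gl_lo (by
    rw [Cfsg.Agent.SporRec.LyG2.M7.card_P44]
    change ¬ 5 ^ 7 ∣ 5859000000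
    norm_num)

theorem card_Ly : Nat.card Ly = 51765179004000000 := Cfsg.Agent.S1702.result.2

theorem meetIn_Ly' : MeetIn 5 Ly := by
  have : Fact (Nat.Prime 5) := ⟨by norm_num⟩
  have : Finite Ly := Nat.finite_of_card_ne_zero (by rw [card_Ly]; norm_num)
  refine MeetIn.of_hom η η_injective ?_ meetIn_P44
  have h1 := η.range.card_mul_index
  have h2 : Nat.card η.range = 5859000000 := by
    rw [← Cfsg.Agent.SporRec.LyG2.M7.card_P44]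
    exact (Nat.card_congr (MonoidHom.ofInjective η_injective).toEquiv).symm
  rw [h2, card_Ly] at h1
  have h3 : η.range.index = 8835156 := by omega
  rw [h3]
  norm_num

theorem meetIn_Ly {G : Type*} [Group G] (h : IsoLy G) : MeetIn 5 G := by
  obtain ⟨e⟩ := h
  exact meetIn_Ly'.congr e.symm

theorem meet5_Ly {G : Type*} [Group G] [Finite G] [IsSimpleGroup G] (h : IsoLy G) : Meet 5 G := by
  have : Fact (Nat.Prime 5) := ⟨by norm_num⟩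
  refine MeetIn.meet ?_ ?_ (meetIn_Ly h)
  · intro α _
    obtain ⟨g, hg⟩ := Cfsg.Agent.TypeM.OutLyFin.inner h α
    exact ⟨g, hg.symm⟩
  · obtain ⟨e⟩ := h
    apply not_comm_of_card
    rw [Nat.card_congr e.toEquiv, card_Ly]
    norm_num

end Cfsg.Agent.H68.MeetLy
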