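import Cfsg.Agent.H68.MeetPack
import Cfsg.Agent.H68.MeetLyThreeData
import Cfsg.Agent.Ly.CardDataThree
import Cfsg.Agent.Ly.Setup
import Cfsg.Agent.H68.MeetLy

/-!
# Trivial Sylow intersections: Ly, `p = 3` (helper68, S2484)

`zH` is a central element of class 3B of the group of order `2 * 3 ^ 7` of `Ly.CardDataThree`; a matrix commuting with `zH` and
`xH⁻¹ zH xH` is a scalar (111-dimensional representation over the field with 5 elements), hence `C(zH) ∩ C(xH⁻¹ zH xH) = 1`.
-/

set_option autoImplicit false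
set_option maxRecDepth 10000

namespace Cfsg.Agent.H68.MeetLyThree

open Cfsg Cfsg.Agent.Lib.PackMat Cfsg.Agent.Lib.PackMatGroup Cfsg.Agent.Lib.PackMatMul Cfsg.Agent.Lib.PackMatOrbit
  Cfsg.Agent.Lib.PackMatLin Cfsg.Agent.Ly.Data111 Cfsg.Agent.Ly.Rep111 Cfsg.Agent.Ly.CardLevel
  Cfsg.Agent.Ly.CardDataThree Cfsg.Agent.Ly.Pres
open Cfsg.Agent.H68.MeetB Cfsg.Agent.H68.MeetPack Cfsg.Agent.H903.SylMeet
open Cfsg.Agent.H68.MeetLyThreeData (m0 m1 m2 A B N1 V W ROW COL v ws)
open Subgroup

theorem one_lt : 1 < C.p := by decide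

/-- the representation, as a homomorphism to the units of the packed matrices -/
noncomputable def rh : Spor.Ly →* U C := rho

theorem rh_injective : Function.Injective rh := Cfsg.Agent.Ly.Setup.rho_injective

/-- rows of two products -/
theorem rows_eq {w₁ w₂ : List ℕ} {d : ℕ} (hd : 0 < d) (h : ∀ k, k * d < 111 →
    checkEq C w₁ w₂ (k * d) (min d (111 - k * d)) = true) :
    ∀ i < C.n, run C w₁ (unitRow C 1 i) = run C w₂ (unitRow C 1 i) := by
  intro i hi
  have hi' : i < 111 := hi
  have h1 : i / d * d ≤ i := Nat.div_mul_le_self i d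
  have h2 : i < i / d * d + d := by
    have := Nat.lt_div_mul_add hd (a := i)
    omega
  exact checkEq_spec (h (i / d) (by omega)) i h1 (by omega)

theorem rows_one {w₁ w₂ : List ℕ} (h : checkEq C w₁ w₂ 0 111 = true) :
    ∀ i < C.n, run C w₁ (unitRow C 1 i) = run C w₂ (unitRow C 1 i) :=
  rows_eq (d := 111) (by norm_num) fun k hk => by
    have hk' : k = 0 := by omega
    subst hk'
    exact h

theorem okA : okG C A = true := by decide +kernel
theorem okB : okG C B = true := by decide +kernel
theorem okm0 : okG C m0 = true := by decide +kernel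
theorem okm1 : okG C m1 = true := by decide +kernel
theorem okm2 : okG C m2 = true := by decide +kernel
theorem okV : okG C V = true := by decide +kernel
theorem okW' : okG C W = true := by decide +kernel
theorem okROW : okG C ROW = true := by decide +kernel

/-- value of a word in the group -/
noncomputable def el (w : List (Fin 5 × Bool)) : Spor.Ly := FreeGroup.lift gens (FreeGroup.mk w)

theorem rh_el (w : List (Fin 5 × Bool)) : rh (el w) = word w := rho_lift w

/-- first generator -/
def w0 : List (Fin 5 × Bool) := wF3_0.getD 0 []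
/-- second generator -/
def w1 : List (Fin 5 × Bool) := wF3_0.getD 1 []
/-- third generator -/
def w2 : List (Fin 5 × Bool) := wF3_0.getD 2 []

theorem codes_word {w : List (Fin 5 × Bool)} {m : ℕ} (hm : okG C m = true)
    (h : checkEq C (w.map code) [m] 0 111 = true) : Codes C (rh (el w)) m := by
  refine ⟨hm, ?_⟩
  rw [rh_el]
  refine (coe_word w).trans ?_
  have h1 := prod_eq_of_rows (good_of_check good) one_lt (ok_map w) (w₂ := [m]) (by simpa using hm) (rows_one h)
  rw [h1]
  exact mul_one _

theorem codes0 : Codes C (rh (el w0)) m0 := codes_word okm0 (by decide +kernel)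
theorem codes1 : Codes C (rh (el w1)) m1 := codes_word okm1 (by decide +kernel)
theorem codes2 : Codes C (rh (el w2)) m2 := codes_word okm2 (by decide +kernel)

/-- the generators of the group of order `2 * 3 ^ 7` -/
noncomputable def LGen : List (U C) := [rh (el w0), rh (el w1), rh (el w2)]

theorem codesGen : List.Forall₂ (Codes C) LGen [m0, m1, m2] := .cons codes0 (.cons codes1 (.cons codes2 .nil))

/-- the central element -/
noncomputable def zH : Spor.Ly := evG [el w0, el w1, el w2] [0, 1, 1, 0, 1, 1, 0, 1, 1]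

theorem rh_zH : rh zH = evG LGen [0, 1, 1, 0, 1, 1, 0, 1, 1] := by
  simp only [zH, evG_cons, evG_nil, LGen, List.getD_cons_zero, List.getD_cons_succ, map_mul, map_one]

/-- the conjugating element -/
noncomputable def xH : Spor.Ly := el [(2, true)]

theorem rowsA : ∀ i < C.n, run C (cw [m0, m1, m2] [0, 1, 1, 0, 1, 1, 0, 1, 1]) (unitRow C 1 i) =
    run C [A] (unitRow C 1 i) := rows_one (by decide +kernel)

theorem codesA : Codes C (rh zH) A := by
  rw [rh_zH]
  exact Codes.of_rows good one_lt codesGen (by decide) okA rowsA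

theorem comm_of {g : Spor.Ly} {m : ℕ} (hm : Codes C (rh g) m) (h : checkEq C [m, A] [A, m] 0 111 = true) :
    g * zH = zH * g := by
  apply rh_injective
  apply Units.ext
  have h1 := prod_eq_of_rows (good_of_check good) one_lt (w₁ := [m, A]) (w₂ := [A, m]) (by
    intro g hg
    simp only [List.mem_cons, List.not_mem_nil, or_false] at hg
    rcases hg with rfl | rfl
    exacts [hm.ok, okA]) (by
    intro g hg
    simp only [List.mem_cons, List.not_mem_nil, or_false] at hg
    rcases hg with rfl | rfl
    exacts [okA, hm.ok]) (rows_one h)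
  simp only [List.map_cons, List.map_nil, List.prod_cons, List.prod_nil, mul_one] at h1
  rw [← hm.eq, ← codesA.eq] at h1
  rw [map_mul, map_mul, Units.val_mul, Units.val_mul]
  exact h1

theorem comm0 : el w0 * zH = zH * el w0 := comm_of codes0 (by decide +kernel)
theorem comm1 : el w1 * zH = zH * el w1 := comm_of codes1 (by decide +kernel)
theorem comm2 : el w2 * zH = zH * el w2 := comm_of codes2 (by decide +kernel)

/-! ### the conjugate -/

theorem codesX : Codes C (rh xH) Gc := by
  refine ⟨ok (2, true), ?_⟩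
  rw [xH, rh_el]
  refine (coe_word _).trans ?_
  change mat C Gc * 1 = _
  rw [mul_one]

theorem rowsB : ∀ i < C.n, run C [Gc, B] (unitRow C 1 i) = run C [A, Gc] (unitRow C 1 i) :=
  rows_one (by decide +kernel)

theorem codesB : Codes C (rh (xH⁻¹ * zH * xH)) B := by
  refine ⟨okB, ?_⟩
  have h1 := prod_eq_of_rows (good_of_check good) one_lt (w₁ := [Gc, B]) (w₂ := [A, Gc]) (by
    intro g hg
    simp only [List.mem_cons, List.not_mem_nil, or_false] at hg
    rcases hg with rfl | rfl
    exacts [codesX.ok, okB]) (by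
    intro g hg
    simp only [List.mem_cons, List.not_mem_nil, or_false] at hg
    rcases hg with rfl | rfl
    exacts [okA, codesX.ok]) rowsB
  simp only [List.map_cons, List.map_nil, List.prod_cons, List.prod_nil, mul_one] at h1
  rw [← codesX.eq] at h1
  have h2 : mat C B = (((rh xH)⁻¹ : U C) : M C) * (mat C A * ((rh xH) : M C)) := by
    rw [← h1, ← mul_assoc, Units.inv_mul, one_mul]
  rw [map_mul, map_mul, map_inv, Units.val_mul, Units.val_mul, codesA.eq, h2, mul_assoc]

/-! ### the commutant -/

/-- the generators -/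
noncomputable def LK : List (U C) := [rh zH, rh (xH⁻¹ * zH * xH)]

theorem codesK : List.Forall₂ (Codes C) LK [A, B] := .cons codesA (.cons codesB .nil)

/-- the combination `A + B + A B` -/
def ts : List (ℕ × List ℕ) := [(1, [0]), (1, [1]), (1, [0, 1])]

theorem okTs1 : okTs C ((1, [COL, ROW]) :: (C.p - 1, []) :: mulTs [A, B] N1 ts) = true := by decide +kernel
theorem lin1 : linC C ((1, [COL, ROW]) :: (C.p - 1, []) :: mulTs [A, B] N1 ts) 0 111 = true := by decide +kernel
theorem lin0 : linM C ((1, [COL, ROW]) :: (C.p - 1, []) :: mulTs [A, B] N1 ts) = 0 :=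
  lin_eq_zero_of_check good one_lt okTs1 lin1
set_option exponentiation.threshold 2000 in
theorem colLt : COL < 2 ^ (C.s * C.n) := by
  have : Nat.blt COL (2 ^ (12 * 111)) = true := by decide +kernel
  exact Nat.le_of_ble_eq_true this
theorem runROW : run C [ROW] (unitRow C 1 0) = v := by
  apply Nat.eq_of_beq_eq_true
  decide +kernel
theorem csum1 : csum (cwTs [A, B] ts) * (C.p - 1) ≤ C.n * ((C.p - 1) * (2 ^ C.w - 1)) := by
  have : Nat.ble (csum (cwTs [A, B] ts) * (C.p - 1)) (C.n * ((C.p - 1) * (2 ^ C.w - 1))) = true := by decide +kernel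
  exact Nat.le_of_ble_eq_true this
theorem nul1 : redR C (lcK (run C) (cwTs [A, B] ts) v) = 0 := by
  apply Nat.eq_of_beq_eq_true
  decide +kernel
theorem okTs2 : okTs C (cwTs [A, B] ts) = true := by decide +kernel
theorem spin1 : spinC C [A, B] V v ws = true := by decide +kernel
theorem inv1 : checkScalar C [W, V] 1 0 111 = true := by decide +kernel

theorem okts : ∀ q ∈ ts, okW [A, B].length q.2 = true := by
  intro q hq
  simp only [ts, List.mem_cons, List.not_mem_nil, or_false] at hq
  rcases hq with rfl | rfl | rfl <;> decide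

theorem scalarK (g : M C) (hg : ∀ u ∈ LK, (u : M C) * g = g * u) : ∃ c : ZMod C.p, g = c • (1 : M C) :=
  scalar_of_comb good one_lt codesK okts colLt okROW lin0 runROW csum1 nul1 okTs2 okV okW' spin1 inv1 g hg

theorem center_Ly : center Spor.Ly = ⊥ := by
  rcases (inferInstance : (center Spor.Ly).Normal).eq_bot_or_eq_top with h | h
  · exact h
  · exfalso
    have hfin : Finite Spor.Ly := Nat.finite_of_card_ne_zero (by rw [Cfsg.Agent.Ly.Setup.card_ly]; norm_num)
    exact (not_comm_of_card (by rw [Cfsg.Agent.Ly.Setup.card_ly]; norm_num)) (Subgroup.center_eq_top_iff.1 h)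

theorem trivial_cent {y : Spor.Ly} (h1 : y * zH = zH * y)
    (h2 : y * (xH⁻¹ * zH * xH) = (xH⁻¹ * zH * xH) * y) : y = 1 := by
  obtain ⟨c, hc⟩ := scalarK (rh y : M C) (by
    intro u hu
    simp only [LK, List.mem_cons, List.not_mem_nil, or_false] at hu
    rcases hu with rfl | rfl
    · rw [← Units.val_mul, ← Units.val_mul, ← map_mul, ← map_mul, h1]
    · rw [← Units.val_mul, ← Units.val_mul, ← map_mul, ← map_mul, h2])
  have h3 : y ∈ center Spor.Ly := by
    rw [mem_center_iff]
    intro g
    apply rh_injective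
    apply Units.ext
    rw [map_mul, map_mul, Units.val_mul, Units.val_mul, hc, mul_smul_comm, smul_mul_assoc, mul_one, one_mul]
  rw [center_Ly] at h3
  exact h3

/-! ### the Sylow subgroup -/

theorem card_cl : Nat.card (closure ({g | g ∈ wF3_0.map el} : Set Spor.Ly)) = Nat.card (cl wF3_0) := by
  have h : cl wF3_0 = (closure ({g | g ∈ wF3_0.map el} : Set Spor.Ly)).map rho := by
    unfold cl
    rw [MonoidHom.map_closure]
    congr 1
    ext u
    constructor
    · intro hu
      obtain ⟨w, hw, rfl⟩ := List.mem_map.1 hu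
      exact ⟨el w, List.mem_map_of_mem hw, rho_lift w⟩
    · rintro ⟨g, hg, rfl⟩
      obtain ⟨w, hw, rfl⟩ := List.mem_map.1 hg
      exact List.mem_map.2 ⟨w, hw, (rho_lift w).symm⟩
  rw [h]
  exact (card_map_of_injective Cfsg.Agent.Ly.Setup.rho_injective).symm

theorem cl_le' : closure ({g | g ∈ wF3_0.map el} : Set Spor.Ly) ≤ centralizer ({zH} : Set Spor.Ly) := by
  rw [closure_le]
  intro g hg
  obtain ⟨w, hw, rfl⟩ := List.mem_map.1 hg
  rw [SetLike.mem_coe, mem_centralizer_singleton_iff]
  have hw' : w = w0 ∨ w = w1 ∨ w = w2 := by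
    have h3 : wF3_0 = [w0, w1, w2] := rfl
    rw [h3] at hw
    simpa using hw
  rcases hw' with rfl | rfl | rfl
  exacts [comm0, comm1, comm2]

theorem not_dvd_index : ¬ 3 ∣ (centralizer ({zH} : Set Spor.Ly)).index := by
  have hfin : Finite Spor.Ly := Nat.finite_of_card_ne_zero (by rw [Cfsg.Agent.Ly.Setup.card_ly]; norm_num)
  intro h
  have h1 : 4374 ∣ Nat.card (centralizer ({zH} : Set Spor.Ly)) :=
    (card_cl.symm ▸ dvdF3_0).trans (card_dvd_of_le cl_le')
  have h2 := mul_dvd_mul h1 h
  rw [card_mul_index, Cfsg.Agent.Ly.Setup.card_ly] at h2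
  norm_num at h2

theorem meetIn_ly : MeetIn 3 Spor.Ly := by
  have hfin : Finite Spor.Ly := Nat.finite_of_card_ne_zero (by rw [Cfsg.Agent.Ly.Setup.card_ly]; norm_num)
  have : Fact (Nat.Prime 3) := ⟨by norm_num⟩
  exact MeetIn.of_center' (z := zH) (x := xH) not_dvd_index fun y h1 h2 => trivial_cent h1 h2

theorem meetIn_Ly {G : Type*} [Group G] (h : Spor.IsoLy G) : MeetIn 3 G := by
  obtain ⟨e⟩ := h
  exact meetIn_ly.congr e.symm

theorem meet3_Ly {G : Type*} [Group G] [Finite G] [IsSimpleGroup G] (h : Spor.IsoLy G) : Meet 3 G := by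
  have : Fact (Nat.Prime 3) := ⟨by norm_num⟩
  refine MeetIn.meet ?_ ?_ (meetIn_Ly h)
  · intro α _
    obtain ⟨g, hg⟩ := Cfsg.Agent.TypeM.OutLyFin.inner h α
    exact ⟨g, hg.symm⟩
  · obtain ⟨e⟩ := h
    apply not_comm_of_card
    rw [Nat.card_congr e.toEquiv, Cfsg.Agent.Ly.Setup.card_ly]
    norm_num

end Cfsg.Agent.H68.MeetLyThree
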