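import Cfsg.Agent.Solvable.Hall
import Cfsg.Agent.H47.MeetTool

/-!
# Commuting elements in solvable groups, indices (helper68, S2484)

* `exists_comm` : in a solvable group of order divisible by `r` and not by `r ^ 2`, `3 ^ (m + 1)`, where `3 ^ k ≢ 1 (mod r)` for
  `1 ≤ k ≤ m` and `3 ∤ r - 1`, every element of order 3 commutes with an element of order `r`;
* `pow_dvd_index'` : powers of primes dividing the index of a subgroup.
-/

set_option autoImplicit false

namespace Cfsg.Agent.H68.MeetSolv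

open Subgroup

theorem exists_part (n : ℕ) (hn : n ≠ 0) (P : ℕ → Prop) :
    ∃ m k, n = m * k ∧ m.Coprime k ∧ (∀ t : ℕ, t.Prime → t ∣ m → P t) ∧
      ∀ t : ℕ, t.Prime → t ∣ k → ¬ P t := by
  classical
  let S : Finset ℕ := n.divisors.filter (fun m => ∀ t : ℕ, t.Prime → t ∣ m → P t)
  have hS : S.Nonempty := ⟨1, by
    rw [Finset.mem_filter, Nat.mem_divisors]
    refine ⟨⟨one_dvd _, hn⟩, fun t ht h1 => ?_⟩
    exact absurd (Nat.dvd_one.1 h1) ht.one_lt.ne'⟩
  obtain ⟨m, hmS, hmax⟩ := S.exists_max_image id hS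
  rw [Finset.mem_filter, Nat.mem_divisors] at hmS
  obtain ⟨⟨⟨k, hk⟩, -⟩, hmP⟩ := hmS
  have hkP : ∀ t : ℕ, t.Prime → t ∣ k → ¬ P t := by
    rintro t ht ⟨l, rfl⟩ hPt
    have h1 : m * t ∈ S := by
      rw [Finset.mem_filter, Nat.mem_divisors]
      refine ⟨⟨⟨l, by rw [hk, mul_assoc]⟩, hn⟩, ?_⟩
      intro u hu hd
      rcases (Nat.Prime.dvd_mul hu).1 hd with h | h
      · exact hmP u hu h
      · rw [(Nat.prime_dvd_prime_iff_eq hu ht).1 h]; exact hPt
    have h2 := hmax _ h1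
    simp only [id] at h2
    have hm0 : m ≠ 0 := by
      rintro rfl
      apply hn; rw [hk, zero_mul]
    have := ht.two_le
    have := Nat.pos_of_ne_zero hm0
    nlinarith
  refine ⟨m, k, hk, ?_, hmP, hkP⟩
  rw [Nat.coprime_iff_gcd_eq_one]
  by_contra h
  obtain ⟨t, ht, hd⟩ := Nat.exists_prime_and_dvd h
  exact hkP t ht (hd.trans (Nat.gcd_dvd_right _ _)) (hmP t ht (hd.trans (Nat.gcd_dvd_left _ _)))

/-- Hall subgroups for a set of primes. -/
theorem exists_hall {G : Type*} [Group G] [Finite G] [Group.IsSolvable G] (P : ℕ → Prop) :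
    ∃ L : Subgroup G, (∀ t : ℕ, t.Prime → t ∣ Nat.card L → P t) ∧
      ∀ K : Subgroup G, (∀ t : ℕ, t.Prime → t ∣ Nat.card K → P t) →
        ∃ g : G, ∀ k ∈ K, g * k * g⁻¹ ∈ L := by
  obtain ⟨m, n, hG, hmn, hm, hn⟩ := exists_part (Nat.card G) Nat.card_pos.ne' P
  obtain ⟨L, hL⟩ := Solvable.Hall.hall_exists m n hG hmn
  refine ⟨L, fun t ht hd => hm t ht (by rwa [hL] at hd), fun K hK => ?_⟩
  have hcop : (Nat.card K).Coprime n := by
    rw [Nat.coprime_iff_gcd_eq_one]
    by_contra h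
    obtain ⟨t, ht, hd⟩ := Nat.exists_prime_and_dvd h
    exact hn t ht (hd.trans (Nat.gcd_dvd_right _ _)) (hK t ht (hd.trans (Nat.gcd_dvd_left _ _)))
  obtain ⟨g, hg⟩ := Solvable.Hall.hall_conj_le m n hG hmn L K hL hcop
  refine ⟨g, fun k hk => hg ?_⟩
  have h1 := Subgroup.smul_mem_pointwise_smul k (MulAut.conj g) K hk
  simpa using h1

/-- a group of order `3 ^ a r`: every element centralises the Sylow `r`-subgroup -/
theorem central_of_card {L : Type*} [Group L] [Finite L] {r m : ℕ} [hr : Fact r.Prime]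
    (hL : ∀ t : ℕ, t.Prime → t ∣ Nat.card L → t = 3 ∨ t = r) (h3 : ¬ 3 ∣ r - 1) (hm : ¬ 3 ^ (m + 1) ∣ Nat.card L)
    (hr2 : ¬ r ^ 2 ∣ Nat.card L) (hord : ∀ k, 1 ≤ k → k ≤ m → ¬ r ∣ 3 ^ k - 1) (hd : r ∣ Nat.card L) :
    ∃ u : L, orderOf u = r ∧ ∀ w : L, w * u = u * w := by
  obtain ⟨u, hu⟩ := exists_prime_orderOf_dvd_card' r hd
  have hu1 : u ≠ 1 := fun h => by
    rw [h, orderOf_one] at hu
    exact hr.out.one_lt.ne hu
  have hUp : IsPGroup r (zpowers u) := IsPGroup.of_card (n := 1) (by rw [Nat.card_zpowers, hu, pow_one])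
  have hi : ¬ r ∣ (zpowers u).index := by
    intro h
    apply hr2
    rw [← (zpowers u).card_mul_index, Nat.card_zpowers, hu, pow_two]
    exact Nat.mul_dvd_mul_left _ h
  let S : Sylow r L := hUp.toSylow hi
  have hS : (S : Subgroup L) = zpowers u := rfl
  -- the number of Sylow subgroups
  have h1 : Nat.card (Sylow r L) ∣ (zpowers u).index := S.card_dvd_index
  have h2 : Nat.card (Sylow r L) ≡ 1 [MOD r] := card_sylow_modEq_one r L
  have h0 : Nat.card (Sylow r L) ≠ 0 := Nat.card_pos.ne'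
  have h4 : Nat.card (Sylow r L) = 3 ^ (Nat.card (Sylow r L)).primeFactorsList.length := by
    refine Nat.eq_prime_pow_of_unique_prime_dvd h0 fun {d} hdp hdd => ?_
    rcases hL d hdp ((hdd.trans h1).trans (index_dvd_card _)) with h | h
    · exact h
    · exfalso
      rw [h] at hdd
      exact hi (hdd.trans h1)
  have hone : Nat.card (Sylow r L) = 1 := by
    set k := (Nat.card (Sylow r L)).primeFactorsList.length with hk
    rcases Nat.eq_zero_or_pos k with hk0 | hk0
    · rw [h4, hk0, pow_zero]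
    · exfalso
      have hkm : k ≤ m := by
        by_contra hlt
        apply hm
        refine (pow_dvd_pow 3 (by omega : m + 1 ≤ k)).trans ?_
        rw [← h4]
        exact h1.trans (index_dvd_card _)
      apply hord k hk0 hkm
      rw [← h4]
      exact (Nat.modEq_iff_dvd' Nat.card_pos).1 h2.symm
  have hsub : Subsingleton (Sylow r L) := (Nat.card_eq_one_iff_unique.1 hone).1
  have hn : (zpowers u).Normal := by
    have h5 : (S : Subgroup L).Normal := S.normal_of_subsingleton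
    exact h5
  have h6 := H47.MeetS.card_normalizer_dvd (G := L) (p := r) hu
  have h7 : Nat.card (normalizer (zpowers u : Set L)) = Nat.card L := by
    rw [normalizer_eq_top_iff.2 hn, card_top]
  rw [h7] at h6
  have hcop : (Nat.card L).Coprime (r - 1) := by
    rw [Nat.coprime_iff_gcd_eq_one]
    by_contra h
    obtain ⟨t, ht, htd⟩ := Nat.exists_prime_and_dvd h
    have h8 := htd.trans (Nat.gcd_dvd_right _ _)
    rcases hL t ht (htd.trans (Nat.gcd_dvd_left _ _)) with rfl | rfl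
    · exact h3 h8
    · have := hr.out.two_le
      have := Nat.le_of_dvd (by omega) h8
      omega
  have h8 := hcop.dvd_of_dvd_mul_right h6
  have h9 : centralizer ({u} : Set L) = ⊤ := by
    apply Subgroup.eq_top_of_card_eq
    exact Nat.dvd_antisymm (Subgroup.card_subgroup_dvd_card _) h8
  refine ⟨u, hu, fun w => ?_⟩
  have h10 : w ∈ centralizer ({u} : Set L) := by rw [h9]; trivial
  exact mem_centralizer_singleton_iff.1 h10

/-- **Commuting elements.** -/
theorem exists_comm {C : Type*} [Group C] [Finite C] [Group.IsSolvable C] {r m : ℕ} [hr : Fact r.Prime]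
    (h3 : ¬ 3 ∣ r - 1) (hm : ¬ 3 ^ (m + 1) ∣ Nat.card C) (hr2 : ¬ r ^ 2 ∣ Nat.card C)
    (hord : ∀ k, 1 ≤ k → k ≤ m → ¬ r ∣ 3 ^ k - 1) (hd : r ∣ Nat.card C) {w : C} (hw : orderOf w = 3) :
    ∃ u : C, orderOf u = r ∧ w * u = u * w := by
  obtain ⟨L, hL, hK⟩ := exists_hall (G := C) fun t => t = 3 ∨ t = r
  obtain ⟨g, hg⟩ := hK (zpowers w) (fun t ht h => by
    rw [Nat.card_zpowers, hw] at h
    exact Or.inl ((Nat.prime_dvd_prime_iff_eq ht Nat.prime_three).1 h))
  have hwL : g * w * g⁻¹ ∈ L := hg w (mem_zpowers w)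
  obtain ⟨u0, hu0⟩ := exists_prime_orderOf_dvd_card' r hd
  obtain ⟨k, hk⟩ := hK (zpowers u0) (fun t ht h => by
    rw [Nat.card_zpowers, hu0] at h
    exact Or.inr ((Nat.prime_dvd_prime_iff_eq ht hr.out).1 h))
  have hrL : r ∣ Nat.card L := by
    have h1 : orderOf (⟨k * u0 * k⁻¹, hk u0 (mem_zpowers u0)⟩ : L) = r := by
      rw [Subgroup.orderOf_mk, ← hu0]
      exact MulEquiv.orderOf_eq (MulAut.conj k) u0
    rw [← h1]
    exact orderOf_dvd_natCard _
  have hdvd : Nat.card L ∣ Nat.card C := Subgroup.card_subgroup_dvd_card L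
  obtain ⟨u, hu, huc⟩ := central_of_card (L := L) hL h3 (fun h => hm (h.trans hdvd)) (fun h => hr2 (h.trans hdvd)) hord
    hrL
  refine ⟨g⁻¹ * (u : C) * g, ?_, ?_⟩
  · rw [← hu, ← Subgroup.orderOf_coe]
    have h1 : g⁻¹ * (u : C) * g = MulAut.conj g⁻¹ (u : C) := by rw [MulAut.conj_apply, inv_inv]
    rw [h1]
    exact MulEquiv.orderOf_eq (MulAut.conj g⁻¹) _
  · have h1 : (g * w * g⁻¹) * (u : C) = u * (g * w * g⁻¹) := congrArg Subtype.val (huc ⟨_, hwL⟩)
    calc w * (g⁻¹ * (u : C) * g) = g⁻¹ * ((g * w * g⁻¹) * u) * g := by group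
      _ = g⁻¹ * (u * (g * w * g⁻¹)) * g := by rw [h1]
      _ = g⁻¹ * (u : C) * g * w := by group

/-- powers of primes dividing an index -/
theorem pow_dvd_index' {G : Type*} [Group G] [Finite G] (A : Subgroup G) {r a b : ℕ} (hr : r.Prime)
    (hG : r ^ (a + b) ∣ Nat.card G) (hA : ¬ r ^ (b + 1) ∣ Nat.card A) : r ^ a ∣ A.index := by
  have h0 : A.index ≠ 0 := Subgroup.index_ne_zero_of_finite
  by_contra hcon
  rw [← A.card_mul_index] at hG
  have hc0 : Nat.card A ≠ 0 := Nat.card_pos.ne'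
  have := Fact.mk hr
  rw [padicValNat_dvd_iff_le hc0] at hA
  rw [padicValNat_dvd_iff_le h0] at hcon
  rw [padicValNat_dvd_iff_le (mul_ne_zero hc0 h0), padicValNat.mul hc0 h0] at hG
  omega

theorem dvd_index' {G : Type*} [Group G] [Finite G] (A : Subgroup G) {r : ℕ} (hr : r.Prime)
    (hG : r ∣ Nat.card G) (hA : ¬ r ∣ Nat.card A) : r ∣ A.index := by
  have := pow_dvd_index' A (a := 1) (b := 0) hr (by rw [pow_one]; exact hG) (by rw [pow_one]; exact hA)
  rwa [pow_one] at this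

end Cfsg.Agent.H68.MeetSolv
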