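import Cfsg.Agent.H377.SporBThree
import Cfsg.Agent.H411.MThree
import Cfsg.Agent.H68.MeetBaby
import Cfsg.Agent.H68.MeetSolv

/-!
# Trivial Sylow intersections: the Monster, `p = 3` (helper68, S2484)

* `exists_rank_zero` : every element of order 3 commutes with a conjugate of an element `x₀` of order 3 and fixed rank 0 of
  `C(z)` (the argument is helper411's);
* `zero_not_dvd` : the primes not dividing `|C(x₀)|`;
* `odd_not_dvd` : 47, 59, 71 do not divide `|C(y)|` if it is odd;
* `index_three` : the indices of the normalizers.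
-/

set_option autoImplicit false
set_option maxRecDepth 100000

namespace Cfsg.Agent.H68.MeetMonThree

open Cfsg Cfsg.Agent.MonsterX Cfsg.Agent.MonsterX.InstData Cfsg.Agent.MonsterX.MainPack Cfsg.Agent.MonsterU
open Cfsg.Agent.MonsterP Cfsg.Agent.MonsterN Cfsg.Agent.LThree Cfsg.Agent.LThreeMB
open Cfsg.Agent.MonsterX.MainBasic Cfsg.Agent.MonsterX.MainSimple Cfsg.Agent.MonsterX.Model
open Cfsg.Agent.MonsterU.Ch
open Cfsg.Agent.MonsterU.Lam2 (L2)
open Cfsg.Agent.H749
open Cfsg.Spor (Co1)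
open Cfsg.Agent.H68.MeetSolv
open Cfsg.Agent.H47.MeetS.Mon (MG card_MG)
open Subgroup

universe u

local instance : Fact (Nat.Prime 3) := ⟨Nat.prime_three⟩

section chart

variable {G : Type u} [Group G] {Q : Subgroup G} {z : G} {eta : G → L2}
  {pi : Subgroup.centralizer ({z} : Set G) →* Co1}

/-- **The centre of a Sylow 3-subgroup.** -/
theorem exists_rank_zero [Finite G] [IsSimpleGroup G] (h : Chart Q z eta pi) (I : CoOne) (h0 : ClassOf 1)
    (ht : TrNe z pi) (hpair : HasPair z pi)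
    (hex : ∀ x : G, orderOf x = 3 → (∃ v : G, v * v = 1 ∧ v ≠ 1 ∧ v * x = x * v) →
      ∃ g : G, (g * z * g⁻¹) * x = x * (g * z * g⁻¹))
    (hcard : 3 ^ 20 ∣ Nat.card G) :
    ∃ x₀ : Subgroup.centralizer ({z} : Set G), orderOf x₀ = 3 ∧ fr (pi x₀) = 1 ∧
      ¬ 3 ∣ (centralizer ({(x₀ : G)} : Set G)).index := by
  -- the element of fixed rank 12
  obtain ⟨s, hs, hfs, -, -⟩ := I.psu
  obtain ⟨x, hx, hxs⟩ := KPair.exists_order_three h hs
  have hxF : Spor.IsoFi24' (XX (x : G)) := (H411.MThree.iso_of_rank h I hx).2 (by rw [hxs]; exact hfs)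
  have hxo : orderOf (x : G) = 3 := by rw [Subgroup.orderOf_coe]; exact hx
  -- Sylow subgroups
  have hzx : IsPGroup 3 (zpowers (self (x : G))) := isPGroup_zpowers ⟨1, by
    rw [pow_one]
    exact Subtype.ext (by show (x : G) ^ 3 = 1; rw [← hxo, pow_orderOf_eq_one])⟩
  obtain ⟨T, hT⟩ := hzx.exists_le_sylow
  have hxT : self (x : G) ∈ (T : Subgroup _) := hT (mem_zpowers _)
  have hT' : IsPGroup 3 ((T : Subgroup ↥(centralizer ({(x : G)} : Set G))).map (centralizer ({(x : G)} : Set G)).subtype) :=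
    T.2.map _
  obtain ⟨S, hS⟩ := hT'.exists_le_sylow
  -- an element of order 3 of the centre
  have hntS : Nontrivial ↥(S : Subgroup G) := by
    rw [← Finite.one_lt_card_iff_nontrivial]
    have h3 : 3 ∣ Nat.card G := (dvd_pow_self 3 (by norm_num : 20 ≠ 0)).trans hcard
    have h4 : 3 ∣ Nat.card (S : Subgroup G) := S.dvd_card_of_dvd_card h3
    have := Nat.le_of_dvd Nat.card_pos h4
    omega
  have hcn : Nontrivial (center ↥(S : Subgroup G)) := S.2.center_nontrivial
  obtain ⟨k, hk0, hk⟩ := (S.2.to_subgroup (center ↥(S : Subgroup G))).nontrivial_iff_card.1 hcn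
  obtain ⟨d0, hd0⟩ := exists_prime_orderOf_dvd_card' (G := center ↥(S : Subgroup G)) 3 (by
    rw [hk]; exact dvd_pow_self 3 hk0.ne')
  set d : G := ((d0 : ↥(S : Subgroup G)) : G) with hd
  have hn : orderOf d = 3 := by rw [hd, Subgroup.orderOf_coe, Subgroup.orderOf_coe, hd0]
  have hdc : ∀ s ∈ (S : Subgroup G), s * d = d * s := fun s hs =>
    congrArg Subtype.val (mem_center_iff.1 d0.2 ⟨s, hs⟩)
  have hidx : ¬ 3 ∣ (centralizer ({d} : Set G)).index := by
    intro h1
    have h2 : (S : Subgroup G) ≤ centralizer ({d} : Set G) := fun s hs => mem_centralizer_singleton_iff.2 (hdc s hs)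
    exact S.not_dvd_index (h1.trans (index_dvd_of_le h2))
  have hdcard : 3 ^ 20 ∣ Nat.card ↥(centralizer ({d} : Set G)) := by
    refine Nat.Coprime.dvd_of_dvd_mul_right (k := 3 ^ 20) (n := (centralizer ({d} : Set G)).index) ?_ ?_
    · exact Nat.Coprime.pow_left 20 ((Nat.Prime.coprime_iff_not_dvd Nat.prime_three).2 hidx)
    · rw [Subgroup.card_mul_index]; exact hcard
  -- `d` commutes with an involution
  have hdx : d * (x : G) = x * d := (hdc _ (hS ⟨self (x : G), hxT, rfl⟩)).symm
  have hdinv : ∃ v : G, v * v = 1 ∧ v ≠ 1 ∧ v * d = d * v := by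
    have hfX : Finite (XX (x : G)) := Quotient.finite _
    have h1 : ¬ 3 ∣ (centralizer ({mk (x : G) hdx} : Set (XX (x : G)))).index := by
      intro h2
      have h3 : (T : Subgroup ↥(centralizer ({(x : G)} : Set G))).map (QuotientGroup.mk' (Zx (x : G))) ≤
          centralizer ({mk (x : G) hdx} : Set (XX (x : G))) := by
        rintro _ ⟨τ, hτ, rfl⟩
        rw [mem_centralizer_singleton_iff]
        have h4 : τ * ⟨d, mem_centralizer_singleton_iff.2 hdx⟩ = ⟨d, mem_centralizer_singleton_iff.2 hdx⟩ * τ :=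
          Subtype.ext (hdc _ (hS ⟨τ, hτ, rfl⟩))
        exact congrArg (QuotientGroup.mk' (Zx (x : G))) h4
      exact (T.mapSurjective (QuotientGroup.mk'_surjective (Zx (x : G)))).not_dvd_index (h2.trans (index_dvd_of_le h3))
    obtain ⟨τ, h2, h3, h4⟩ := H411.FiCent.exists_inv_of_iso hxF h1
    exact H411.MThree.exists_lift_inv hxo hdx h2 h3 h4
  obtain ⟨g, hg⟩ := hex d hn hdinv
  -- a conjugate of `d` in `C(z)`
  have hd'z : (g⁻¹ * d * g) * z = z * (g⁻¹ * d * g) := by
    calc (g⁻¹ * d * g) * z = g⁻¹ * (d * (g * z * g⁻¹)) * g := by group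
      _ = g⁻¹ * ((g * z * g⁻¹) * d) * g := by rw [hg]
      _ = z * (g⁻¹ * d * g) := by group
  let d' : Subgroup.centralizer ({z} : Set G) := ⟨g⁻¹ * d * g, mem_centralizer_singleton_iff.2 hd'z⟩
  have hgd : g * (d' : G) * g⁻¹ = d := by
    show g * (g⁻¹ * d * g) * g⁻¹ = d
    group
  have hd' : orderOf d' = 3 := by
    rw [← Subgroup.orderOf_coe, ← hn, ← hgd]
    exact (orderOf_injective (MulAut.conj g).toMonoidHom (MulAut.conj g).injective (d' : G)).symm
  have hd'o : orderOf (d' : G) = 3 := by rw [Subgroup.orderOf_coe]; exact hd'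
  have hd'card : 3 ^ 20 ∣ Nat.card ↥(centralizer ({(d' : G)} : Set G)) := by
    obtain ⟨⟨e⟩, -⟩ := exists_XX_equiv hgd
    rw [Nat.card_congr e.toEquiv]
    exact hdcard
  -- the pair
  obtain ⟨x₀, u, g₀, hx₀, hfr₀, huz, hux, hne, hg₀⟩ := hpair
  have h812 : ∀ x : Subgroup.centralizer ({z} : Set G), orderOf x = 3 → (fr (pi x) = 2 ^ 8 ∨ fr (pi x) = 2 ^ 12) →
      IsSimpleGroup (XX (x : G)) ∧ Subgroup.center (XX (x : G)) ≠ ⊤ := fun x hx h2 =>
    ⟨(good_of_inputs h I hx h2).simple, (good_of_inputs h I hx h2).nc⟩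
  have hconj : ∃ k : G, k * (d' : G) * k⁻¹ = x₀ := by
    rcases I.ranks (pi d') (orderOf_pi h hd') with h1 | h1 | h1 | h1
    · obtain ⟨c, hc⟩ := h0 (pi d') (pi x₀) (orderOf_pi h hd') (orderOf_pi h hx₀) h1 hfr₀
      obtain ⟨k, hk⟩ := exists_conj_of_conj h (by rw [← hd', pow_orderOf_eq_one]) (by rw [← hx₀, pow_orderOf_eq_one]) hc
      exact ⟨k, congrArg Subtype.val hk⟩
    · exact conj_six h ht I.ranks I.six h812 hx₀ hfr₀ huz hux hne hg₀ hd' h1
    · exfalso
      obtain ⟨e⟩ := (H411.MThree.iso_of_rank h I hd').1 h1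
      have h2 := H411.MThree.card_cent hd'o ((Nat.card_congr e.toEquiv).trans Cfsg.Agent.S1700.result.2)
      rw [h2] at hd'card
      revert hd'card
      norm_num
    · exfalso
      obtain ⟨e⟩ := (H411.MThree.iso_of_rank h I hd').2 h1
      have h2 := H411.MThree.card_cent hd'o ((Nat.card_congr e.toEquiv).trans Cfsg.Agent.S1698.result.2)
      rw [h2] at hd'card
      revert hd'card
      norm_num
  obtain ⟨k, hk⟩ := hconj
  have hkd : (k * g⁻¹) * d * (k * g⁻¹)⁻¹ = x₀ := by
    rw [← hk, ← hgd]; group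
  refine ⟨x₀, hx₀, hfr₀, ?_⟩
  have h1 : (centralizer ({(x₀ : G)} : Set G)).index = (centralizer ({d} : Set G)).index := by
    obtain ⟨⟨e⟩, -⟩ := exists_XX_equiv hkd
    have h2 := Subgroup.card_mul_index (centralizer ({(x₀ : G)} : Set G))
    have h3 := Subgroup.card_mul_index (centralizer ({d} : Set G))
    rw [Nat.card_congr e.toEquiv] at h3
    exact Nat.eq_of_mul_eq_mul_left Nat.card_pos (h2.trans h3.symm)
  rw [h1]
  exact hidx

end chart

/-! ### The model -/

theorem finite_M : Finite MG := MThirteen.Row.finite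

theorem simple_M : IsSimpleGroup MG := MThirteen.Row.simple

theorem card_dvd {n : ℕ} (h : n ∣ 808017424794512875886459904961710757005754368000000000) : n ∣ Nat.card MG := by
  rw [card_MG]
  exact h

theorem rank_zero : ∃ x₀ : centralizer ({KDone.K.z} : Set MG), orderOf x₀ = 3 ∧
    fr (KChart.pi LThreeB.Row.cent x₀) = 1 ∧ ¬ 3 ∣ (centralizer ({(x₀ : MG)} : Set MG)).index := by
  have := finite_M
  have := simple_M
  refine exists_rank_zero (KChart.chart KDone.lft LThreeB.Row.cent) CoOneFin.coOne LThreeCo1.Ranks.zero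
    MThirteen.Row.trNe MThirteen.Row.hasPair ?_ (card_dvd (by norm_num))
  rintro x hx ⟨v, hv, hv1, hc⟩
  exact LThreeM.FiRow.exists_z_of_comm (by rw [← hx, pow_orderOf_eq_one]) hv hv1 hc.symm

/-- primes not dividing `|C(x)|`, `x` of fixed rank 0 -/
theorem zero_not_dvd {r q : ℕ} [hr' : Fact r.Prime] [Fact q.Prime] (hr3 : r ≠ 3) (hr2 : r ≠ 2) (hqr : q ≠ r)
    (hdiv : ¬ q ∣ r - 1) (hM : ¬ r ^ 2 ∣ 808017424794512875886459904961710757005754368000000000)
    (hq : q ∣ 448345497600) (hr : ¬ r ∣ 448345497600) {x : centralizer ({KDone.K.z} : Set MG)} (hx : orderOf x = 3)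
    (hfr : fr (KChart.pi LThreeB.Row.cent x) = 1) :
    ¬ r ∣ Nat.card ↥(centralizer ({(x : MG)} : Set MG)) := by
  have hfin := finite_M
  have hsim := simple_M
  have h := KChart.chart KDone.lft LThreeB.Row.cent
  obtain ⟨e⟩ := CoOneFin.coOne.suz _ (orderOf_pi h hx) hfr
  have hs := Cfsg.Agent.S1694.result
  have hc : Nat.card (XX (KChart.pi LThreeB.Row.cent x)) = 448345497600 := (Nat.card_congr e.toEquiv).trans hs.2
  refine MThirteen.not_dvd_zero (r := 3) (p := r) (q := q) (m := 1) Nat.prime_three (by decide) hr3 hr2 hqr ?_ ?_ h hx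
    hfr ?_ ?_ ?_ ?_ ?_ ?_
  · intro i h1 h2
    have : i = 1 := by omega
    subst this
    rwa [pow_one]
  · rw [card_MG]
    exact hM
  · intro d hd hc
    exact LThreeMB.isolated h MThirteen.Row.trNe hx hfr d hd hc
  · exact (MulEquiv.isSimpleGroup_congr e).2 hs.1
  · rw [hc]; decide
  · rw [hc]; exact hq
  · rw [hc]; exact hr
  · obtain ⟨k, h1, h2⟩ := MThirteen.Row.exists_sq_z CoOneFin.coOne hx hfr
    exact ⟨k, h2, h1⟩

theorem zero_two {x : centralizer ({KDone.K.z} : Set MG)} (hx : orderOf x = 3)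
    (hfr : fr (KChart.pi LThreeB.Row.cent x) = 1) : ¬ 2 ^ 15 ∣ Nat.card ↥(centralizer ({(x : MG)} : Set MG)) := by
  have hfin := finite_M
  have h := KChart.chart KDone.lft LThreeB.Row.cent
  intro hd
  have hzo : orderOf (zD x) = 2 := by
    rw [← Subgroup.orderOf_coe]
    exact LargeExtra.Base.orderOf_z h.large
  obtain ⟨N, hN, hNo, hsup⟩ := ZStar.exists_core hzo (fun d hd => Subtype.ext
    (LThreeMB.isolated h MThirteen.Row.trNe hx hfr d (mem_centralizer_singleton_iff.1 d.2) (congrArg Subtype.val hd)))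
  have h1 := MeetBaby.dvd_of_odd_core hNo hsup hd
  rw [Nat.card_congr ((LThreeB.centXT' (zD x)).trans (LThreeB.centXT x)).toEquiv] at h1
  have h2 := h1.trans (MeetBaby.card_zero_dvd h (by norm_num) hx hfr)
  have h3 := orderOf_pi h hx
  have hf1 : Finite Co1 := Nat.finite_of_card_ne_zero (by rw [H47.MeetS.Mon.card_co1]; norm_num)
  obtain ⟨e⟩ := CoOneFin.coOne.suz _ h3 hfr
  rw [MeetMon.card_cent_eq, h3, Nat.card_congr e.toEquiv, Cfsg.Agent.S1694.result.2] at h2
  norm_num at h2

instance fact5 : Fact (Nat.Prime 5) := ⟨by norm_num⟩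
instance fact7 : Fact (Nat.Prime 7) := ⟨by norm_num⟩
instance fact11 : Fact (Nat.Prime 11) := ⟨by norm_num⟩
instance fact17 : Fact (Nat.Prime 17) := ⟨by norm_num⟩
instance fact19 : Fact (Nat.Prime 19) := ⟨by norm_num⟩
instance fact23 : Fact (Nat.Prime 23) := ⟨by norm_num⟩
instance fact29 : Fact (Nat.Prime 29) := ⟨by norm_num⟩
instance fact31 : Fact (Nat.Prime 31) := ⟨by norm_num⟩
instance fact41 : Fact (Nat.Prime 41) := ⟨by norm_num⟩
instance fact47 : Fact (Nat.Prime 47) := ⟨by norm_num⟩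
instance fact59 : Fact (Nat.Prime 59) := ⟨by norm_num⟩
instance fact71 : Fact (Nat.Prime 71) := ⟨by norm_num⟩

/-- the primes -/
def rs : List ℕ := [17, 19, 23, 29, 31, 41, 47, 59, 71]

theorem zero_list {x : centralizer ({KDone.K.z} : Set MG)} (hx : orderOf x = 3)
    (hfr : fr (KChart.pi LThreeB.Row.cent x) = 1) {r : ℕ} (hr : r ∈ rs) :
    ¬ r ∣ Nat.card ↥(centralizer ({(x : MG)} : Set MG)) := by
  simp only [rs, List.mem_cons, List.not_mem_nil, or_false] at hr
  rcases hr with rfl | rfl | rfl | rfl | rfl | rfl | rfl | rfl | rfl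
  · exact zero_not_dvd (q := 5) (by norm_num) (by norm_num) (by norm_num) (by norm_num) (by norm_num) (by norm_num)
      (by norm_num) hx hfr
  · exact zero_not_dvd (q := 5) (by norm_num) (by norm_num) (by norm_num) (by norm_num) (by norm_num) (by norm_num)
      (by norm_num) hx hfr
  · exact zero_not_dvd (q := 5) (by norm_num) (by norm_num) (by norm_num) (by norm_num) (by norm_num) (by norm_num)
      (by norm_num) hx hfr
  · exact zero_not_dvd (q := 5) (by norm_num) (by norm_num) (by norm_num) (by norm_num) (by norm_num) (by norm_num)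
      (by norm_num) hx hfr
  · exact zero_not_dvd (q := 7) (by norm_num) (by norm_num) (by norm_num) (by norm_num) (by norm_num) (by norm_num)
      (by norm_num) hx hfr
  · exact zero_not_dvd (q := 7) (by norm_num) (by norm_num) (by norm_num) (by norm_num) (by norm_num) (by norm_num)
      (by norm_num) hx hfr
  · exact zero_not_dvd (q := 5) (by norm_num) (by norm_num) (by norm_num) (by norm_num) (by norm_num) (by norm_num)
      (by norm_num) hx hfr
  · exact zero_not_dvd (q := 5) (by norm_num) (by norm_num) (by norm_num) (by norm_num) (by norm_num) (by norm_num)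
      (by norm_num) hx hfr
  · exact zero_not_dvd (q := 11) (by norm_num) (by norm_num) (by norm_num) (by norm_num) (by norm_num) (by norm_num)
      (by norm_num) hx hfr

theorem card_conj {G : Type*} [Group G] {g x y : G} (h : g * x * g⁻¹ = y) :
    Nat.card (centralizer ({x} : Set G)) = Nat.card (centralizer ({y} : Set G)) := by
  obtain ⟨⟨e⟩, -⟩ := exists_XX_equiv h
  exact Nat.card_congr e.toEquiv

/-- **The elements of order 3 commuting with an involution.** -/
theorem even_cases {y : MG} (hy : orderOf y = 3) (he : ¬ Odd (Nat.card ↥(centralizer ({y} : Set MG)))) :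
    Nat.card (centralizer ({y} : Set MG)) = 3 * 90745943887872000 ∨
      Nat.card (centralizer ({y} : Set MG)) = 3 * 1255205709190661721292800 ∨
      ∃ x : centralizer ({KDone.K.z} : Set MG), orderOf x = 3 ∧ fr (KChart.pi LThreeB.Row.cent x) = 1 ∧
        Nat.card (centralizer ({y} : Set MG)) = Nat.card (centralizer ({(x : MG)} : Set MG)) := by
  have hfin := finite_M
  have hsim := simple_M
  have h := KChart.chart KDone.lft LThreeB.Row.cent
  have I := CoOneFin.coOne
  obtain ⟨g, hg⟩ := LThreeM.FiRow.exists_z_of_even hy he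
  obtain ⟨x', k, hk⟩ := MFive.Model.exists_in ⟨g, hg⟩
  have hx' : orderOf x' = 3 := by
    rw [← Subgroup.orderOf_coe, MFive.Model.orderOf_of_conj hk, hy]
  have hxo : orderOf (x' : MG) = 3 := by rw [Subgroup.orderOf_coe]; exact hx'
  have hc := card_conj hk
  rcases I.ranks _ (orderOf_pi h hx') with h1 | h1 | h1 | h1
  · exact Or.inr (Or.inr ⟨x', hx', h1, hc.symm⟩)
  · obtain ⟨x₀, u, g, hx₀, hfr₀, huz, hux, hne, hg⟩ := MThirteen.Row.hasPair
    obtain ⟨k', hk'⟩ := conj_six h MThirteen.Row.trNe I.ranks I.six (fun x hx h2 => by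
      have := good_of_inputs h I hx h2
      exact ⟨this.simple, this.nc⟩) hx₀ hfr₀ huz hux hne hg hx' h1
    exact Or.inr (Or.inr ⟨x₀, hx₀, hfr₀, hc.symm.trans (card_conj hk')⟩)
  · left
    obtain ⟨e⟩ := (H411.MThree.iso_of_rank h I hx').1 h1
    rw [← hc, H411.MThree.card_cent hxo ((Nat.card_congr e.toEquiv).trans Cfsg.Agent.S1700.result.2)]
  · right; left
    obtain ⟨e⟩ := (H411.MThree.iso_of_rank h I hx').2 h1
    rw [← hc, H411.MThree.card_cent hxo ((Nat.card_congr e.toEquiv).trans Cfsg.Agent.S1698.result.2)]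

/-- `47`, `59`, `71` -/
theorem odd_not_dvd {y : MG} (hy : orderOf y = 3) (ho : Odd (Nat.card ↥(centralizer ({y} : Set MG)))) {r : ℕ}
    [hr : Fact r.Prime] (hrs : r ∈ rs) (h3 : ¬ 3 ∣ r - 1)
    (hM : ¬ r ^ 2 ∣ 808017424794512875886459904961710757005754368000000000)
    (hord : ∀ k, 1 ≤ k → k ≤ 20 → ¬ r ∣ 3 ^ k - 1) : ¬ r ∣ Nat.card ↥(centralizer ({y} : Set MG)) := by
  have hfin := finite_M
  have hsim := simple_M
  intro hd
  obtain ⟨x₀, hx₀, hfr, hi⟩ := rank_zero
  have h20 : 3 ^ 20 ∣ Nat.card ↥(centralizer ({(x₀ : MG)} : Set MG)) := by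
    refine Nat.Coprime.dvd_of_dvd_mul_right (k := 3 ^ 20) (n := (centralizer ({(x₀ : MG)} : Set MG)).index) ?_ ?_
    · exact Nat.Coprime.pow_left 20 ((Nat.Prime.coprime_iff_not_dvd Nat.prime_three).2 hi)
    · rw [Subgroup.card_mul_index]; exact card_dvd (by norm_num)
  have h21 : ¬ 3 ^ (20 + 1) ∣ Nat.card MG := by
    rw [card_MG]
    norm_num
  obtain ⟨g, hg⟩ := H47.MeetS.exists_conj_mem (p := 3) (n := 20) h21 h20 (a := y) (k := 1)
    (by rw [pow_one, ← hy, pow_orderOf_eq_one])
  have hg' := mem_centralizer_singleton_iff.1 hg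
  -- `w = g⁻¹ x₀ g` commutes with `y`
  have hwy : (g⁻¹ * (x₀ : MG) * g) * y = y * (g⁻¹ * (x₀ : MG) * g) := by
    calc (g⁻¹ * (x₀ : MG) * g) * y = g⁻¹ * ((x₀ : MG) * (g * y * g⁻¹)) * g := by group
      _ = g⁻¹ * ((g * y * g⁻¹) * x₀) * g := by rw [hg']
      _ = _ := by group
  have hx₀o : orderOf (x₀ : MG) = 3 := by rw [Subgroup.orderOf_coe]; exact hx₀
  let w : centralizer ({y} : Set MG) := ⟨g⁻¹ * (x₀ : MG) * g, mem_centralizer_singleton_iff.2 hwy⟩
  have hw : orderOf w = 3 := by
    rw [← Subgroup.orderOf_coe, ← hx₀o]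
    show orderOf (g⁻¹ * (x₀ : MG) * g) = _
    have h1 : g⁻¹ * (x₀ : MG) * g = MulAut.conj g⁻¹ (x₀ : MG) := by rw [MulAut.conj_apply, inv_inv]
    rw [h1]
    exact MulEquiv.orderOf_eq (MulAut.conj g⁻¹) _
  have hsol : Group.IsSolvable ↥(centralizer ({y} : Set MG)) := MFive.Row.FT _ ho
  have hdvd : Nat.card ↥(centralizer ({y} : Set MG)) ∣ Nat.card MG := Subgroup.card_subgroup_dvd_card _
  obtain ⟨u, hu, hc⟩ := exists_comm (m := 20) h3 (fun h => h21 (h.trans hdvd))
    (fun h => hM (by rw [← card_MG]; exact h.trans hdvd)) hord hd hw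
  have hcw : ((w : MG)) * (u : MG) = u * w := congrArg Subtype.val hc
  have hrw : r ∣ Nat.card (centralizer ({(w : MG)} : Set MG)) := by
    have h1 : orderOf (⟨(u : MG), mem_centralizer_singleton_iff.2 hcw.symm⟩ : centralizer ({(w : MG)} : Set MG)) = r := by
      rw [Subgroup.orderOf_mk, Subgroup.orderOf_coe, hu]
    rw [← h1]
    exact orderOf_dvd_natCard _
  have hgw : g * (w : MG) * g⁻¹ = x₀ := by
    show g * (g⁻¹ * (x₀ : MG) * g) * g⁻¹ = x₀
    group
  rw [card_conj hgw] at hrw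
  exact zero_list hx₀ hfr hrs hrw

theorem gt_of_mul {c i N m a : ℕ} (h : c * i = N) (hc : c = a) (hlt : a * m < N) : m < i := by
  subst hc
  by_contra hcon
  have h1 : c * i ≤ c * m := Nat.mul_le_mul_left _ (by omega)
  omega

theorem index_three {y : MG} (hy : orderOf y = 3) : 6078832729528464400 < (centralizer ({y} : Set MG)).index := by
  have hfin := finite_M
  have h0 : (centralizer ({y} : Set MG)).index ≠ 0 := Subgroup.index_ne_zero_of_finite
  have hmul := (centralizer ({y} : Set MG)).card_mul_index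
  rw [card_MG] at hmul
  by_cases ho : Odd (Nat.card ↥(centralizer ({y} : Set MG)))
  · have h2 : 2 ^ 46 ∣ (centralizer ({y} : Set MG)).index := by
      refine pow_dvd_index' _ (a := 46) (b := 0) Nat.prime_two (card_dvd (by norm_num)) ?_
      rw [zero_add, pow_one, ← even_iff_two_dvd, Nat.not_even_iff_odd]
      exact ho
    have h47 : 47 ∣ (centralizer ({y} : Set MG)).index :=
      dvd_index' _ (by norm_num) (card_dvd (by norm_num)) (odd_not_dvd hy ho (by decide) (by norm_num) (by norm_num)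
        (fun k h1 h2 => by interval_cases k <;> norm_num))
    have h59 : 59 ∣ (centralizer ({y} : Set MG)).index :=
      dvd_index' _ (by norm_num) (card_dvd (by norm_num)) (odd_not_dvd hy ho (by decide) (by norm_num) (by norm_num)
        (fun k h1 h2 => by interval_cases k <;> norm_num))
    have h71 : 71 ∣ (centralizer ({y} : Set MG)).index :=
      dvd_index' _ (by norm_num) (card_dvd (by norm_num)) (odd_not_dvd hy ho (by decide) (by norm_num) (by norm_num)
        (fun k h1 h2 => by interval_cases k <;> norm_num))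
    have h3 : 2 ^ 46 * (47 * (59 * 71)) ∣ (centralizer ({y} : Set MG)).index :=
      Nat.Coprime.mul_dvd_of_dvd_of_dvd (by norm_num) h2 (Nat.Coprime.mul_dvd_of_dvd_of_dvd (by norm_num) h47
        (Nat.Coprime.mul_dvd_of_dvd_of_dvd (by norm_num) h59 h71))
    exact lt_of_lt_of_le (by norm_num) (Nat.le_of_dvd (Nat.pos_of_ne_zero h0) h3)
  · rcases even_cases hy ho with h1 | h1 | ⟨x, hx, hfr, h1⟩
    · exact gt_of_mul hmul h1 (by norm_num)
    · exact gt_of_mul hmul h1 (by norm_num)
    · have hnd : ∀ r ∈ rs, ¬ r ∣ Nat.card (centralizer ({y} : Set MG)) := fun r hr => by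
        rw [h1]; exact zero_list hx hfr hr
      have h2 : 2 ^ 32 ∣ (centralizer ({y} : Set MG)).index := by
        refine pow_dvd_index' _ (a := 32) (b := 14) Nat.prime_two (card_dvd (by norm_num)) ?_
        rw [h1]
        exact zero_two hx hfr
      have hr : ∀ r ∈ rs, r.Prime → r ∣ 808017424794512875886459904961710757005754368000000000 →
          r ∣ (centralizer ({y} : Set MG)).index := fun r hr hp hd =>
        dvd_index' _ hp (card_dvd hd) (hnd r hr)
      have h3 : 2 ^ 32 * (47 * (59 * (71 * (41 * (31 * 29))))) ∣ (centralizer ({y} : Set MG)).index :=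
        Nat.Coprime.mul_dvd_of_dvd_of_dvd (by norm_num) h2
          (Nat.Coprime.mul_dvd_of_dvd_of_dvd (by norm_num) (hr 47 (by decide) (by norm_num) (by norm_num))
          (Nat.Coprime.mul_dvd_of_dvd_of_dvd (by norm_num) (hr 59 (by decide) (by norm_num) (by norm_num))
          (Nat.Coprime.mul_dvd_of_dvd_of_dvd (by norm_num) (hr 71 (by decide) (by norm_num) (by norm_num))
          (Nat.Coprime.mul_dvd_of_dvd_of_dvd (by norm_num) (hr 41 (by decide) (by norm_num) (by norm_num))
          (Nat.Coprime.mul_dvd_of_dvd_of_dvd (by norm_num) (hr 31 (by decide) (by norm_num) (by norm_num))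
            (hr 29 (by decide) (by norm_num) (by norm_num)))))))
      exact lt_of_lt_of_le (by norm_num) (Nat.le_of_dvd (Nat.pos_of_ne_zero h0) h3)

theorem meetIn_model : MeetB.MeetIn 3 MG := by
  have hfin := finite_M
  refine MeetB.MeetIn.of_index (n := 20) (m := 6078832729528464401) ?_ (fun y hy => index_three hy) (by norm_num)
  rw [card_MG]
  norm_num

theorem autInner_model : CpAut.AutInner 3 MG := fun α _ =>
  KFacts.MonsterE.inner_model KDone.mGroup KDone.mRep KDone.mLat Uncond.mOrbit Instance.mTrans α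

theorem meetIn_M {G : Type*} [Group G] (h : Spor.IsoM G) : MeetB.MeetIn 3 G := by
  obtain ⟨e⟩ := h
  obtain ⟨f⟩ := MonsterP.Equiv.equiv
  exact meetIn_model.congr (e.trans f).symm

theorem meet3_M {G : Type*} [Group G] [Finite G] [IsSimpleGroup G] (h : Spor.IsoM G) :
    Cfsg.Agent.H903.SylMeet.Meet 3 G := by
  have hin := meetIn_M h
  have hsp : IsSporadicGroup G := by unfold IsSporadicGroup; tauto
  refine MeetB.MeetIn.meet ?_ (H47.MeetS.not_comm_spor hsp) hin
  obtain ⟨e⟩ := h
  obtain ⟨f⟩ := MonsterP.Equiv.equiv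
  exact CpAut.AutInner.congr (e.trans f).symm autInner_model

end Cfsg.Agent.H68.MeetMonThree
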