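import Cfsg.Agent.Lib.PackMatLin
import Cfsg.Agent.H68.MeetBase

/-!
# Centralisers of pairs in groups of packed matrices (helper68, S5762)

* `scalar_of_comb` : let `N` be a combination of words in the generators, with left null space spanned by one vector `v`
  (certificate `N * B + COL * ROW = 1`), and let images of `v` under words be the rows of an invertible matrix. Then every
  matrix commuting with the generators is a scalar.
* `MeetIn.of_center` : `z` centralised by a Sylow `p`-subgroup, `C(z) ∩ C(x⁻¹ z x) = 1`.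
-/

set_option autoImplicit false

namespace Cfsg.Agent.H68.MeetPack

open Cfsg.Agent.Lib.PackMat Cfsg.Agent.Lib.PackMatGroup Cfsg.Agent.Lib.PackMatMul Cfsg.Agent.Lib.PackMatOrbit
  Cfsg.Agent.Lib.PackMatLin Cfsg.Agent.H68.MeetB

section

variable {C : Cfg}

/-- the terms of a combination of words -/
def cwTs (L : List ℕ) (ts : List (ℕ × List ℕ)) : List (ℕ × List ℕ) :=
  List.rec [] (fun q _ ih => (q.1, cw L q.2) :: ih) ts

/-- the terms of a combination of words, times a matrix -/
def mulTs (L : List ℕ) (B : ℕ) (ts : List (ℕ × List ℕ)) : List (ℕ × List ℕ) :=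
  List.rec [] (fun q _ ih => (q.1, cw L q.2 ++ [B]) :: ih) ts

theorem cwTs_cons (L : List ℕ) (q : ℕ × List ℕ) (ts : List (ℕ × List ℕ)) :
    cwTs L (q :: ts) = (q.1, cw L q.2) :: cwTs L ts := rfl

theorem mulTs_cons (L : List ℕ) (B : ℕ) (q : ℕ × List ℕ) (ts : List (ℕ × List ℕ)) :
    mulTs L B (q :: ts) = (q.1, cw L q.2 ++ [B]) :: mulTs L B ts := rfl

/-- the combination of words -/
def comb (LG : List (U C)) (ts : List (ℕ × List ℕ)) : M C :=
  (ts.map fun q => (q.1 : ZMod C.p) • ((evG LG q.2 : U C) : M C)).sum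

theorem comb_cons (LG : List (U C)) (q : ℕ × List ℕ) (ts : List (ℕ × List ℕ)) :
    comb LG (q :: ts) = (q.1 : ZMod C.p) • ((evG LG q.2 : U C) : M C) + comb LG ts := by
  unfold comb
  rw [List.map_cons, List.sum_cons]

theorem linM_cwTs {LG : List (U C)} {L : List ℕ} (h : List.Forall₂ (Codes C) LG L) {ts : List (ℕ × List ℕ)}
    (hts : ∀ q ∈ ts, okW L.length q.2 = true) : linM C (cwTs L ts) = comb LG ts := by
  induction ts with
  | nil => rfl
  | cons q ts ih =>
    rw [cwTs_cons, linM_cons, comb_cons, ih fun q hq => hts q (List.mem_cons_of_mem _ hq)]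
    rw [cw_prod h (hts q List.mem_cons_self)]

theorem linM_mulTs {LG : List (U C)} {L : List ℕ} (h : List.Forall₂ (Codes C) LG L) {ts : List (ℕ × List ℕ)}
    (hts : ∀ q ∈ ts, okW L.length q.2 = true) (B : ℕ) : linM C (mulTs L B ts) = comb LG ts * mat C B := by
  induction ts with
  | nil =>
    change (0 : M C) = (0 : M C) * mat C B
    rw [zero_mul]
  | cons q ts ih =>
    rw [mulTs_cons, linM_cons, comb_cons, ih fun q hq => hts q (List.mem_cons_of_mem _ hq), add_mul]
    rw [List.map_append, List.prod_append, cw_prod h (hts q List.mem_cons_self)]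
    simp only [List.map_cons, List.map_nil, List.prod_cons, List.prod_nil, mul_one, smul_mul_assoc]

theorem comm_evG {LG : List (U C)} {g : M C} (hg : ∀ u ∈ LG, (u : M C) * g = g * (u : M C)) (w : List ℕ) :
    ((evG LG w : U C) : M C) * g = g * ((evG LG w : U C) : M C) := by
  let K : Subgroup (U C) :=
    { carrier := {u | (u : M C) * g = g * (u : M C)}
      one_mem' := by simp
      mul_mem' := by
        intro a b ha hb
        change (a : M C) * g = g * (a : M C) at ha
        change (b : M C) * g = g * (b : M C) at hb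
        change ((a * b : U C) : M C) * g = g * ((a * b : U C) : M C)
        rw [Units.val_mul, mul_assoc, hb, ← mul_assoc, ha, mul_assoc]
      inv_mem' := by
        intro a ha
        change (a : M C) * g = g * (a : M C) at ha
        change ((a⁻¹ : U C) : M C) * g = g * ((a⁻¹ : U C) : M C)
        calc ((a⁻¹ : U C) : M C) * g = ((a⁻¹ : U C) : M C) * (g * (a : M C)) * ((a⁻¹ : U C) : M C) := by
              rw [mul_assoc, mul_assoc, Units.mul_inv, mul_one]
          _ = ((a⁻¹ : U C) : M C) * ((a : M C) * g) * ((a⁻¹ : U C) : M C) := by rw [ha]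
          _ = g * ((a⁻¹ : U C) : M C) := by rw [← mul_assoc, Units.inv_mul, one_mul] }
  exact evG_mem K (LG := LG) hg w

theorem comm_comb {LG : List (U C)} {g : M C} (hg : ∀ u ∈ LG, (u : M C) * g = g * (u : M C))
    (ts : List (ℕ × List ℕ)) : comb LG ts * g = g * comb LG ts := by
  induction ts with
  | nil =>
    change (0 : M C) * g = g * (0 : M C)
    rw [zero_mul, mul_zero]
  | cons q ts ih =>
    rw [comb_cons, add_mul, mul_add, ih, smul_mul_assoc, mul_smul_comm, comm_evG hg]

/-- **Centralisers are scalar.**  `ts` : a combination of words with one-dimensional left null space. -/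
theorem scalar_of_comb (hC : C.good = true) (hp : 1 < C.p) {LG : List (U C)} {L : List ℕ}
    (h : List.Forall₂ (Codes C) LG L) {ts : List (ℕ × List ℕ)} (hts : ∀ q ∈ ts, okW L.length q.2 = true)
    {B COL ROW v : ℕ} (hcol : COL < 2 ^ (C.s * C.n)) (hrow : okG C ROW = true)
    (hlin : linM C ((1, [COL, ROW]) :: (C.p - 1, []) :: mulTs L B ts) = 0)
    (hv : run C [ROW] (unitRow C 1 0) = v)
    (hb : csum (cwTs L ts) * (C.p - 1) ≤ C.n * ((C.p - 1) * (2 ^ C.w - 1)))
    (hnul : redR C (lcK (run C) (cwTs L ts) v) = 0)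
    (hokts : okTs C (cwTs L ts) = true)
    {V W : ℕ} (hV : okG C V = true) (hW : okG C W = true) {ws : List (List ℕ)} (hspin : spinC C L V v ws = true)
    (hinv : checkScalar C [W, V] 1 0 C.n = true)
    (g : M C) (hgc : ∀ u ∈ LG, (u : M C) * g = g * (u : M C)) :
    ∃ c : ZMod C.p, g = c • (1 : M C) := by
  have hg := good_of_check hC
  obtain ⟨u1, u2⟩ := unitRow_ok hg hp hg.hn
  have hvok : OkR C v := by
    rw [← hv]
    exact (run_spec hg [ROW] (by simpa using hrow) u1).1
  -- a vector killed by the combination is a multiple of `v`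
  have key : ∀ u : Fin C.n → ZMod C.p, Matrix.vecMul u (comb LG ts) = 0 →
      ∃ c : ZMod C.p, u = c • rowVec C v := by
    intro u hu
    rw [linM_cons, linM_cons, linM_mulTs h hts] at hlin
    have h1 := congrArg (Matrix.vecMul u) hlin
    rw [Matrix.vecMul_zero, Matrix.vecMul_add, Matrix.vecMul_add, ← Matrix.vecMul_vecMul, hu, Matrix.zero_vecMul,
      add_zero, cast_pred hp] at h1
    simp only [List.map_cons, List.map_nil, List.prod_cons, List.prod_nil, mul_one, Nat.cast_one, one_smul,
      neg_smul, Matrix.vecMul_neg, Matrix.vecMul_one] at h1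
    rw [← Matrix.vecMul_vecMul, ← sub_eq_add_neg] at h1
    obtain ⟨c, hc⟩ := vecMul_col hcol hg.hn u
    refine ⟨c, ?_⟩
    rw [hc, Matrix.smul_vecMul] at h1
    obtain ⟨k1, k2⟩ := unitRow_ok hg hp hg.hn
    obtain ⟨-, k3⟩ := run_spec hg [ROW] (by simpa using hrow) k1
    rw [hv, k2, Nat.cast_one, one_smul] at k3
    rw [k3]
    simp only [List.map_cons, List.map_nil, List.prod_cons, List.prod_nil, mul_one]
    exact (sub_eq_zero.mp h1).symm
  -- `v` is killed by the combination
  have hv0 : Matrix.vecMul (rowVec C v) (comb LG ts) = 0 := by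
    have h1 := row_lin hg (cwTs L ts) (okTs_spec hokts) hb hvok
    rw [hnul, rowVec_zero, linM_cwTs h hts] at h1
    exact h1.symm
  obtain ⟨c, hc⟩ := key (Matrix.vecMul (rowVec C v) g) (by
    rw [Matrix.vecMul_vecMul, ← comm_comb hgc, ← Matrix.vecMul_vecMul, hv0, Matrix.zero_vecMul])
  refine ⟨c, ?_⟩
  -- the rows of `V`
  unfold spinC at hspin
  rcases h1 : Nat.beq ws.length C.n with _ | _
  · rw [h1] at hspin; simp at hspin
  rw [h1, cond_true] at hspin
  rcases h2 : okWs L.length ws with _ | _
  · rw [h2] at hspin; simp at hspin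
  rw [h2, cond_true, withR_eq, force_eq] at hspin
  have hlen := Nat.eq_of_beq_eq_true h1
  have k1 := spinLoop_spec ws 0 (by omega) hspin
  have hrowV : mat C V * g = c • mat C V := by
    apply vecMul_ext
    intro i
    obtain ⟨w, hw, hw2⟩ := k1 i (Nat.zero_le _) (by have := i.2; omega)
    obtain ⟨i1, i2⟩ := unitRow_ok hg hp i.2
    obtain ⟨-, i3⟩ := run_spec hg [V] (by simpa using hV) i1
    obtain ⟨-, i4⟩ := vecMul_word hC h (okWs_spec h2 w hw) hvok
    rw [hw2, i4, i2, Nat.cast_one, one_smul] at i3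
    simp only [List.map_cons, List.map_nil, List.prod_cons, List.prod_nil, mul_one] at i3
    rw [← Matrix.vecMul_vecMul, ← i3, Matrix.vecMul_vecMul, comm_evG hgc, ← Matrix.vecMul_vecMul, hc,
      Matrix.smul_vecMul, Matrix.vecMul_smul, ← i3]
  have hWV : mat C W * mat C V = 1 := mat_mul_eq_one hC hp hW hV hinv
  calc g = (mat C W * mat C V) * g := by rw [hWV, one_mul]
    _ = mat C W * (c • mat C V) := by rw [mul_assoc, hrowV]
    _ = c • (1 : M C) := by rw [Matrix.mul_smul, hWV]

end

section

open Subgroup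

/-- **The criterion**: a Sylow `p`-subgroup centralises `z`, and `C(z) ∩ C(x⁻¹ z x) = 1`. -/
theorem MeetIn.of_center {T : Type*} [Group T] [Finite T] {p : ℕ} [Fact p.Prime] {z x : T}
    (P : Subgroup T) (hP : IsPGroup p P) (hi : ¬ p ∣ P.index) (hPz : P ≤ centralizer ({z} : Set T))
    (h : ∀ y : T, y * z = z * y → y * (x⁻¹ * z * x) = (x⁻¹ * z * x) * y → y = 1) : MeetIn p T := by
  refine MeetIn.of_one P hP hi ⟨x, fun y hy hxy => ?_⟩
  apply h
  · exact mem_centralizer_singleton_iff.1 (hPz hy)
  · have h1 := mem_centralizer_singleton_iff.1 (hPz hxy)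
    calc y * (x⁻¹ * z * x) = x⁻¹ * (x * y * x⁻¹ * z) * x := by group
      _ = x⁻¹ * (z * (x * y * x⁻¹)) * x := by rw [h1]
      _ = x⁻¹ * z * x * y := by group

/-- The criterion, by the index of `C(z)`. -/
theorem MeetIn.of_center' {T : Type*} [Group T] [Finite T] {p : ℕ} [hp : Fact p.Prime] {z x : T}
    (hi : ¬ p ∣ (centralizer ({z} : Set T)).index)
    (h : ∀ y : T, y * z = z * y → y * (x⁻¹ * z * x) = (x⁻¹ * z * x) * y → y = 1) : MeetIn p T := by
  obtain ⟨S⟩ : Nonempty (Sylow p (centralizer ({z} : Set T))) := inferInstance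
  refine MeetIn.of_center (z := z) (x := x) ((S : Subgroup (centralizer ({z} : Set T))).map
    (centralizer ({z} : Set T)).subtype) (S.isPGroup'.map _) ?_ ?_ h
  · rw [index_map_subtype]
    intro h1
    rcases hp.out.dvd_mul.1 h1 with h2 | h2
    · exact S.not_dvd_index h2
    · exact hi h2
  · rintro _ ⟨y, -, rfl⟩
    exact y.2

end

end Cfsg.Agent.H68.MeetPack
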