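import Mathlib
import Cfsg.Agent.H68.MeetBase
import Cfsg.Agent.CpAutRuFive.Main
import Cfsg.Agent.S1627

/-!
# Sylow 5-subgroups of the Rudvalis group: trivial intersections (helper68)
-/

set_option autoImplicit false

namespace Cfsg.Agent.H68.MeetRu

open Subgroup Cfsg Cfsg.Agent.H68.MeetB Cfsg.Agent.H903.SylMeet Cfsg.Agent.SporadicB

theorem card_H : Nat.card RuOrder.H = 145926144000 := by
  rw [← Nat.card_congr RuLat.Main.equiv.toEquiv, Cfsg.Agent.S1627.result.2.1]

theorem meetIn_H : MeetIn 5 RuOrder.H := by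
  have : Fact (Nat.Prime 5) := ⟨by norm_num⟩
  have := Cfsg.Agent.CpAutRuFive.finite_H
  refine MeetIn.of_centralizer (n := 3) (b := 8906625) (by rw [card_H]; norm_num) (fun y hy => ?_)
    (by rw [card_H]; norm_num)
  rcases Cfsg.Agent.CpAutRuFive.card_cases hy with h | h
  · apply Nat.le_of_dvd (by norm_num)
    have h1 : Nat.card ↥(centralizer ({y} : Set RuOrder.H)) ∣ 2 ^ 14 * 8906625 := by
      have h2 := card_subgroup_dvd_card (centralizer ({y} : Set RuOrder.H))
      rw [card_H] at h2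
      exact h2
    exact (Nat.Coprime.pow_right 14 h.coprime_two_right).dvd_of_dvd_mul_left h1
  · exact h.trans (by norm_num)

theorem meetIn_Ru {G : Type*} [Group G] (h : Spor.IsoRu G) : MeetIn 5 G := by
  obtain ⟨e⟩ := h
  exact meetIn_H.congr (e.trans RuLat.Main.equiv).symm

theorem meet5_Ru {G : Type*} [Group G] [Finite G] [IsSimpleGroup G] (h : Spor.IsoRu G) : Meet 5 G := by
  have : Fact (Nat.Prime 5) := ⟨by norm_num⟩
  refine MeetIn.meet ?_ ?_ (meetIn_Ru h)
  · obtain ⟨e⟩ := h
    exact (show Cfsg.Agent.CpAut.AutInner 5 RuOrder.H from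
      fun x _ => Cfsg.Agent.OddHalf.Table.OutRu.inner x).congr (e.trans RuLat.Main.equiv).symm
  · obtain ⟨e⟩ := h
    apply not_comm_of_card
    rw [Nat.card_congr (e.trans RuLat.Main.equiv).toEquiv, card_H]
    norm_num

end Cfsg.Agent.H68.MeetRu
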