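import Cfsg.Agent.Th.OrbitChain

/-!
# Commutants in the 248-dimensional representation of Th (helper68, S2484)

* `addM` : sum of packed matrices;
* `scalar_of` : `A`, `B` packed matrices, the left null space of `N = A B + B A + 1` is spanned by `v` (certificate
  `N * K + e_0 v = 1`), the rows of `V` are obtained from `v` by multiplication by `A` and `B`, `W V = 1`: every matrix
  commuting with `A` and `B` is a scalar.
-/

set_option autoImplicit false

namespace Cfsg.Agent.H68.MeetThTool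

open Cfsg.Agent.Th.MatEngine Cfsg.Agent.Th.Words248 Cfsg.Agent.Th.OrbitChain

/-- sum of packed matrices -/
noncomputable def addM (x y : ℕ) : ℕ := red 11 3 ones 1 (Nat.add x y)

theorem dg_lt_three {x : ℕ} (hx : Ok x) {q : ℕ} (hq : q < 248 * 248) : dg 11 x q < 3 := by
  have h1 : q / 248 < 248 := Nat.div_lt_of_lt_mul hq
  have h2 : q % 248 < 248 := Nat.mod_lt _ (by norm_num)
  have h3 := hx.2 _ h1 _ h2
  rw [ent_eq_dg _ _ _ _ _ h2, Nat.div_add_mod] at h3
  exact h3

theorem addM_eq {x y : ℕ} (hx : Ok x) (hy : Ok y) :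
    addM x y = enc 11 (fun q => (dg 11 x q + dg 11 y q) % 3) (248 * 248) := by
  unfold addM
  have hx' : x < 2 ^ (11 * (248 * 248)) := by have := hx.1; rwa [mul_assoc] at this
  have hy' : y < 2 ^ (11 * (248 * 248)) := by have := hy.1; rwa [mul_assoc] at this
  have h1 : Nat.add x y = enc 11 (fun q => dg 11 x q + dg 11 y q) (248 * 248) := by
    rw [← enc_add, enc_dg 11 _ x hx', enc_dg 11 _ y hy']
    rfl
  rw [h1, ones_eq]
  apply red_enc 11 3 (248 * 248) 1 _ (by norm_num) (by norm_num) (by norm_num)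
  · intro q hq
    have a1 := dg_lt_three hx hq
    have a2 := dg_lt_three hy hq
    omega
  · intro q hq
    have a1 := dg_lt_three hx hq
    have a2 := dg_lt_three hy hq
    omega

theorem addM_spec {x y : ℕ} (hx : Ok x) (hy : Ok y) : Ok (addM x y) ∧ mat (addM x y) = mat x + mat y := by
  rw [addM_eq hx hy]
  have hlt : ∀ q < 248 * 248, (dg 11 x q + dg 11 y q) % 3 < 2 ^ 11 := fun q _ => by omega
  have hent : ∀ i < 248, ∀ j < 248, ent 11 248 (enc 11 (fun q => (dg 11 x q + dg 11 y q) % 3) (248 * 248)) i j =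
      (ent 11 248 x i j + ent 11 248 y i j) % 3 := by
    intro i hi j hj
    have hq : 248 * i + j < 248 * 248 := by omega
    rw [ent_eq_dg _ _ _ _ _ hj, ent_eq_dg _ _ _ _ _ hj, ent_eq_dg _ _ _ _ _ hj, dg_enc 11 _ _ hlt _ hq]
  refine ⟨⟨?_, ?_⟩, ?_⟩
  · have := enc_lt 11 _ (248 * 248) hlt
    rwa [← mul_assoc] at this
  · intro i hi j hj
    rw [hent i hi j hj]
    exact Nat.mod_lt _ (by norm_num)
  · ext i j
    change ((ent 11 248 _ i j : ℕ) : ZMod 3) = ((ent 11 248 x i j : ℕ) : ZMod 3) + ((ent 11 248 y i j : ℕ) : ZMod 3)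
    rw [hent i i.2 j j.2, ZMod.natCast_mod, Nat.cast_add]

theorem mat_row (R : ℕ) (i : Fin 248) : mat R i = row R i := rfl

theorem dg_zero_of {bn V v : ℕ} (h : Nat.beq (Nat.mod V (Nat.pow 2 bn)) v = true) : dg bn V 0 = dg bn v 0 := by
  have h1 := Nat.eq_of_beq_eq_true h
  rw [pow_conv] at h1
  change V % 2 ^ bn = v at h1
  unfold dg
  rw [Nat.mul_zero, pow_zero, Nat.div_one, Nat.div_one, h1, ← h1, Nat.mod_mod]

/-- check of the rows: row `i` of `V` is row `p` of `X` (`b = false`) or of `Y` (`b = true`), with `p < i` -/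
noncomputable def chkPar (bn rmv V X Y : ℕ) (l : List (ℕ × Bool)) (i : ℕ) : Bool :=
  List.rec (motive := fun _ => ℕ → Bool) (fun _ => true)
    (fun q _ ih i => Bool.and (Bool.and (Nat.blt q.1 i)
      (Nat.beq (Nat.mod (Nat.shiftRight V (Nat.mul bn i)) rmv)
        (Nat.mod (Nat.shiftRight (cond q.2 Y X) (Nat.mul bn q.1)) rmv))) (ih (Nat.succ i))) l i

theorem chkPar_cons (bn rmv V X Y : ℕ) (q : ℕ × Bool) (l : List (ℕ × Bool)) (i : ℕ) :
    chkPar bn rmv V X Y (q :: l) i = Bool.and (Bool.and (Nat.blt q.1 i)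
      (Nat.beq (Nat.mod (Nat.shiftRight V (Nat.mul bn i)) rmv)
        (Nat.mod (Nat.shiftRight (cond q.2 Y X) (Nat.mul bn q.1)) rmv))) (chkPar bn rmv V X Y l (Nat.succ i)) := rfl

theorem chkPar_spec {bn rmv V X Y : ℕ} (hrm : rmv = 2 ^ bn) (l : List (ℕ × Bool)) (i : ℕ)
    (h : chkPar bn rmv V X Y l i = true) (k : ℕ) (hk : k < l.length) :
    ∃ q : ℕ × Bool, q.1 < i + k ∧ dg bn V (i + k) = dg bn (cond q.2 Y X) q.1 := by
  induction l generalizing i k with
  | nil => simp at hk
  | cons q l ih =>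
    rw [chkPar_cons, Bool.and_eq_true, Bool.and_eq_true] at h
    obtain ⟨⟨h1, h2⟩, h3⟩ := h
    cases k with
    | zero =>
      refine ⟨q, Nat.le_of_ble_eq_true h1, ?_⟩
      have h4 := Nat.eq_of_beq_eq_true h2
      rw [hrm] at h4
      change (V >>> (bn * i)) % 2 ^ bn = (cond q.2 Y X >>> (bn * q.1)) % 2 ^ bn at h4
      rw [Nat.shiftRight_eq_div_pow, Nat.shiftRight_eq_div_pow] at h4
      exact h4
    | succ k =>
      obtain ⟨r, hr1, hr2⟩ := ih (Nat.succ i) h3 k (by simpa using hk)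
      have e : Nat.succ i + k = i + (k + 1) := by omega
      rw [e] at hr1 hr2
      exact ⟨r, hr1, hr2⟩

/-- check of the rows of `V`, with `V A` and `V B` evaluated once -/
noncomputable def spin (A B V : ℕ) (l : List (ℕ × Bool)) : Bool :=
  force V fun V' => force (mul V' A) fun X => force (mul V' B) fun Y => chkPar 2728 rm V' X Y l 1

theorem spin_eq (A B V : ℕ) (l : List (ℕ × Bool)) : spin A B V l = chkPar 2728 rm V (mul V A) (mul V B) l 1 := by
  unfold spin
  rw [force_eq, force_eq, force_eq]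

/-- the packed matrix with row `v` in position 0 -/
theorem row_zero_of {v : ℕ} (hv : VOk v) : Ok v ∧ mat v 0 = vec v ∧ ∀ i : Fin 248, i ≠ 0 → mat v i = 0 := by
  obtain ⟨h1, h2⟩ := hv
  have h0 : v < 2 ^ (11 * 248) := by simpa using h1
  have hi : ∀ i, i ≠ 0 → dg (11 * 248) v i = 0 := by
    intro i hi
    unfold dg
    rw [Nat.div_eq_of_lt, Nat.zero_mod]
    refine lt_of_lt_of_le h0 (Nat.pow_le_pow_right (by norm_num) ?_)
    exact Nat.le_mul_of_pos_right _ (Nat.pos_of_ne_zero hi)
  have hent : ∀ i j, i ≠ 0 → ent 11 248 v i j = 0 := by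
    intro i j h
    unfold ent
    rw [hi i h]
    simp [dg]
  refine ⟨⟨?_, ?_⟩, ?_, ?_⟩
  · exact lt_of_lt_of_le h0 (Nat.pow_le_pow_right (by norm_num) (by norm_num))
  · intro i _ j hj
    rcases Nat.eq_zero_or_pos i with h | h
    · subst h
      exact h2 0 (by norm_num) j hj
    · rw [hent i j (by omega)]
      norm_num
  · rfl
  · intro i h
    ext j
    change ((ent 11 248 v i j : ℕ) : ZMod 3) = 0
    rw [hent i j (by intro h'; exact h (Fin.ext h'))]
    exact Nat.cast_zero

/-- **The commutant is scalar.** -/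
theorem scalar_of {A B K V W v : ℕ} (hA : Ok A) (hB : Ok B) (hK : Ok K) (hV : Ok V) (hW : Ok W) (hv : VOk v)
    {l : List (ℕ × Bool)} (hl : l.length = 247)
    (hcert : Nat.beq (addM (mul (addM (addM (mul A B) (mul B A)) idm) K) v) idm = true)
    (hnul : Nat.beq (actV v (addM (addM (mul A B) (mul B A)) idm)) 0 = true)
    (hv0 : Nat.beq (Nat.mod V (Nat.pow 2 2728)) v = true)
    (hspin : spin A B V l = true) (hinv : Nat.beq (mul W V) idm = true)
    (g : Matrix (Fin 248) (Fin 248) (ZMod 3)) (hgA : mat A * g = g * mat A) (hgB : mat B * g = g * mat B) :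
    ∃ c : ZMod 3, g = c • (1 : Matrix (Fin 248) (Fin 248) (ZMod 3)) := by
  obtain ⟨o1, e1⟩ := mul_spec hA hB
  obtain ⟨o2, e2⟩ := mul_spec hB hA
  obtain ⟨o3, e3⟩ := addM_spec o1 o2
  obtain ⟨o4, e4⟩ := addM_spec o3 idm_spec.1
  set N := addM (addM (mul A B) (mul B A)) idm with hN
  obtain ⟨o5, e5⟩ := mul_spec o4 hK
  obtain ⟨o6, m0, mi⟩ := row_zero_of hv
  obtain ⟨-, e7⟩ := addM_spec o5 o6
  rw [Nat.eq_of_beq_eq_true hcert, e5, idm_spec.2] at e7
  have hNg : mat N * g = g * mat N := by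
    rw [e4, e3, e1, e2, idm_spec.2, add_mul, add_mul, mul_add, mul_add, one_mul, mul_one, mul_assoc, hgB,
      ← mul_assoc, hgA, mul_assoc, mul_assoc, hgA, ← mul_assoc (mat B), hgB, mul_assoc]
  -- the null space of `N`
  have key : ∀ u : Fin 248 → ZMod 3, Matrix.vecMul u (mat N) = 0 → u = u 0 • vec v := by
    intro u hu
    have h1 := congrArg (Matrix.vecMul u) e7
    rw [Matrix.vecMul_one, Matrix.vecMul_add, ← Matrix.vecMul_vecMul, hu, Matrix.zero_vecMul, zero_add] at h1
    rw [h1]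
    ext j
    rw [Matrix.vecMul, dotProduct, Finset.sum_eq_single (0 : Fin 248)]
    · rw [← m0]
      have h2 : Matrix.vecMul u (mat v) 0 = u 0 := by rw [← h1]
      rw [h2]
      rfl
    · intro i _ hi
      rw [mi i hi]
      exact mul_zero _
    · intro h
      exact absurd (Finset.mem_univ _) h
  obtain ⟨o8, e8⟩ := actV_spec hv o4
  have hvN : Matrix.vecMul (vec v) (mat N) = 0 := by
    rw [← e8, Nat.eq_of_beq_eq_true hnul]
    ext j
    change ((ent 11 248 0 0 j : ℕ) : ZMod 3) = 0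
    simp [ent, dg]
  have hc := key (Matrix.vecMul (vec v) g) (by
    rw [Matrix.vecMul_vecMul, ← hNg, ← Matrix.vecMul_vecMul, hvN, Matrix.zero_vecMul])
  set c : ZMod 3 := Matrix.vecMul (vec v) g 0 with hcdef
  refine ⟨c, ?_⟩
  -- rows of `V`
  rw [spin_eq] at hspin
  obtain ⟨oX, eX⟩ := mul_spec hV hA
  obtain ⟨oY, eY⟩ := mul_spec hV hB
  have hrow0 : row V 0 = vec v := row_congr (dg_zero_of hv0)
  have hrows : ∀ i, i < 248 → Matrix.vecMul (row V i) g = c • row V i := by
    intro i
    induction i using Nat.strong_induction_on with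
    | _ i ih =>
      intro hi
      rcases Nat.eq_zero_or_pos i with h0 | h0
      · subst h0
        rw [hrow0]
        exact hc
      · obtain ⟨q, hq1, hq2⟩ := chkPar_spec rm_eq l 1 hspin (i - 1) (by omega)
        have e : 1 + (i - 1) = i := by omega
        rw [e] at hq1 hq2
        have hq3 := ih q.1 hq1 (by omega)
        have hi' : q.1 < 248 := by omega
        rcases hb : q.2 with _ | _
        · rw [hb] at hq2
          have h1 : row V i = Matrix.vecMul (row V q.1) (mat A) := by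
            rw [row_congr hq2]
            have h2 := congrFun eX ⟨q.1, hi'⟩
            rw [mat_row, Matrix.mul_apply_eq_vecMul, mat_row] at h2
            exact h2
          rw [h1, Matrix.vecMul_vecMul, hgA, ← Matrix.vecMul_vecMul, hq3, Matrix.smul_vecMul]
        · rw [hb] at hq2
          have h1 : row V i = Matrix.vecMul (row V q.1) (mat B) := by
            rw [row_congr hq2]
            have h2 := congrFun eY ⟨q.1, hi'⟩
            rw [mat_row, Matrix.mul_apply_eq_vecMul, mat_row] at h2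
            exact h2
          rw [h1, Matrix.vecMul_vecMul, hgB, ← Matrix.vecMul_vecMul, hq3, Matrix.smul_vecMul]
  have hVg : mat V * g = c • mat V := by
    ext i j
    have h1 := congrFun (hrows i i.2) j
    rw [← mat_row] at h1
    exact h1
  obtain ⟨-, eW⟩ := mul_spec hW hV
  rw [Nat.eq_of_beq_eq_true hinv, idm_spec.2] at eW
  calc g = (mat W * mat V) * g := by rw [← eW, one_mul]
    _ = mat W * (c • mat V) := by rw [mul_assoc, hVg]
    _ = c • (1 : Matrix (Fin 248) (Fin 248) (ZMod 3)) := by rw [Matrix.mul_smul, ← eW]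

end Cfsg.Agent.H68.MeetThTool
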