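import Cfsg.Agent.H68.MeetPack
import Cfsg.Agent.H68.MeetThTool
import Cfsg.Agent.H68.MeetThThreeData
import Cfsg.Agent.H68.MeetTh
import Cfsg.Agent.Th.Low3
import Cfsg.Agent.Th.Main1700

/-!
# Trivial Sylow intersections: Th, `p = 3` (helper68, S2484)

`zH` is a central element (class 3B) of the Sylow 3-subgroup of `Th.Low3`; a matrix commuting with `zH` and `xH⁻¹ zH xH` is a
scalar (248-dimensional representation over the field with three elements), hence `C(zH) ∩ C(xH⁻¹ zH xH) = 1`.
-/

set_option autoImplicit false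
set_option Elab.async false
set_option maxRecDepth 100000
set_option maxHeartbeats 400000

namespace Cfsg.Agent.H68.MeetThThree

open Cfsg Cfsg.Agent.Th.MatEngine Cfsg.Agent.Th.Words248 Cfsg.Agent.Th.Gen248 Cfsg.Agent.Th.Hom248
open Cfsg.Agent.H68.MeetB Cfsg.Agent.H68.MeetPack Cfsg.Agent.H68.MeetThTool Cfsg.Agent.H903.SylMeet
open Cfsg.Agent.H68.MeetThThreeData
open Subgroup

/-- the element of order 3 -/
noncomputable def A : ℕ := expd A2
/-- the conjugate -/
noncomputable def B : ℕ := expd B2
/-- certificate matrix -/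
noncomputable def K : ℕ := expd K2
/-- images of the vector -/
noncomputable def V : ℕ := expd V2
/-- inverse matrix -/
noncomputable def W : ℕ := expd W2

theorem okA : Ok A := ok_of (by decide +kernel) (by decide +kernel) (by decide +kernel)
theorem okB : Ok B := ok_of (by decide +kernel) (by decide +kernel) (by decide +kernel)
theorem okK : Ok K := ok_of (by decide +kernel) (by decide +kernel) (by decide +kernel)
theorem okV : Ok V := ok_of (by decide +kernel) (by decide +kernel) (by decide +kernel)
theorem okW : Ok W := ok_of (by decide +kernel) (by decide +kernel) (by decide +kernel)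
theorem okv : VOk v := vok_of (by decide +kernel) (by decide +kernel) (by decide +kernel)

theorem cert1 : Nat.beq (addM (mul (addM (addM (mul A B) (mul B A)) idm) K) v) idm = true := by decide +kernel
theorem nul1 : Nat.beq (actV v (addM (addM (mul A B) (mul B A)) idm)) 0 = true := by decide +kernel
theorem row1 : Nat.beq (Nat.mod V (Nat.pow 2 2728)) v = true := by decide +kernel
theorem spin1 : spin A B V par = true := by decide +kernel
theorem inv1 : Nat.beq (mul W V) idm = true := by decide +kernel

theorem scalar (g : Matrix (Fin 248) (Fin 248) (ZMod 3)) (hgA : mat A * g = g * mat A) (hgB : mat B * g = g * mat B) :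
    ∃ c : ZMod 3, g = c • (1 : Matrix (Fin 248) (Fin 248) (ZMod 3)) :=
  scalar_of okA okB okK okV okW okv (l := par) rfl cert1 nul1 row1 spin1 inv1 g hgA hgB

/-- list of letters as a word -/
def toWd : List Lt → Wd
  | [] => .one
  | l :: w => .mul (.g l) (toWd w)

theorem evG_toWd (w : List Lt) : evG (toWd w) = glW w := by
  induction w with
  | nil => rfl
  | cons l w ih =>
    change gl l * evG (toWd w) = gl l * glW w
    rw [ih]

/-- the word of the central element -/
def zw : Wd := toWd [.S, .e, .d, .s, .t, .e, .S, .T, .s, .e, .T, .S, .d, .e, .s, .t]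

/-- the word of the conjugating element -/
def xw : Wd := toWd [.s, .c, .t, .b, .U, .s]

/-- the central element -/
noncomputable def zH : Spor.Th := PresentedGroup.mk _ (toFree zw)

/-- the conjugating element -/
noncomputable def xH : Spor.Th := PresentedGroup.mk _ (toFree xw)

theorem chkA : Nat.beq (evN false zw) A = true := by decide +kernel
theorem chkB : Nat.beq (mul (evN false xw) B) (mul A (evN false xw)) = true := by decide +kernel

theorem mat_A : mat A = (rho zH : Matrix (Fin 248) (Fin 248) (ZMod 3)) := by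
  rw [zH, rho_mk, ← (evN_spec zw).1.2, Nat.eq_of_beq_eq_true chkA]

theorem mat_B : mat B = (rho (xH⁻¹ * zH * xH) : Matrix (Fin 248) (Fin 248) (ZMod 3)) := by
  have hx := (evN_spec xw).1
  have h1 := (mul_spec hx.1 okB).2
  rw [Nat.eq_of_beq_eq_true chkB, (mul_spec okA hx.1).2, hx.2, mat_A] at h1
  have h2 : (evG xw : GL (Fin 248) (ZMod 3)) = rho xH := (rho_mk xw).symm
  rw [h2] at h1
  calc mat B = ((rho xH)⁻¹ : GL (Fin 248) (ZMod 3)) * ((rho xH : Matrix (Fin 248) (Fin 248) (ZMod 3)) * mat B) := by
        rw [← mul_assoc, Units.inv_mul, one_mul]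
    _ = (rho (xH⁻¹ * zH * xH) : Matrix (Fin 248) (Fin 248) (ZMod 3)) := by
        rw [← h1, map_mul, map_mul, map_inv, Units.val_mul, Units.val_mul, mul_assoc]

theorem trivial_cent {y : Spor.Th} (h1 : y * zH = zH * y)
    (h2 : y * (xH⁻¹ * zH * xH) = (xH⁻¹ * zH * xH) * y) : y = 1 := by
  obtain ⟨c, hc⟩ := scalar (rho y : Matrix (Fin 248) (Fin 248) (ZMod 3))
    (by rw [mat_A, ← Units.val_mul, ← Units.val_mul, ← map_mul, ← map_mul, h1])
    (by rw [mat_B, ← Units.val_mul, ← Units.val_mul, ← map_mul, ← map_mul, h2])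
  have h3 : y ∈ center Spor.Th := by
    rw [mem_center_iff]
    intro g
    apply Cfsg.Agent.Th.Main1700.rho_injective
    apply Units.ext
    rw [map_mul, map_mul, Units.val_mul, Units.val_mul, hc, mul_smul_comm, smul_mul_assoc, mul_one, one_mul]
  rw [Cfsg.Agent.Th.Main1700.center_eq_bot] at h3
  exact h3

/-! ### the Sylow subgroup -/

/-- check that a word commutes with the packed matrix -/
noncomputable def commB (w : Wd) (a : ℕ) : Bool :=
  force (evN false w) fun x => force a fun a' => Nat.beq (mul x a') (mul a' x)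

theorem comm_of {w : List Lt} (h : commB (toWd w) A = true) : glW w * rho zH = rho zH * glW w := by
  unfold commB at h
  rw [force_eq, force_eq] at h
  have hx := (evN_spec (toWd w)).1
  have h1 := (mul_spec hx.1 okA).2
  rw [Nat.eq_of_beq_eq_true h, (mul_spec okA hx.1).2, hx.2, mat_A, evG_toWd] at h1
  apply Units.ext
  rw [Units.val_mul, Units.val_mul]
  exact h1.symm

theorem comm0 : commB (toWd Cfsg.Agent.Th.Low3.w0.1) A = true := by decide +kernel
theorem comm1 : commB (toWd Cfsg.Agent.Th.Low3.w1.1) A = true := by decide +kernel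
theorem comm2 : commB (toWd Cfsg.Agent.Th.Low3.w2.1) A = true := by decide +kernel
theorem comm3 : commB (toWd Cfsg.Agent.Th.Low3.w3.1) A = true := by decide +kernel
theorem comm4 : commB (toWd Cfsg.Agent.Th.Low3.w4.1) A = true := by decide +kernel
theorem comm5 : commB (toWd Cfsg.Agent.Th.Low3.w5.1) A = true := by decide +kernel
theorem comm6 : commB (toWd Cfsg.Agent.Th.Low3.w6.1) A = true := by decide +kernel
theorem comm7 : commB (toWd Cfsg.Agent.Th.Low3.w7.1) A = true := by decide +kernel
theorem comm8 : commB (toWd Cfsg.Agent.Th.Low3.w8.1) A = true := by decide +kernel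
theorem comm9 : commB (toWd Cfsg.Agent.Th.Low3.w9.1) A = true := by decide +kernel
theorem comm10 : commB (toWd Cfsg.Agent.Th.Low3.w10.1) A = true := by decide +kernel
theorem comm11 : commB (toWd Cfsg.Agent.Th.Low3.w11.1) A = true := by decide +kernel
theorem comm12 : commB (toWd Cfsg.Agent.Th.Low3.w12.1) A = true := by decide +kernel
theorem comm13 : commB (toWd Cfsg.Agent.Th.Low3.w13.1) A = true := by decide +kernel

theorem gen_le : Cfsg.Agent.Th.OrbitChain.gen Cfsg.Agent.Th.Low3.L0 ≤
    centralizer ({rho zH} : Set (GL (Fin 248) (ZMod 3))) := by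
  unfold Cfsg.Agent.Th.OrbitChain.gen
  rw [closure_le]
  rintro g ⟨x, hx, rfl⟩
  rw [SetLike.mem_coe, mem_centralizer_singleton_iff]
  simp only [Cfsg.Agent.Th.Low3.L0, Cfsg.Agent.Th.Low3.L1, Cfsg.Agent.Th.Low3.L2, Cfsg.Agent.Th.Low3.L3,
    Cfsg.Agent.Th.Low3.L4, Cfsg.Agent.Th.Low3.L5, Cfsg.Agent.Th.Low3.L6, Cfsg.Agent.Th.Low3.L7, List.mem_cons,
    List.not_mem_nil, or_false] at hx
  rcases hx with rfl | rfl | rfl | rfl | rfl | rfl | rfl | rfl | rfl | rfl | rfl | rfl | rfl | rfl

  · exact comm_of comm13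
  · exact comm_of comm12
  · exact comm_of comm11
  · exact comm_of comm10
  · exact comm_of comm5
  · exact comm_of comm6
  · exact comm_of comm7
  · exact comm_of comm8
  · exact comm_of comm9
  · exact comm_of comm2
  · exact comm_of comm3
  · exact comm_of comm4
  · exact comm_of comm0
  · exact comm_of comm1

theorem le_map_cent {T H : Type*} [Group T] [Group H] (f : T →* H) (hf : Function.Injective f) {z : T} {P : Subgroup H}
    (h1 : P ≤ f.range) (h2 : P ≤ centralizer ({f z} : Set H)) : P ≤ (centralizer ({z} : Set T)).map f := by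
  intro g hg
  obtain ⟨y, rfl⟩ := h1 hg
  refine ⟨y, ?_, rfl⟩
  rw [SetLike.mem_coe, mem_centralizer_singleton_iff]
  apply hf
  rw [map_mul, map_mul]
  exact mem_centralizer_singleton_iff.1 (h2 hg)

theorem dvd_cent : 59049 ∣ Nat.card (centralizer ({zH} : Set Spor.Th)) := by
  have h1 : Cfsg.Agent.Th.OrbitChain.gen Cfsg.Agent.Th.Low3.L0 ≤ (centralizer ({zH} : Set Spor.Th)).map rho :=
    le_map_cent rho Cfsg.Agent.Th.Main1700.rho_injective (Cfsg.Agent.Th.Lower.gen_le _) gen_le
  have h2 : Nat.card ((centralizer ({zH} : Set Spor.Th)).map rho) = Nat.card (centralizer ({zH} : Set Spor.Th)) :=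
    card_map_of_injective Cfsg.Agent.Th.Main1700.rho_injective
  have h3 := card_dvd_of_le h1
  have h4 := Cfsg.Agent.Th.Low3.div0
  generalize Nat.card (Cfsg.Agent.Th.OrbitChain.gen Cfsg.Agent.Th.Low3.L0) = m at h3 h4
  generalize Nat.card ((centralizer ({zH} : Set Spor.Th)).map rho) = k at h2 h3
  rw [← h2]
  exact h4.trans h3

theorem not_dvd_index : ¬ 3 ∣ (centralizer ({zH} : Set Spor.Th)).index := by
  have hfin : Finite Spor.Th := Nat.finite_of_card_ne_zero (by rw [MeetTh.card_Th]; norm_num)
  intro h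
  have h2 := mul_dvd_mul dvd_cent h
  rw [card_mul_index, MeetTh.card_Th] at h2
  norm_num at h2

theorem meetIn_th : MeetIn 3 Spor.Th := by
  have hfin : Finite Spor.Th := Nat.finite_of_card_ne_zero (by rw [MeetTh.card_Th]; norm_num)
  have : Fact (Nat.Prime 3) := ⟨by norm_num⟩
  exact MeetIn.of_center' (z := zH) (x := xH) not_dvd_index fun y h1 h2 => trivial_cent h1 h2

theorem meetIn_Th {G : Type*} [Group G] (h : Spor.IsoTh G) : MeetIn 3 G := by
  obtain ⟨e⟩ := h
  exact meetIn_th.congr e.symm

theorem meet3_Th {G : Type*} [Group G] [Finite G] [IsSimpleGroup G] (h : Spor.IsoTh G) : Meet 3 G := by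
  have : Fact (Nat.Prime 3) := ⟨by norm_num⟩
  refine MeetIn.meet ?_ ?_ (meetIn_Th h)
  · obtain ⟨e⟩ := h
    exact (show Cfsg.Agent.CpAut.AutInner 3 Spor.Th from
      fun x _ => Cfsg.Agent.KFacts.Th.Main.inner x).congr e.symm
  · obtain ⟨e⟩ := h
    apply not_comm_of_card
    rw [Nat.card_congr e.toEquiv, MeetTh.card_Th]
    norm_num

end Cfsg.Agent.H68.MeetThThree
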